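import Cfsg.Agent.Lib.PermComp.OutP.ONo.Data

set_option autoImplicit false
set_option maxRecDepth 100000
set_option maxHeartbeats 0

namespace Cfsg.Agent.Lib.PermComp.OutP.ONo

open Cfsg Cfsg.Agent.Lib.PermComp.OutP
open Cfsg.Agent.Lib.PermComp.Core (force)
open Cfsg.Agent.Lib.PermComp.Kron (rangeAll rangeAll_spec)

theorem hlt_ck : rangeAll (fun g => Core.allL (fun a => Nat.blt a g) (prog g)) 0 41 = true := by decide +kernel
theorem hltv_ck : rangeAll (fun g => Core.allL (fun a => Nat.blt a 20) (prog g)) 20 21 = true := by decide +kernel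

theorem dL0_lv : rangeAll (levOK n F dL0) 0 122760 = true := by decide +kernel
theorem dL0_fx : fixOK F 0 8 [] = true := by decide +kernel
theorem dL1_lv : rangeAll (levOK n F dL1) 0 58653 = true := by decide +kernel
theorem dL1_fx : fixOK F 2 6 [0] = true := by decide +kernel
theorem dL2_lv : rangeAll (levOK n F dL2) 0 32 = true := by decide +kernel
theorem dL2_fx : fixOK F 20 3 [1, 0] = true := by decide +kernel
theorem dL3_lv : rangeAll (levOK n F dL3) 0 2 = true := by decide +kernel
theorem dL3_fx : fixOK F 23 1 [2, 1, 0] = true := by decide +kernel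
theorem cL0_lv : rangeAll (levOK n F cL0) 0 120 = true := by decide +kernel
theorem cL0_fx : fixOK F 24 2 [] = true := by decide +kernel
theorem cL0_cm : rangeAll (fun g => Core.allL (fun b => Nat.beq (F g (F 8 b)) (F 8 (F g b))) Bs) 24 2 = true := by decide +kernel
theorem cL1_lv : rangeAll (levOK n F cL1) 0 16 = true := by decide +kernel
theorem cL1_fx : fixOK F 26 2 [16] = true := by decide +kernel
theorem cL1_cm : rangeAll (fun g => Core.allL (fun b => Nat.beq (F g (F 8 b)) (F 8 (F g b))) Bs) 26 2 = true := by decide +kernel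
theorem cL2_lv : rangeAll (levOK n F cL2) 0 6 = true := by decide +kernel
theorem cL2_fx : fixOK F 28 1 [63, 16] = true := by decide +kernel
theorem cL2_cm : rangeAll (fun g => Core.allL (fun b => Nat.beq (F g (F 8 b)) (F 8 (F g b))) Bs) 28 1 = true := by decide +kernel
theorem cL3_lv : rangeAll (levOK n F cL3) 0 2 = true := by decide +kernel
theorem cL3_fx : fixOK F 29 1 [154, 63, 16] = true := by decide +kernel
theorem cL3_cm : rangeAll (fun g => Core.allL (fun b => Nat.beq (F g (F 8 b)) (F 8 (F g b))) Bs) 29 1 = true := by decide +kernel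
theorem cL4_lv : rangeAll (levOK n F cL4) 0 7 = true := by decide +kernel
theorem cL4_fx : fixOK F 30 1 [74006, 154, 63, 16] = true := by decide +kernel
theorem cL4_cm : rangeAll (fun g => Core.allL (fun b => Nat.beq (F g (F 8 b)) (F 8 (F g b))) Bs) 30 1 = true := by decide +kernel
theorem zinv_ck : rangeAll (fun g => Core.allL (fun b => Nat.beq (F g (F g b)) b) Bs) 2 16 = true := by decide +kernel
theorem b2_ck : Core.allL (fun b => Nat.beq (F 8 (F 8 b)) b) Bs = true := by decide +kernel
theorem Ap_ck : Core.allL (fun b => Nat.beq (powA (F 18) 31 b) b) Bs = true := by decide +kernel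
theorem Ai_ck : Core.allL (fun b => Nat.beq (F 19 (F 18 b)) b) Bs = true := by decide +kernel
theorem b1_ck : F 8 1 ≠ 1 := by decide +kernel
theorem A1_ck : F 18 0 ≠ 0 := by decide +kernel
theorem hid_ck : rangeAll (fun q => Nat.beq (IX (F 18 q)) (adv 31 1 (IX q))) 0 122760 = true := by decide +kernel
theorem hU1_ck : rangeAll (fun e => Nat.beq (U1 e) (powA (F 18) e 118330)) 0 31 = true := by decide +kernel
theorem hU2_ck : rangeAll (fun e => Nat.beq (U2 e) (powA (F 18) e 11720)) 0 31 = true := by decide +kernel
theorem hU3_ck : rangeAll (fun e => Nat.beq (U3 e) (powA (F 18) e 91933)) 0 31 = true := by decide +kernel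
theorem rel_ck : Core.allL (fun r => Core.allL (relAll (F 18) (F 8) r.1 r.2.1) Bs) rs = true := by decide +kernel
theorem wc_ck : rangeAll (fun c => Core.allL (fun b => Nat.beq (wApp F (wc c) b) (F c b)) Bs) 0 8 = true := by decide +kernel
theorem cr_ck : Core.allL (fun b => Nat.beq (F 40 (F 18 b)) (powA (F 18) 7 (F 40 b))) Bs = true := by decide +kernel

end Cfsg.Agent.Lib.PermComp.OutP.ONo
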