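import Cfsg.Agent.Lib.PermComp.OutP.ONo.Data

set_option autoImplicit false
set_option maxRecDepth 100000
set_option maxHeartbeats 0

namespace Cfsg.Agent.Lib.PermComp.OutP.ONo

open Cfsg Cfsg.Agent.Lib.PermComp.OutP
open Cfsg.Agent.Lib.PermComp.Core (force)
open Cfsg.Agent.Lib.PermComp.Kron (rangeAll rangeAll_spec)

theorem mc_c84 : rangeAll mP 84000 1000 = true := by decide +kernel
theorem mc_c85 : rangeAll mP 85000 1000 = true := by decide +kernel
theorem mc_c86 : rangeAll mP 86000 1000 = true := by decide +kernel
theorem mc_c87 : rangeAll mP 87000 1000 = true := by decide +kernel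
theorem mc_c88 : rangeAll mP 88000 1000 = true := by decide +kernel
theorem mc_c89 : rangeAll mP 89000 1000 = true := by decide +kernel

end Cfsg.Agent.Lib.PermComp.OutP.ONo
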