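import Cfsg.Agent.Lib.PermComp.OutP.ONo.Data

set_option autoImplicit false
set_option maxRecDepth 100000
set_option maxHeartbeats 0

namespace Cfsg.Agent.Lib.PermComp.OutP.ONo

open Cfsg Cfsg.Agent.Lib.PermComp.OutP
open Cfsg.Agent.Lib.PermComp.Core (force)
open Cfsg.Agent.Lib.PermComp.Kron (rangeAll rangeAll_spec)

theorem mc_c24 : rangeAll mP 24000 1000 = true := by decide +kernel
theorem mc_c25 : rangeAll mP 25000 1000 = true := by decide +kernel
theorem mc_c26 : rangeAll mP 26000 1000 = true := by decide +kernel
theorem mc_c27 : rangeAll mP 27000 1000 = true := by decide +kernel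
theorem mc_c28 : rangeAll mP 28000 1000 = true := by decide +kernel
theorem mc_c29 : rangeAll mP 29000 1000 = true := by decide +kernel

end Cfsg.Agent.Lib.PermComp.OutP.ONo
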