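import Cfsg.Agent.Lib.PermComp.OutP.ONo.Data

set_option autoImplicit false
set_option maxRecDepth 100000
set_option maxHeartbeats 0

namespace Cfsg.Agent.Lib.PermComp.OutP.ONo

open Cfsg Cfsg.Agent.Lib.PermComp.OutP
open Cfsg.Agent.Lib.PermComp.Core (force)
open Cfsg.Agent.Lib.PermComp.Kron (rangeAll rangeAll_spec)

theorem srt_c0 : sortR (fun j => Nat.div (WW j) 1024) 0 92168 = true := by decide +kernel
theorem rc_c0 : rangeAll (rchk F 18 DD rs [DD.r0]) 0 10000 = true := by decide +kernel
theorem rc_c1 : rangeAll (rchk F 18 DD rs [DD.r0]) 10000 10000 = true := by decide +kernel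
theorem rc_c2 : rangeAll (rchk F 18 DD rs [DD.r0]) 20000 10000 = true := by decide +kernel
theorem rc_c3 : rangeAll (rchk F 18 DD rs [DD.r0]) 30000 10000 = true := by decide +kernel
theorem rc_c4 : rangeAll (rchk F 18 DD rs [DD.r0]) 40000 10000 = true := by decide +kernel
theorem rc_c5 : rangeAll (rchk F 18 DD rs [DD.r0]) 50000 10000 = true := by decide +kernel
theorem rc_c6 : rangeAll (rchk F 18 DD rs [DD.r0]) 60000 10000 = true := by decide +kernel
theorem rc_c7 : rangeAll (rchk F 18 DD rs [DD.r0]) 70000 10000 = true := by decide +kernel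
theorem rc_c8 : rangeAll (rchk F 18 DD rs [DD.r0]) 80000 10000 = true := by decide +kernel
theorem rc_c9 : rangeAll (rchk F 18 DD rs [DD.r0]) 90000 2169 = true := by decide +kernel

end Cfsg.Agent.Lib.PermComp.OutP.ONo
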