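import Cfsg.Agent.Lib.PermComp.OutP.ONo.Data

set_option autoImplicit false
set_option maxRecDepth 100000
set_option maxHeartbeats 0

namespace Cfsg.Agent.Lib.PermComp.OutP.ONo

open Cfsg Cfsg.Agent.Lib.PermComp.OutP
open Cfsg.Agent.Lib.PermComp.Core (force)
open Cfsg.Agent.Lib.PermComp.Kron (rangeAll rangeAll_spec)

theorem hp_8 : progR F 8 (prog 8) 0 122760 = true := by decide +kernel
theorem hp_9 : progR F 9 (prog 9) 0 122760 = true := by decide +kernel
theorem hp_10 : progR F 10 (prog 10) 0 122760 = true := by decide +kernel
theorem hp_11 : progR F 11 (prog 11) 0 122760 = true := by decide +kernel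
theorem hp_12 : progR F 12 (prog 12) 0 122760 = true := by decide +kernel
theorem hp_13 : progR F 13 (prog 13) 0 122760 = true := by decide +kernel
theorem hp_14 : progR F 14 (prog 14) 0 122760 = true := by decide +kernel
theorem hp_15 : progR F 15 (prog 15) 0 122760 = true := by decide +kernel

end Cfsg.Agent.Lib.PermComp.OutP.ONo
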