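import Cfsg.Agent.Lib.PermComp.OutP.ONo.Data

set_option autoImplicit false
set_option maxRecDepth 100000
set_option maxHeartbeats 0

namespace Cfsg.Agent.Lib.PermComp.OutP.ONo

open Cfsg Cfsg.Agent.Lib.PermComp.OutP
open Cfsg.Agent.Lib.PermComp.Core (force)
open Cfsg.Agent.Lib.PermComp.Kron (rangeAll rangeAll_spec)

theorem hp_16 : progR F 16 (prog 16) 0 122760 = true := by decide +kernel
theorem hp_17 : progR F 17 (prog 17) 0 122760 = true := by decide +kernel
theorem hp_18 : progR F 18 (prog 18) 0 122760 = true := by decide +kernel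
theorem hp_19 : progR F 19 (prog 19) 0 122760 = true := by decide +kernel

end Cfsg.Agent.Lib.PermComp.OutP.ONo
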