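import Cfsg.Agent.Lib.PermComp.OutP.ONo.Data
import Cfsg.Agent.Lib.TC.D.ONa.Tab

set_option autoImplicit false
set_option maxRecDepth 100000
set_option maxHeartbeats 0

namespace Cfsg.Agent.Lib.PermComp.OutP.ONo

open Cfsg Cfsg.Agent.Lib.PermComp.OutP
open Cfsg.Agent.Lib.PermComp.Kron (rangeAll rangeAll_spec)
open Cfsg.Agent.Lib.TC.D.ONa.Tab (pt)

theorem hF_0 : rangeAll (fun q => Nat.beq (F 0 q) (pt.T 0 q)) 0 122760 = true := by decide +kernel
theorem hF_1 : rangeAll (fun q => Nat.beq (F 1 q) (pt.T 1 q)) 0 122760 = true := by decide +kernel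
theorem hF_2 : rangeAll (fun q => Nat.beq (F 2 q) (pt.T 2 q)) 0 122760 = true := by decide +kernel
theorem hF_3 : rangeAll (fun q => Nat.beq (F 3 q) (pt.T 3 q)) 0 122760 = true := by decide +kernel
theorem hF_4 : rangeAll (fun q => Nat.beq (F 4 q) (pt.T 4 q)) 0 122760 = true := by decide +kernel
theorem hF_5 : rangeAll (fun q => Nat.beq (F 5 q) (pt.T 5 q)) 0 122760 = true := by decide +kernel
theorem hF_6 : rangeAll (fun q => Nat.beq (F 6 q) (pt.T 6 q)) 0 122760 = true := by decide +kernel
theorem hF_7 : rangeAll (fun q => Nat.beq (F 7 q) (pt.T 7 q)) 0 122760 = true := by decide +kernel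

theorem hF : ∀ c < 8, ∀ q < 122760, F c q = pt.T c q := by
  intro c hc q hq
  have h : rangeAll (fun q => Nat.beq (F c q) (pt.T c q)) 0 122760 = true := by
    interval_cases c
    · exact hF_0
    · exact hF_1
    · exact hF_2
    · exact hF_3
    · exact hF_4
    · exact hF_5
    · exact hF_6
    · exact hF_7
  exact Nat.eq_of_beq_eq_true (rangeAll_spec h q (Nat.zero_le _) (by omega))

theorem hinv_ck : rangeAll (fun c => Core.allL (fun b => Nat.beq (wApp F (wY (Cfsg.Agent.Lib.TC.G.ON.invF c)) (wApp F (wY c) b)) b) Bs) 0 8 = true := by decide +kernel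
theorem hrelY_ck : Core.allL (fun l => Core.allL (fun b => Nat.beq (valY F wY l b) b) Bs) Cfsg.Agent.Lib.TC.G.ON.rels = true := by decide +kernel
theorem hAY_ck : Core.allL (fun b => Nat.beq (F 18 (valY F wY (prog 18).reverse b)) b) Bs = true := by decide +kernel
theorem hwY_ck : rangeAll (fun c => Core.allL (fun a => Nat.blt a 41) (wY c)) 0 8 = true := by decide +kernel

end Cfsg.Agent.Lib.PermComp.OutP.ONo
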