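import Cfsg.Agent.Lib.PermComp.OutP.Master4
import Cfsg.Agent.Lib.PermComp.OutP.ONo.DataP0
import Cfsg.Agent.Lib.PermComp.OutP.ONo.DataP1
import Cfsg.Agent.Lib.PermComp.OutP.ONo.DataP2
import Cfsg.Agent.Lib.PermComp.OutP.ONo.DataP3
import Cfsg.Agent.Lib.PermComp.OutP.ONo.DataP4

set_option autoImplicit false
set_option maxRecDepth 100000
set_option maxHeartbeats 0

namespace Cfsg.Agent.Lib.PermComp.OutP.ONo

open Cfsg Cfsg.Agent.Lib.PermComp.OutP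
open Cfsg.Agent.Lib.PermComp.Core (force)
open Cfsg.Agent.Lib.PermComp.Kron (rangeAll rangeAll_spec)

def n : Nat := 122760
noncomputable def TT_T : Nat := (Nat.lor (Nat.lor (Nat.lor (Nat.lor (Nat.lor (Nat.lor (Nat.lor (Nat.lor (Nat.lor (Nat.lor (Nat.lor TT_p0 (Nat.shiftLeft TT_p1 15997)) (Nat.shiftLeft (Nat.lor TT_p2 (Nat.shiftLeft (Nat.lor TT_p3 (Nat.shiftLeft TT_p4 15997)) 15997)) 31994)) (Nat.shiftLeft (Nat.lor (Nat.lor TT_p5 (Nat.shiftLeft TT_p6 15997)) (Nat.shiftLeft (Nat.lor TT_p7 (Nat.shiftLeft (Nat.lor TT_p8 (Nat.shiftLeft TT_p9 15997)) 15997)) 31994)) 79985)) (Nat.shiftLeft (Nat.lor (Nat.lor (Nat.lor TT_p10 (Nat.shiftLeft TT_p11 15997)) (Nat.shiftLeft (Nat.lor TT_p12 (Nat.shiftLeft (Nat.lor TT_p13 (Nat.shiftLeft TT_p14 15997)) 15997)) 31994)) (Nat.shiftLeft (Nat.lor (Nat.lor TT_p15 (Nat.shiftLeft TT_p16 15997)) (Nat.shiftLeft (Nat.lor TT_p17 (Nat.shiftLeft (Nat.lor TT_p18 (Nat.shiftLeft TT_p19 15997)) 15997)) 31994)) 79985)) 159970)) (Nat.shiftLeft (Nat.lor (Nat.lor (Nat.lor (Nat.lor TT_p20 (Nat.shiftLeft TT_p21 15997)) (Nat.shiftLeft (Nat.lor TT_p22 (Nat.shiftLeft (Nat.lor TT_p23 (Nat.shiftLeft TT_p24 15997)) 15997)) 31994)) (Nat.shiftLeft (Nat.lor (Nat.lor TT_p25 (Nat.shiftLeft TT_p26 15997)) (Nat.shiftLeft (Nat.lor TT_p27 (Nat.shiftLeft (Nat.lor TT_p28 (Nat.shiftLeft TT_p29 15997)) 15997)) 31994)) 79985)) (Nat.shiftLeft (Nat.lor (Nat.lor (Nat.lor TT_p30 (Nat.shiftLeft TT_p31 15997)) (Nat.shiftLeft (Nat.lor TT_p32 (Nat.shiftLeft (Nat.lor TT_p33 (Nat.shiftLeft TT_p34 15997)) 15997)) 31994)) (Nat.shiftLeft (Nat.lor (Nat.lor TT_p35 (Nat.shiftLeft TT_p36 15997)) (Nat.shiftLeft (Nat.lor TT_p37 (Nat.shiftLeft (Nat.lor TT_p38 (Nat.shiftLeft TT_p39 15997)) 15997)) 31994)) 79985)) 159970)) 319940)) (Nat.shiftLeft (Nat.lor (Nat.lor (Nat.lor (Nat.lor (Nat.lor TT_p40 (Nat.shiftLeft TT_p41 15997)) (Nat.shiftLeft (Nat.lor TT_p42 (Nat.shiftLeft (Nat.lor TT_p43 (Nat.shiftLeft TT_p44 15997)) 15997)) 31994)) (Nat.shiftLeft (Nat.lor (Nat.lor TT_p45 (Nat.shiftLeft TT_p46 15997)) (Nat.shiftLeft (Nat.lor TT_p47 (Nat.shiftLeft (Nat.lor TT_p48 (Nat.shiftLeft TT_p49 15997)) 15997)) 31994)) 79985)) (Nat.shiftLeft (Nat.lor (Nat.lor (Nat.lor TT_p50 (Nat.shiftLeft TT_p51 15997)) (Nat.shiftLeft (Nat.lor TT_p52 (Nat.shiftLeft (Nat.lor TT_p53 (Nat.shiftLeft TT_p54 15997)) 15997)) 31994)) (Nat.shiftLeft (Nat.lor (Nat.lor TT_p55 (Nat.shiftLeft TT_p56 15997)) (Nat.shiftLeft (Nat.lor TT_p57 (Nat.shiftLeft (Nat.lor TT_p58 (Nat.shiftLeft TT_p59 15997)) 15997)) 31994)) 79985)) 159970)) (Nat.shiftLeft (Nat.lor (Nat.lor (Nat.lor (Nat.lor TT_p60 (Nat.shiftLeft TT_p61 15997)) (Nat.shiftLeft (Nat.lor TT_p62 (Nat.shiftLeft (Nat.lor TT_p63 (Nat.shiftLeft TT_p64 15997)) 15997)) 31994)) (Nat.shiftLeft (Nat.lor (Nat.lor TT_p65 (Nat.shiftLeft TT_p66 15997)) (Nat.shiftLeft (Nat.lor TT_p67 (Nat.shiftLeft (Nat.lor TT_p68 (Nat.shiftLeft TT_p69 15997)) 15997)) 31994)) 79985)) (Nat.shiftLeft (Nat.lor (Nat.lor (Nat.lor TT_p70 (Nat.shiftLeft TT_p71 15997)) (Nat.shiftLeft (Nat.lor TT_p72 (Nat.shiftLeft (Nat.lor TT_p73 (Nat.shiftLeft TT_p74 15997)) 15997)) 31994)) (Nat.shiftLeft (Nat.lor (Nat.lor TT_p75 (Nat.shiftLeft (Nat.lor TT_p76 (Nat.shiftLeft TT_p77 15997)) 15997)) (Nat.shiftLeft (Nat.lor TT_p78 (Nat.shiftLeft (Nat.lor TT_p79 (Nat.shiftLeft TT_p80 15997)) 15997)) 47991)) 79985)) 159970)) 319940)) 639880)) (Nat.shiftLeft (Nat.lor (Nat.lor (Nat.lor (Nat.lor (Nat.lor (Nat.lor TT_p81 (Nat.shiftLeft TT_p82 15997)) (Nat.shiftLeft (Nat.lor TT_p83 (Nat.shiftLeft (Nat.lor TT_p84 (Nat.shiftLeft TT_p85 15997)) 15997)) 31994)) (Nat.shiftLeft (Nat.lor (Nat.lor TT_p86 (Nat.shiftLeft TT_p87 15997)) (Nat.shiftLeft (Nat.lor TT_p88 (Nat.shiftLeft (Nat.lor TT_p89 (Nat.shiftLeft TT_p90 15997)) 15997)) 31994)) 79985)) (Nat.shiftLeft (Nat.lor (Nat.lor (Nat.lor TT_p91 (Nat.shiftLeft TT_p92 15997)) (Nat.shiftLeft (Nat.lor TT_p93 (Nat.shiftLeft (Nat.lor TT_p94 (Nat.shiftLeft TT_p95 15997)) 15997)) 31994)) (Nat.shiftLeft (Nat.lor (Nat.lor TT_p96 (Nat.shiftLeft TT_p97 15997)) (Nat.shiftLeft (Nat.lor TT_p98 (Nat.shiftLeft (Nat.lor TT_p99 (Nat.shiftLeft TT_p100 15997)) 15997)) 31994)) 79985)) 159970)) (Nat.shiftLeft (Nat.lor (Nat.lor (Nat.lor (Nat.lor TT_p101 (Nat.shiftLeft TT_p102 15997)) (Nat.shiftLeft (Nat.lor TT_p103 (Nat.shiftLeft (Nat.lor TT_p104 (Nat.shiftLeft TT_p105 15997)) 15997)) 31994)) (Nat.shiftLeft (Nat.lor (Nat.lor TT_p106 (Nat.shiftLeft TT_p107 15997)) (Nat.shiftLeft (Nat.lor TT_p108 (Nat.shiftLeft (Nat.lor TT_p109 (Nat.shiftLeft TT_p110 15997)) 15997)) 31994)) 79985)) (Nat.shiftLeft (Nat.lor (Nat.lor (Nat.lor TT_p111 (Nat.shiftLeft TT_p112 15997)) (Nat.shiftLeft (Nat.lor TT_p113 (Nat.shiftLeft (Nat.lor TT_p114 (Nat.shiftLeft TT_p115 15997)) 15997)) 31994)) (Nat.shiftLeft (Nat.lor (Nat.lor TT_p116 (Nat.shiftLeft (Nat.lor TT_p117 (Nat.shiftLeft TT_p118 15997)) 15997)) (Nat.shiftLeft (Nat.lor TT_p119 (Nat.shiftLeft (Nat.lor TT_p120 (Nat.shiftLeft TT_p121 15997)) 15997)) 47991)) 79985)) 159970)) 319940)) (Nat.shiftLeft (Nat.lor (Nat.lor (Nat.lor (Nat.lor (Nat.lor TT_p122 (Nat.shiftLeft TT_p123 15997)) (Nat.shiftLeft (Nat.lor TT_p124 (Nat.shiftLeft (Nat.lor TT_p125 (Nat.shiftLeft TT_p126 15997)) 15997)) 31994)) (Nat.shiftLeft (Nat.lor (Nat.lor TT_p127 (Nat.shiftLeft TT_p128 15997)) (Nat.shiftLeft (Nat.lor TT_p129 (Nat.shiftLeft (Nat.lor TT_p130 (Nat.shiftLeft TT_p131 15997)) 15997)) 31994)) 79985)) (Nat.shiftLeft (Nat.lor (Nat.lor (Nat.lor TT_p132 (Nat.shiftLeft TT_p133 15997)) (Nat.shiftLeft (Nat.lor TT_p134 (Nat.shiftLeft (Nat.lor TT_p135 (Nat.shiftLeft TT_p136 15997)) 15997)) 31994)) (Nat.shiftLeft (Nat.lor (Nat.lor TT_p137 (Nat.shiftLeft TT_p138 15997)) (Nat.shiftLeft (Nat.lor TT_p139 (Nat.shiftLeft (Nat.lor TT_p140 (Nat.shiftLeft TT_p141 15997)) 15997)) 31994)) 79985)) 159970)) (Nat.shiftLeft (Nat.lor (Nat.lor (Nat.lor (Nat.lor TT_p142 (Nat.shiftLeft TT_p143 15997)) (Nat.shiftLeft (Nat.lor TT_p144 (Nat.shiftLeft (Nat.lor TT_p145 (Nat.shiftLeft TT_p146 15997)) 15997)) 31994)) (Nat.shiftLeft (Nat.lor (Nat.lor TT_p147 (Nat.shiftLeft TT_p148 15997)) (Nat.shiftLeft (Nat.lor TT_p149 (Nat.shiftLeft (Nat.lor TT_p150 (Nat.shiftLeft TT_p151 15997)) 15997)) 31994)) 79985)) (Nat.shiftLeft (Nat.lor (Nat.lor (Nat.lor TT_p152 (Nat.shiftLeft TT_p153 15997)) (Nat.shiftLeft (Nat.lor TT_p154 (Nat.shiftLeft (Nat.lor TT_p155 (Nat.shiftLeft TT_p156 15997)) 15997)) 31994)) (Nat.shiftLeft (Nat.lor (Nat.lor TT_p157 (Nat.shiftLeft (Nat.lor TT_p158 (Nat.shiftLeft TT_p159 15997)) 15997)) (Nat.shiftLeft (Nat.lor TT_p160 (Nat.shiftLeft (Nat.lor TT_p161 (Nat.shiftLeft TT_p162 15997)) 15997)) 47991)) 79985)) 159970)) 319940)) 655877)) 1295757)) (Nat.shiftLeft (Nat.lor (Nat.lor (Nat.lor (Nat.lor (Nat.lor (Nat.lor (Nat.lor TT_p163 (Nat.shiftLeft TT_p164 15997)) (Nat.shiftLeft (Nat.lor TT_p165 (Nat.shiftLeft (Nat.lor TT_p166 (Nat.shiftLeft TT_p167 15997)) 15997)) 31994)) (Nat.shiftLeft (Nat.lor (Nat.lor TT_p168 (Nat.shiftLeft TT_p169 15997)) (Nat.shiftLeft (Nat.lor TT_p170 (Nat.shiftLeft (Nat.lor TT_p171 (Nat.shiftLeft TT_p172 15997)) 15997)) 31994)) 79985)) (Nat.shiftLeft (Nat.lor (Nat.lor (Nat.lor TT_p173 (Nat.shiftLeft TT_p174 15997)) (Nat.shiftLeft (Nat.lor TT_p175 (Nat.shiftLeft (Nat.lor TT_p176 (Nat.shiftLeft TT_p177 15997)) 15997)) 31994)) (Nat.shiftLeft (Nat.lor (Nat.lor TT_p178 (Nat.shiftLeft TT_p179 15997)) (Nat.shiftLeft (Nat.lor TT_p180 (Nat.shiftLeft (Nat.lor TT_p181 (Nat.shiftLeft TT_p182 15997)) 15997)) 31994)) 79985)) 159970)) (Nat.shiftLeft (Nat.lor (Nat.lor (Nat.lor (Nat.lor TT_p183 (Nat.shiftLeft TT_p184 15997)) (Nat.shiftLeft (Nat.lor TT_p185 (Nat.shiftLeft (Nat.lor TT_p186 (Nat.shiftLeft TT_p187 15997)) 15997)) 31994)) (Nat.shiftLeft (Nat.lor (Nat.lor TT_p188 (Nat.shiftLeft TT_p189 15997)) (Nat.shiftLeft (Nat.lor TT_p190 (Nat.shiftLeft (Nat.lor TT_p191 (Nat.shiftLeft TT_p192 15997)) 15997)) 31994)) 79985)) (Nat.shiftLeft (Nat.lor (Nat.lor (Nat.lor TT_p193 (Nat.shiftLeft TT_p194 15997)) (Nat.shiftLeft (Nat.lor TT_p195 (Nat.shiftLeft (Nat.lor TT_p196 (Nat.shiftLeft TT_p197 15997)) 15997)) 31994)) (Nat.shiftLeft (Nat.lor (Nat.lor TT_p198 (Nat.shiftLeft TT_p199 15997)) (Nat.shiftLeft (Nat.lor TT_p200 (Nat.shiftLeft (Nat.lor TT_p201 (Nat.shiftLeft TT_p202 15997)) 15997)) 31994)) 79985)) 159970)) 319940)) (Nat.shiftLeft (Nat.lor (Nat.lor (Nat.lor (Nat.lor (Nat.lor TT_p203 (Nat.shiftLeft TT_p204 15997)) (Nat.shiftLeft (Nat.lor TT_p205 (Nat.shiftLeft (Nat.lor TT_p206 (Nat.shiftLeft TT_p207 15997)) 15997)) 31994)) (Nat.shiftLeft (Nat.lor (Nat.lor TT_p208 (Nat.shiftLeft TT_p209 15997)) (Nat.shiftLeft (Nat.lor TT_p210 (Nat.shiftLeft (Nat.lor TT_p211 (Nat.shiftLeft TT_p212 15997)) 15997)) 31994)) 79985)) (Nat.shiftLeft (Nat.lor (Nat.lor (Nat.lor TT_p213 (Nat.shiftLeft TT_p214 15997)) (Nat.shiftLeft (Nat.lor TT_p215 (Nat.shiftLeft (Nat.lor TT_p216 (Nat.shiftLeft TT_p217 15997)) 15997)) 31994)) (Nat.shiftLeft (Nat.lor (Nat.lor TT_p218 (Nat.shiftLeft TT_p219 15997)) (Nat.shiftLeft (Nat.lor TT_p220 (Nat.shiftLeft (Nat.lor TT_p221 (Nat.shiftLeft TT_p222 15997)) 15997)) 31994)) 79985)) 159970)) (Nat.shiftLeft (Nat.lor (Nat.lor (Nat.lor (Nat.lor TT_p223 (Nat.shiftLeft TT_p224 15997)) (Nat.shiftLeft (Nat.lor TT_p225 (Nat.shiftLeft (Nat.lor TT_p226 (Nat.shiftLeft TT_p227 15997)) 15997)) 31994)) (Nat.shiftLeft (Nat.lor (Nat.lor TT_p228 (Nat.shiftLeft TT_p229 15997)) (Nat.shiftLeft (Nat.lor TT_p230 (Nat.shiftLeft (Nat.lor TT_p231 (Nat.shiftLeft TT_p232 15997)) 15997)) 31994)) 79985)) (Nat.shiftLeft (Nat.lor (Nat.lor (Nat.lor TT_p233 (Nat.shiftLeft TT_p234 15997)) (Nat.shiftLeft (Nat.lor TT_p235 (Nat.shiftLeft (Nat.lor TT_p236 (Nat.shiftLeft TT_p237 15997)) 15997)) 31994)) (Nat.shiftLeft (Nat.lor (Nat.lor TT_p238 (Nat.shiftLeft (Nat.lor TT_p239 (Nat.shiftLeft TT_p240 15997)) 15997)) (Nat.shiftLeft (Nat.lor TT_p241 (Nat.shiftLeft (Nat.lor TT_p242 (Nat.shiftLeft TT_p243 15997)) 15997)) 47991)) 79985)) 159970)) 319940)) 639880)) (Nat.shiftLeft (Nat.lor (Nat.lor (Nat.lor (Nat.lor (Nat.lor (Nat.lor TT_p244 (Nat.shiftLeft TT_p245 15997)) (Nat.shiftLeft (Nat.lor TT_p246 (Nat.shiftLeft (Nat.lor TT_p247 (Nat.shiftLeft TT_p248 15997)) 15997)) 31994)) (Nat.shiftLeft (Nat.lor (Nat.lor TT_p249 (Nat.shiftLeft TT_p250 15997)) (Nat.shiftLeft (Nat.lor TT_p251 (Nat.shiftLeft (Nat.lor TT_p252 (Nat.shiftLeft TT_p253 15997)) 15997)) 31994)) 79985)) (Nat.shiftLeft (Nat.lor (Nat.lor (Nat.lor TT_p254 (Nat.shiftLeft TT_p255 15997)) (Nat.shiftLeft (Nat.lor TT_p256 (Nat.shiftLeft (Nat.lor TT_p257 (Nat.shiftLeft TT_p258 15997)) 15997)) 31994)) (Nat.shiftLeft (Nat.lor (Nat.lor TT_p259 (Nat.shiftLeft TT_p260 15997)) (Nat.shiftLeft (Nat.lor TT_p261 (Nat.shiftLeft (Nat.lor TT_p262 (Nat.shiftLeft TT_p263 15997)) 15997)) 31994)) 79985)) 159970)) (Nat.shiftLeft (Nat.lor (Nat.lor (Nat.lor (Nat.lor TT_p264 (Nat.shiftLeft TT_p265 15997)) (Nat.shiftLeft (Nat.lor TT_p266 (Nat.shiftLeft (Nat.lor TT_p267 (Nat.shiftLeft TT_p268 15997)) 15997)) 31994)) (Nat.shiftLeft (Nat.lor (Nat.lor TT_p269 (Nat.shiftLeft TT_p270 15997)) (Nat.shiftLeft (Nat.lor TT_p271 (Nat.shiftLeft (Nat.lor TT_p272 (Nat.shiftLeft TT_p273 15997)) 15997)) 31994)) 79985)) (Nat.shiftLeft (Nat.lor (Nat.lor (Nat.lor TT_p274 (Nat.shiftLeft TT_p275 15997)) (Nat.shiftLeft (Nat.lor TT_p276 (Nat.shiftLeft (Nat.lor TT_p277 (Nat.shiftLeft TT_p278 15997)) 15997)) 31994)) (Nat.shiftLeft (Nat.lor (Nat.lor TT_p279 (Nat.shiftLeft (Nat.lor TT_p280 (Nat.shiftLeft TT_p281 15997)) 15997)) (Nat.shiftLeft (Nat.lor TT_p282 (Nat.shiftLeft (Nat.lor TT_p283 (Nat.shiftLeft TT_p284 15997)) 15997)) 47991)) 79985)) 159970)) 319940)) (Nat.shiftLeft (Nat.lor (Nat.lor (Nat.lor (Nat.lor (Nat.lor TT_p285 (Nat.shiftLeft TT_p286 15997)) (Nat.shiftLeft (Nat.lor TT_p287 (Nat.shiftLeft (Nat.lor TT_p288 (Nat.shiftLeft TT_p289 15997)) 15997)) 31994)) (Nat.shiftLeft (Nat.lor (Nat.lor TT_p290 (Nat.shiftLeft TT_p291 15997)) (Nat.shiftLeft (Nat.lor TT_p292 (Nat.shiftLeft (Nat.lor TT_p293 (Nat.shiftLeft TT_p294 15997)) 15997)) 31994)) 79985)) (Nat.shiftLeft (Nat.lor (Nat.lor (Nat.lor TT_p295 (Nat.shiftLeft TT_p296 15997)) (Nat.shiftLeft (Nat.lor TT_p297 (Nat.shiftLeft (Nat.lor TT_p298 (Nat.shiftLeft TT_p299 15997)) 15997)) 31994)) (Nat.shiftLeft (Nat.lor (Nat.lor TT_p300 (Nat.shiftLeft TT_p301 15997)) (Nat.shiftLeft (Nat.lor TT_p302 (Nat.shiftLeft (Nat.lor TT_p303 (Nat.shiftLeft TT_p304 15997)) 15997)) 31994)) 79985)) 159970)) (Nat.shiftLeft (Nat.lor (Nat.lor (Nat.lor (Nat.lor TT_p305 (Nat.shiftLeft TT_p306 15997)) (Nat.shiftLeft (Nat.lor TT_p307 (Nat.shiftLeft (Nat.lor TT_p308 (Nat.shiftLeft TT_p309 15997)) 15997)) 31994)) (Nat.shiftLeft (Nat.lor (Nat.lor TT_p310 (Nat.shiftLeft TT_p311 15997)) (Nat.shiftLeft (Nat.lor TT_p312 (Nat.shiftLeft (Nat.lor TT_p313 (Nat.shiftLeft TT_p314 15997)) 15997)) 31994)) 79985)) (Nat.shiftLeft (Nat.lor (Nat.lor (Nat.lor TT_p315 (Nat.shiftLeft TT_p316 15997)) (Nat.shiftLeft (Nat.lor TT_p317 (Nat.shiftLeft (Nat.lor TT_p318 (Nat.shiftLeft TT_p319 15997)) 15997)) 31994)) (Nat.shiftLeft (Nat.lor (Nat.lor TT_p320 (Nat.shiftLeft (Nat.lor TT_p321 (Nat.shiftLeft TT_p322 15997)) 15997)) (Nat.shiftLeft (Nat.lor TT_p323 (Nat.shiftLeft (Nat.lor TT_p324 (Nat.shiftLeft TT_p325 15997)) 15997)) 47991)) 79985)) 159970)) 319940)) 655877)) 1295757)) 2607511)) (Nat.shiftLeft (Nat.lor (Nat.lor (Nat.lor (Nat.lor (Nat.lor (Nat.lor (Nat.lor (Nat.lor TT_p326 (Nat.shiftLeft TT_p327 15997)) (Nat.shiftLeft (Nat.lor TT_p328 (Nat.shiftLeft (Nat.lor TT_p329 (Nat.shiftLeft TT_p330 15997)) 15997)) 31994)) (Nat.shiftLeft (Nat.lor (Nat.lor TT_p331 (Nat.shiftLeft TT_p332 15997)) (Nat.shiftLeft (Nat.lor TT_p333 (Nat.shiftLeft (Nat.lor TT_p334 (Nat.shiftLeft TT_p335 15997)) 15997)) 31994)) 79985)) (Nat.shiftLeft (Nat.lor (Nat.lor (Nat.lor TT_p336 (Nat.shiftLeft TT_p337 15997)) (Nat.shiftLeft (Nat.lor TT_p338 (Nat.shiftLeft (Nat.lor TT_p339 (Nat.shiftLeft TT_p340 15997)) 15997)) 31994)) (Nat.shiftLeft (Nat.lor (Nat.lor TT_p341 (Nat.shiftLeft TT_p342 15997)) (Nat.shiftLeft (Nat.lor TT_p343 (Nat.shiftLeft (Nat.lor TT_p344 (Nat.shiftLeft TT_p345 15997)) 15997)) 31994)) 79985)) 159970)) (Nat.shiftLeft (Nat.lor (Nat.lor (Nat.lor (Nat.lor TT_p346 (Nat.shiftLeft TT_p347 15997)) (Nat.shiftLeft (Nat.lor TT_p348 (Nat.shiftLeft (Nat.lor TT_p349 (Nat.shiftLeft TT_p350 15997)) 15997)) 31994)) (Nat.shiftLeft (Nat.lor (Nat.lor TT_p351 (Nat.shiftLeft TT_p352 15997)) (Nat.shiftLeft (Nat.lor TT_p353 (Nat.shiftLeft (Nat.lor TT_p354 (Nat.shiftLeft TT_p355 15997)) 15997)) 31994)) 79985)) (Nat.shiftLeft (Nat.lor (Nat.lor (Nat.lor TT_p356 (Nat.shiftLeft TT_p357 15997)) (Nat.shiftLeft (Nat.lor TT_p358 (Nat.shiftLeft (Nat.lor TT_p359 (Nat.shiftLeft TT_p360 15997)) 15997)) 31994)) (Nat.shiftLeft (Nat.lor (Nat.lor TT_p361 (Nat.shiftLeft TT_p362 15997)) (Nat.shiftLeft (Nat.lor TT_p363 (Nat.shiftLeft (Nat.lor TT_p364 (Nat.shiftLeft TT_p365 15997)) 15997)) 31994)) 79985)) 159970)) 319940)) (Nat.shiftLeft (Nat.lor (Nat.lor (Nat.lor (Nat.lor (Nat.lor TT_p366 (Nat.shiftLeft TT_p367 15997)) (Nat.shiftLeft (Nat.lor TT_p368 (Nat.shiftLeft (Nat.lor TT_p369 (Nat.shiftLeft TT_p370 15997)) 15997)) 31994)) (Nat.shiftLeft (Nat.lor (Nat.lor TT_p371 (Nat.shiftLeft TT_p372 15997)) (Nat.shiftLeft (Nat.lor TT_p373 (Nat.shiftLeft (Nat.lor TT_p374 (Nat.shiftLeft TT_p375 15997)) 15997)) 31994)) 79985)) (Nat.shiftLeft (Nat.lor (Nat.lor (Nat.lor TT_p376 (Nat.shiftLeft TT_p377 15997)) (Nat.shiftLeft (Nat.lor TT_p378 (Nat.shiftLeft (Nat.lor TT_p379 (Nat.shiftLeft TT_p380 15997)) 15997)) 31994)) (Nat.shiftLeft (Nat.lor (Nat.lor TT_p381 (Nat.shiftLeft TT_p382 15997)) (Nat.shiftLeft (Nat.lor TT_p383 (Nat.shiftLeft (Nat.lor TT_p384 (Nat.shiftLeft TT_p385 15997)) 15997)) 31994)) 79985)) 159970)) (Nat.shiftLeft (Nat.lor (Nat.lor (Nat.lor (Nat.lor TT_p386 (Nat.shiftLeft TT_p387 15997)) (Nat.shiftLeft (Nat.lor TT_p388 (Nat.shiftLeft (Nat.lor TT_p389 (Nat.shiftLeft TT_p390 15997)) 15997)) 31994)) (Nat.shiftLeft (Nat.lor (Nat.lor TT_p391 (Nat.shiftLeft TT_p392 15997)) (Nat.shiftLeft (Nat.lor TT_p393 (Nat.shiftLeft (Nat.lor TT_p394 (Nat.shiftLeft TT_p395 15997)) 15997)) 31994)) 79985)) (Nat.shiftLeft (Nat.lor (Nat.lor (Nat.lor TT_p396 (Nat.shiftLeft TT_p397 15997)) (Nat.shiftLeft (Nat.lor TT_p398 (Nat.shiftLeft (Nat.lor TT_p399 (Nat.shiftLeft TT_p400 15997)) 15997)) 31994)) (Nat.shiftLeft (Nat.lor (Nat.lor TT_p401 (Nat.shiftLeft (Nat.lor TT_p402 (Nat.shiftLeft TT_p403 15997)) 15997)) (Nat.shiftLeft (Nat.lor TT_p404 (Nat.shiftLeft (Nat.lor TT_p405 (Nat.shiftLeft TT_p406 15997)) 15997)) 47991)) 79985)) 159970)) 319940)) 639880)) (Nat.shiftLeft (Nat.lor (Nat.lor (Nat.lor (Nat.lor (Nat.lor (Nat.lor TT_p407 (Nat.shiftLeft TT_p408 15997)) (Nat.shiftLeft (Nat.lor TT_p409 (Nat.shiftLeft (Nat.lor TT_p410 (Nat.shiftLeft TT_p411 15997)) 15997)) 31994)) (Nat.shiftLeft (Nat.lor (Nat.lor TT_p412 (Nat.shiftLeft TT_p413 15997)) (Nat.shiftLeft (Nat.lor TT_p414 (Nat.shiftLeft (Nat.lor TT_p415 (Nat.shiftLeft TT_p416 15997)) 15997)) 31994)) 79985)) (Nat.shiftLeft (Nat.lor (Nat.lor (Nat.lor TT_p417 (Nat.shiftLeft TT_p418 15997)) (Nat.shiftLeft (Nat.lor TT_p419 (Nat.shiftLeft (Nat.lor TT_p420 (Nat.shiftLeft TT_p421 15997)) 15997)) 31994)) (Nat.shiftLeft (Nat.lor (Nat.lor TT_p422 (Nat.shiftLeft TT_p423 15997)) (Nat.shiftLeft (Nat.lor TT_p424 (Nat.shiftLeft (Nat.lor TT_p425 (Nat.shiftLeft TT_p426 15997)) 15997)) 31994)) 79985)) 159970)) (Nat.shiftLeft (Nat.lor (Nat.lor (Nat.lor (Nat.lor TT_p427 (Nat.shiftLeft TT_p428 15997)) (Nat.shiftLeft (Nat.lor TT_p429 (Nat.shiftLeft (Nat.lor TT_p430 (Nat.shiftLeft TT_p431 15997)) 15997)) 31994)) (Nat.shiftLeft (Nat.lor (Nat.lor TT_p432 (Nat.shiftLeft TT_p433 15997)) (Nat.shiftLeft (Nat.lor TT_p434 (Nat.shiftLeft (Nat.lor TT_p435 (Nat.shiftLeft TT_p436 15997)) 15997)) 31994)) 79985)) (Nat.shiftLeft (Nat.lor (Nat.lor (Nat.lor TT_p437 (Nat.shiftLeft TT_p438 15997)) (Nat.shiftLeft (Nat.lor TT_p439 (Nat.shiftLeft (Nat.lor TT_p440 (Nat.shiftLeft TT_p441 15997)) 15997)) 31994)) (Nat.shiftLeft (Nat.lor (Nat.lor TT_p442 (Nat.shiftLeft (Nat.lor TT_p443 (Nat.shiftLeft TT_p444 15997)) 15997)) (Nat.shiftLeft (Nat.lor TT_p445 (Nat.shiftLeft (Nat.lor TT_p446 (Nat.shiftLeft TT_p447 15997)) 15997)) 47991)) 79985)) 159970)) 319940)) (Nat.shiftLeft (Nat.lor (Nat.lor (Nat.lor (Nat.lor (Nat.lor TT_p448 (Nat.shiftLeft TT_p449 15997)) (Nat.shiftLeft (Nat.lor TT_p450 (Nat.shiftLeft (Nat.lor TT_p451 (Nat.shiftLeft TT_p452 15997)) 15997)) 31994)) (Nat.shiftLeft (Nat.lor (Nat.lor TT_p453 (Nat.shiftLeft TT_p454 15997)) (Nat.shiftLeft (Nat.lor TT_p455 (Nat.shiftLeft (Nat.lor TT_p456 (Nat.shiftLeft TT_p457 15997)) 15997)) 31994)) 79985)) (Nat.shiftLeft (Nat.lor (Nat.lor (Nat.lor TT_p458 (Nat.shiftLeft TT_p459 15997)) (Nat.shiftLeft (Nat.lor TT_p460 (Nat.shiftLeft (Nat.lor TT_p461 (Nat.shiftLeft TT_p462 15997)) 15997)) 31994)) (Nat.shiftLeft (Nat.lor (Nat.lor TT_p463 (Nat.shiftLeft TT_p464 15997)) (Nat.shiftLeft (Nat.lor TT_p465 (Nat.shiftLeft (Nat.lor TT_p466 (Nat.shiftLeft TT_p467 15997)) 15997)) 31994)) 79985)) 159970)) (Nat.shiftLeft (Nat.lor (Nat.lor (Nat.lor (Nat.lor TT_p468 (Nat.shiftLeft TT_p469 15997)) (Nat.shiftLeft (Nat.lor TT_p470 (Nat.shiftLeft (Nat.lor TT_p471 (Nat.shiftLeft TT_p472 15997)) 15997)) 31994)) (Nat.shiftLeft (Nat.lor (Nat.lor TT_p473 (Nat.shiftLeft TT_p474 15997)) (Nat.shiftLeft (Nat.lor TT_p475 (Nat.shiftLeft (Nat.lor TT_p476 (Nat.shiftLeft TT_p477 15997)) 15997)) 31994)) 79985)) (Nat.shiftLeft (Nat.lor (Nat.lor (Nat.lor TT_p478 (Nat.shiftLeft TT_p479 15997)) (Nat.shiftLeft (Nat.lor TT_p480 (Nat.shiftLeft (Nat.lor TT_p481 (Nat.shiftLeft TT_p482 15997)) 15997)) 31994)) (Nat.shiftLeft (Nat.lor (Nat.lor TT_p483 (Nat.shiftLeft (Nat.lor TT_p484 (Nat.shiftLeft TT_p485 15997)) 15997)) (Nat.shiftLeft (Nat.lor TT_p486 (Nat.shiftLeft (Nat.lor TT_p487 (Nat.shiftLeft TT_p488 15997)) 15997)) 47991)) 79985)) 159970)) 319940)) 655877)) 1295757)) (Nat.shiftLeft (Nat.lor (Nat.lor (Nat.lor (Nat.lor (Nat.lor (Nat.lor (Nat.lor TT_p489 (Nat.shiftLeft TT_p490 15997)) (Nat.shiftLeft (Nat.lor TT_p491 (Nat.shiftLeft (Nat.lor TT_p492 (Nat.shiftLeft TT_p493 15997)) 15997)) 31994)) (Nat.shiftLeft (Nat.lor (Nat.lor TT_p494 (Nat.shiftLeft TT_p495 15997)) (Nat.shiftLeft (Nat.lor TT_p496 (Nat.shiftLeft (Nat.lor TT_p497 (Nat.shiftLeft TT_p498 15997)) 15997)) 31994)) 79985)) (Nat.shiftLeft (Nat.lor (Nat.lor (Nat.lor TT_p499 (Nat.shiftLeft TT_p500 15997)) (Nat.shiftLeft (Nat.lor TT_p501 (Nat.shiftLeft (Nat.lor TT_p502 (Nat.shiftLeft TT_p503 15997)) 15997)) 31994)) (Nat.shiftLeft (Nat.lor (Nat.lor TT_p504 (Nat.shiftLeft TT_p505 15997)) (Nat.shiftLeft (Nat.lor TT_p506 (Nat.shiftLeft (Nat.lor TT_p507 (Nat.shiftLeft TT_p508 15997)) 15997)) 31994)) 79985)) 159970)) (Nat.shiftLeft (Nat.lor (Nat.lor (Nat.lor (Nat.lor TT_p509 (Nat.shiftLeft TT_p510 15997)) (Nat.shiftLeft (Nat.lor TT_p511 (Nat.shiftLeft (Nat.lor TT_p512 (Nat.shiftLeft TT_p513 15997)) 15997)) 31994)) (Nat.shiftLeft (Nat.lor (Nat.lor TT_p514 (Nat.shiftLeft TT_p515 15997)) (Nat.shiftLeft (Nat.lor TT_p516 (Nat.shiftLeft (Nat.lor TT_p517 (Nat.shiftLeft TT_p518 15997)) 15997)) 31994)) 79985)) (Nat.shiftLeft (Nat.lor (Nat.lor (Nat.lor TT_p519 (Nat.shiftLeft TT_p520 15997)) (Nat.shiftLeft (Nat.lor TT_p521 (Nat.shiftLeft (Nat.lor TT_p522 (Nat.shiftLeft TT_p523 15997)) 15997)) 31994)) (Nat.shiftLeft (Nat.lor (Nat.lor TT_p524 (Nat.shiftLeft TT_p525 15997)) (Nat.shiftLeft (Nat.lor TT_p526 (Nat.shiftLeft (Nat.lor TT_p527 (Nat.shiftLeft TT_p528 15997)) 15997)) 31994)) 79985)) 159970)) 319940)) (Nat.shiftLeft (Nat.lor (Nat.lor (Nat.lor (Nat.lor (Nat.lor TT_p529 (Nat.shiftLeft TT_p530 15997)) (Nat.shiftLeft (Nat.lor TT_p531 (Nat.shiftLeft (Nat.lor TT_p532 (Nat.shiftLeft TT_p533 15997)) 15997)) 31994)) (Nat.shiftLeft (Nat.lor (Nat.lor TT_p534 (Nat.shiftLeft TT_p535 15997)) (Nat.shiftLeft (Nat.lor TT_p536 (Nat.shiftLeft (Nat.lor TT_p537 (Nat.shiftLeft TT_p538 15997)) 15997)) 31994)) 79985)) (Nat.shiftLeft (Nat.lor (Nat.lor (Nat.lor TT_p539 (Nat.shiftLeft TT_p540 15997)) (Nat.shiftLeft (Nat.lor TT_p541 (Nat.shiftLeft (Nat.lor TT_p542 (Nat.shiftLeft TT_p543 15997)) 15997)) 31994)) (Nat.shiftLeft (Nat.lor (Nat.lor TT_p544 (Nat.shiftLeft TT_p545 15997)) (Nat.shiftLeft (Nat.lor TT_p546 (Nat.shiftLeft (Nat.lor TT_p547 (Nat.shiftLeft TT_p548 15997)) 15997)) 31994)) 79985)) 159970)) (Nat.shiftLeft (Nat.lor (Nat.lor (Nat.lor (Nat.lor TT_p549 (Nat.shiftLeft TT_p550 15997)) (Nat.shiftLeft (Nat.lor TT_p551 (Nat.shiftLeft (Nat.lor TT_p552 (Nat.shiftLeft TT_p553 15997)) 15997)) 31994)) (Nat.shiftLeft (Nat.lor (Nat.lor TT_p554 (Nat.shiftLeft TT_p555 15997)) (Nat.shiftLeft (Nat.lor TT_p556 (Nat.shiftLeft (Nat.lor TT_p557 (Nat.shiftLeft TT_p558 15997)) 15997)) 31994)) 79985)) (Nat.shiftLeft (Nat.lor (Nat.lor (Nat.lor TT_p559 (Nat.shiftLeft TT_p560 15997)) (Nat.shiftLeft (Nat.lor TT_p561 (Nat.shiftLeft (Nat.lor TT_p562 (Nat.shiftLeft TT_p563 15997)) 15997)) 31994)) (Nat.shiftLeft (Nat.lor (Nat.lor TT_p564 (Nat.shiftLeft (Nat.lor TT_p565 (Nat.shiftLeft TT_p566 15997)) 15997)) (Nat.shiftLeft (Nat.lor TT_p567 (Nat.shiftLeft (Nat.lor TT_p568 (Nat.shiftLeft TT_p569 15997)) 15997)) 47991)) 79985)) 159970)) 319940)) 639880)) (Nat.shiftLeft (Nat.lor (Nat.lor (Nat.lor (Nat.lor (Nat.lor (Nat.lor TT_p570 (Nat.shiftLeft TT_p571 15997)) (Nat.shiftLeft (Nat.lor TT_p572 (Nat.shiftLeft (Nat.lor TT_p573 (Nat.shiftLeft TT_p574 15997)) 15997)) 31994)) (Nat.shiftLeft (Nat.lor (Nat.lor TT_p575 (Nat.shiftLeft TT_p576 15997)) (Nat.shiftLeft (Nat.lor TT_p577 (Nat.shiftLeft (Nat.lor TT_p578 (Nat.shiftLeft TT_p579 15997)) 15997)) 31994)) 79985)) (Nat.shiftLeft (Nat.lor (Nat.lor (Nat.lor TT_p580 (Nat.shiftLeft TT_p581 15997)) (Nat.shiftLeft (Nat.lor TT_p582 (Nat.shiftLeft (Nat.lor TT_p583 (Nat.shiftLeft TT_p584 15997)) 15997)) 31994)) (Nat.shiftLeft (Nat.lor (Nat.lor TT_p585 (Nat.shiftLeft TT_p586 15997)) (Nat.shiftLeft (Nat.lor TT_p587 (Nat.shiftLeft (Nat.lor TT_p588 (Nat.shiftLeft TT_p589 15997)) 15997)) 31994)) 79985)) 159970)) (Nat.shiftLeft (Nat.lor (Nat.lor (Nat.lor (Nat.lor TT_p590 (Nat.shiftLeft TT_p591 15997)) (Nat.shiftLeft (Nat.lor TT_p592 (Nat.shiftLeft (Nat.lor TT_p593 (Nat.shiftLeft TT_p594 15997)) 15997)) 31994)) (Nat.shiftLeft (Nat.lor (Nat.lor TT_p595 (Nat.shiftLeft TT_p596 15997)) (Nat.shiftLeft (Nat.lor TT_p597 (Nat.shiftLeft (Nat.lor TT_p598 (Nat.shiftLeft TT_p599 15997)) 15997)) 31994)) 79985)) (Nat.shiftLeft (Nat.lor (Nat.lor (Nat.lor TT_p600 (Nat.shiftLeft TT_p601 15997)) (Nat.shiftLeft (Nat.lor TT_p602 (Nat.shiftLeft (Nat.lor TT_p603 (Nat.shiftLeft TT_p604 15997)) 15997)) 31994)) (Nat.shiftLeft (Nat.lor (Nat.lor TT_p605 (Nat.shiftLeft (Nat.lor TT_p606 (Nat.shiftLeft TT_p607 15997)) 15997)) (Nat.shiftLeft (Nat.lor TT_p608 (Nat.shiftLeft (Nat.lor TT_p609 (Nat.shiftLeft TT_p610 15997)) 15997)) 47991)) 79985)) 159970)) 319940)) (Nat.shiftLeft (Nat.lor (Nat.lor (Nat.lor (Nat.lor (Nat.lor TT_p611 (Nat.shiftLeft TT_p612 15997)) (Nat.shiftLeft (Nat.lor TT_p613 (Nat.shiftLeft (Nat.lor TT_p614 (Nat.shiftLeft TT_p615 15997)) 15997)) 31994)) (Nat.shiftLeft (Nat.lor (Nat.lor TT_p616 (Nat.shiftLeft TT_p617 15997)) (Nat.shiftLeft (Nat.lor TT_p618 (Nat.shiftLeft (Nat.lor TT_p619 (Nat.shiftLeft TT_p620 15997)) 15997)) 31994)) 79985)) (Nat.shiftLeft (Nat.lor (Nat.lor (Nat.lor TT_p621 (Nat.shiftLeft TT_p622 15997)) (Nat.shiftLeft (Nat.lor TT_p623 (Nat.shiftLeft (Nat.lor TT_p624 (Nat.shiftLeft TT_p625 15997)) 15997)) 31994)) (Nat.shiftLeft (Nat.lor (Nat.lor TT_p626 (Nat.shiftLeft TT_p627 15997)) (Nat.shiftLeft (Nat.lor TT_p628 (Nat.shiftLeft (Nat.lor TT_p629 (Nat.shiftLeft TT_p630 15997)) 15997)) 31994)) 79985)) 159970)) (Nat.shiftLeft (Nat.lor (Nat.lor (Nat.lor (Nat.lor TT_p631 (Nat.shiftLeft TT_p632 15997)) (Nat.shiftLeft (Nat.lor TT_p633 (Nat.shiftLeft (Nat.lor TT_p634 (Nat.shiftLeft TT_p635 15997)) 15997)) 31994)) (Nat.shiftLeft (Nat.lor (Nat.lor TT_p636 (Nat.shiftLeft TT_p637 15997)) (Nat.shiftLeft (Nat.lor TT_p638 (Nat.shiftLeft (Nat.lor TT_p639 (Nat.shiftLeft TT_p640 15997)) 15997)) 31994)) 79985)) (Nat.shiftLeft (Nat.lor (Nat.lor (Nat.lor TT_p641 (Nat.shiftLeft TT_p642 15997)) (Nat.shiftLeft (Nat.lor TT_p643 (Nat.shiftLeft (Nat.lor TT_p644 (Nat.shiftLeft TT_p645 15997)) 15997)) 31994)) (Nat.shiftLeft (Nat.lor (Nat.lor TT_p646 (Nat.shiftLeft (Nat.lor TT_p647 (Nat.shiftLeft TT_p648 15997)) 15997)) (Nat.shiftLeft (Nat.lor TT_p649 (Nat.shiftLeft (Nat.lor TT_p650 (Nat.shiftLeft TT_p651 15997)) 15997)) 47991)) 79985)) 159970)) 319940)) 655877)) 1295757)) 2607511)) 5215022)) (Nat.shiftLeft (Nat.lor (Nat.lor (Nat.lor (Nat.lor (Nat.lor (Nat.lor (Nat.lor (Nat.lor (Nat.lor TT_p652 (Nat.shiftLeft TT_p653 15997)) (Nat.shiftLeft (Nat.lor TT_p654 (Nat.shiftLeft (Nat.lor TT_p655 (Nat.shiftLeft TT_p656 15997)) 15997)) 31994)) (Nat.shiftLeft (Nat.lor (Nat.lor TT_p657 (Nat.shiftLeft TT_p658 15997)) (Nat.shiftLeft (Nat.lor TT_p659 (Nat.shiftLeft (Nat.lor TT_p660 (Nat.shiftLeft TT_p661 15997)) 15997)) 31994)) 79985)) (Nat.shiftLeft (Nat.lor (Nat.lor (Nat.lor TT_p662 (Nat.shiftLeft TT_p663 15997)) (Nat.shiftLeft (Nat.lor TT_p664 (Nat.shiftLeft (Nat.lor TT_p665 (Nat.shiftLeft TT_p666 15997)) 15997)) 31994)) (Nat.shiftLeft (Nat.lor (Nat.lor TT_p667 (Nat.shiftLeft TT_p668 15997)) (Nat.shiftLeft (Nat.lor TT_p669 (Nat.shiftLeft (Nat.lor TT_p670 (Nat.shiftLeft TT_p671 15997)) 15997)) 31994)) 79985)) 159970)) (Nat.shiftLeft (Nat.lor (Nat.lor (Nat.lor (Nat.lor TT_p672 (Nat.shiftLeft TT_p673 15997)) (Nat.shiftLeft (Nat.lor TT_p674 (Nat.shiftLeft (Nat.lor TT_p675 (Nat.shiftLeft TT_p676 15997)) 15997)) 31994)) (Nat.shiftLeft (Nat.lor (Nat.lor TT_p677 (Nat.shiftLeft TT_p678 15997)) (Nat.shiftLeft (Nat.lor TT_p679 (Nat.shiftLeft (Nat.lor TT_p680 (Nat.shiftLeft TT_p681 15997)) 15997)) 31994)) 79985)) (Nat.shiftLeft (Nat.lor (Nat.lor (Nat.lor TT_p682 (Nat.shiftLeft TT_p683 15997)) (Nat.shiftLeft (Nat.lor TT_p684 (Nat.shiftLeft (Nat.lor TT_p685 (Nat.shiftLeft TT_p686 15997)) 15997)) 31994)) (Nat.shiftLeft (Nat.lor (Nat.lor TT_p687 (Nat.shiftLeft TT_p688 15997)) (Nat.shiftLeft (Nat.lor TT_p689 (Nat.shiftLeft (Nat.lor TT_p690 (Nat.shiftLeft TT_p691 15997)) 15997)) 31994)) 79985)) 159970)) 319940)) (Nat.shiftLeft (Nat.lor (Nat.lor (Nat.lor (Nat.lor (Nat.lor TT_p692 (Nat.shiftLeft TT_p693 15997)) (Nat.shiftLeft (Nat.lor TT_p694 (Nat.shiftLeft (Nat.lor TT_p695 (Nat.shiftLeft TT_p696 15997)) 15997)) 31994)) (Nat.shiftLeft (Nat.lor (Nat.lor TT_p697 (Nat.shiftLeft TT_p698 15997)) (Nat.shiftLeft (Nat.lor TT_p699 (Nat.shiftLeft (Nat.lor TT_p700 (Nat.shiftLeft TT_p701 15997)) 15997)) 31994)) 79985)) (Nat.shiftLeft (Nat.lor (Nat.lor (Nat.lor TT_p702 (Nat.shiftLeft TT_p703 15997)) (Nat.shiftLeft (Nat.lor TT_p704 (Nat.shiftLeft (Nat.lor TT_p705 (Nat.shiftLeft TT_p706 15997)) 15997)) 31994)) (Nat.shiftLeft (Nat.lor (Nat.lor TT_p707 (Nat.shiftLeft TT_p708 15997)) (Nat.shiftLeft (Nat.lor TT_p709 (Nat.shiftLeft (Nat.lor TT_p710 (Nat.shiftLeft TT_p711 15997)) 15997)) 31994)) 79985)) 159970)) (Nat.shiftLeft (Nat.lor (Nat.lor (Nat.lor (Nat.lor TT_p712 (Nat.shiftLeft TT_p713 15997)) (Nat.shiftLeft (Nat.lor TT_p714 (Nat.shiftLeft (Nat.lor TT_p715 (Nat.shiftLeft TT_p716 15997)) 15997)) 31994)) (Nat.shiftLeft (Nat.lor (Nat.lor TT_p717 (Nat.shiftLeft TT_p718 15997)) (Nat.shiftLeft (Nat.lor TT_p719 (Nat.shiftLeft (Nat.lor TT_p720 (Nat.shiftLeft TT_p721 15997)) 15997)) 31994)) 79985)) (Nat.shiftLeft (Nat.lor (Nat.lor (Nat.lor TT_p722 (Nat.shiftLeft TT_p723 15997)) (Nat.shiftLeft (Nat.lor TT_p724 (Nat.shiftLeft (Nat.lor TT_p725 (Nat.shiftLeft TT_p726 15997)) 15997)) 31994)) (Nat.shiftLeft (Nat.lor (Nat.lor TT_p727 (Nat.shiftLeft (Nat.lor TT_p728 (Nat.shiftLeft TT_p729 15997)) 15997)) (Nat.shiftLeft (Nat.lor TT_p730 (Nat.shiftLeft (Nat.lor TT_p731 (Nat.shiftLeft TT_p732 15997)) 15997)) 47991)) 79985)) 159970)) 319940)) 639880)) (Nat.shiftLeft (Nat.lor (Nat.lor (Nat.lor (Nat.lor (Nat.lor (Nat.lor TT_p733 (Nat.shiftLeft TT_p734 15997)) (Nat.shiftLeft (Nat.lor TT_p735 (Nat.shiftLeft (Nat.lor TT_p736 (Nat.shiftLeft TT_p737 15997)) 15997)) 31994)) (Nat.shiftLeft (Nat.lor (Nat.lor TT_p738 (Nat.shiftLeft TT_p739 15997)) (Nat.shiftLeft (Nat.lor TT_p740 (Nat.shiftLeft (Nat.lor TT_p741 (Nat.shiftLeft TT_p742 15997)) 15997)) 31994)) 79985)) (Nat.shiftLeft (Nat.lor (Nat.lor (Nat.lor TT_p743 (Nat.shiftLeft TT_p744 15997)) (Nat.shiftLeft (Nat.lor TT_p745 (Nat.shiftLeft (Nat.lor TT_p746 (Nat.shiftLeft TT_p747 15997)) 15997)) 31994)) (Nat.shiftLeft (Nat.lor (Nat.lor TT_p748 (Nat.shiftLeft TT_p749 15997)) (Nat.shiftLeft (Nat.lor TT_p750 (Nat.shiftLeft (Nat.lor TT_p751 (Nat.shiftLeft TT_p752 15997)) 15997)) 31994)) 79985)) 159970)) (Nat.shiftLeft (Nat.lor (Nat.lor (Nat.lor (Nat.lor TT_p753 (Nat.shiftLeft TT_p754 15997)) (Nat.shiftLeft (Nat.lor TT_p755 (Nat.shiftLeft (Nat.lor TT_p756 (Nat.shiftLeft TT_p757 15997)) 15997)) 31994)) (Nat.shiftLeft (Nat.lor (Nat.lor TT_p758 (Nat.shiftLeft TT_p759 15997)) (Nat.shiftLeft (Nat.lor TT_p760 (Nat.shiftLeft (Nat.lor TT_p761 (Nat.shiftLeft TT_p762 15997)) 15997)) 31994)) 79985)) (Nat.shiftLeft (Nat.lor (Nat.lor (Nat.lor TT_p763 (Nat.shiftLeft TT_p764 15997)) (Nat.shiftLeft (Nat.lor TT_p765 (Nat.shiftLeft (Nat.lor TT_p766 (Nat.shiftLeft TT_p767 15997)) 15997)) 31994)) (Nat.shiftLeft (Nat.lor (Nat.lor TT_p768 (Nat.shiftLeft (Nat.lor TT_p769 (Nat.shiftLeft TT_p770 15997)) 15997)) (Nat.shiftLeft (Nat.lor TT_p771 (Nat.shiftLeft (Nat.lor TT_p772 (Nat.shiftLeft TT_p773 15997)) 15997)) 47991)) 79985)) 159970)) 319940)) (Nat.shiftLeft (Nat.lor (Nat.lor (Nat.lor (Nat.lor (Nat.lor TT_p774 (Nat.shiftLeft TT_p775 15997)) (Nat.shiftLeft (Nat.lor TT_p776 (Nat.shiftLeft (Nat.lor TT_p777 (Nat.shiftLeft TT_p778 15997)) 15997)) 31994)) (Nat.shiftLeft (Nat.lor (Nat.lor TT_p779 (Nat.shiftLeft TT_p780 15997)) (Nat.shiftLeft (Nat.lor TT_p781 (Nat.shiftLeft (Nat.lor TT_p782 (Nat.shiftLeft TT_p783 15997)) 15997)) 31994)) 79985)) (Nat.shiftLeft (Nat.lor (Nat.lor (Nat.lor TT_p784 (Nat.shiftLeft TT_p785 15997)) (Nat.shiftLeft (Nat.lor TT_p786 (Nat.shiftLeft (Nat.lor TT_p787 (Nat.shiftLeft TT_p788 15997)) 15997)) 31994)) (Nat.shiftLeft (Nat.lor (Nat.lor TT_p789 (Nat.shiftLeft TT_p790 15997)) (Nat.shiftLeft (Nat.lor TT_p791 (Nat.shiftLeft (Nat.lor TT_p792 (Nat.shiftLeft TT_p793 15997)) 15997)) 31994)) 79985)) 159970)) (Nat.shiftLeft (Nat.lor (Nat.lor (Nat.lor (Nat.lor TT_p794 (Nat.shiftLeft TT_p795 15997)) (Nat.shiftLeft (Nat.lor TT_p796 (Nat.shiftLeft (Nat.lor TT_p797 (Nat.shiftLeft TT_p798 15997)) 15997)) 31994)) (Nat.shiftLeft (Nat.lor (Nat.lor TT_p799 (Nat.shiftLeft TT_p800 15997)) (Nat.shiftLeft (Nat.lor TT_p801 (Nat.shiftLeft (Nat.lor TT_p802 (Nat.shiftLeft TT_p803 15997)) 15997)) 31994)) 79985)) (Nat.shiftLeft (Nat.lor (Nat.lor (Nat.lor TT_p804 (Nat.shiftLeft TT_p805 15997)) (Nat.shiftLeft (Nat.lor TT_p806 (Nat.shiftLeft (Nat.lor TT_p807 (Nat.shiftLeft TT_p808 15997)) 15997)) 31994)) (Nat.shiftLeft (Nat.lor (Nat.lor TT_p809 (Nat.shiftLeft (Nat.lor TT_p810 (Nat.shiftLeft TT_p811 15997)) 15997)) (Nat.shiftLeft (Nat.lor TT_p812 (Nat.shiftLeft (Nat.lor TT_p813 (Nat.shiftLeft TT_p814 15997)) 15997)) 47991)) 79985)) 159970)) 319940)) 655877)) 1295757)) (Nat.shiftLeft (Nat.lor (Nat.lor (Nat.lor (Nat.lor (Nat.lor (Nat.lor (Nat.lor TT_p815 (Nat.shiftLeft TT_p816 15997)) (Nat.shiftLeft (Nat.lor TT_p817 (Nat.shiftLeft (Nat.lor TT_p818 (Nat.shiftLeft TT_p819 15997)) 15997)) 31994)) (Nat.shiftLeft (Nat.lor (Nat.lor TT_p820 (Nat.shiftLeft TT_p821 15997)) (Nat.shiftLeft (Nat.lor TT_p822 (Nat.shiftLeft (Nat.lor TT_p823 (Nat.shiftLeft TT_p824 15997)) 15997)) 31994)) 79985)) (Nat.shiftLeft (Nat.lor (Nat.lor (Nat.lor TT_p825 (Nat.shiftLeft TT_p826 15997)) (Nat.shiftLeft (Nat.lor TT_p827 (Nat.shiftLeft (Nat.lor TT_p828 (Nat.shiftLeft TT_p829 15997)) 15997)) 31994)) (Nat.shiftLeft (Nat.lor (Nat.lor TT_p830 (Nat.shiftLeft TT_p831 15997)) (Nat.shiftLeft (Nat.lor TT_p832 (Nat.shiftLeft (Nat.lor TT_p833 (Nat.shiftLeft TT_p834 15997)) 15997)) 31994)) 79985)) 159970)) (Nat.shiftLeft (Nat.lor (Nat.lor (Nat.lor (Nat.lor TT_p835 (Nat.shiftLeft TT_p836 15997)) (Nat.shiftLeft (Nat.lor TT_p837 (Nat.shiftLeft (Nat.lor TT_p838 (Nat.shiftLeft TT_p839 15997)) 15997)) 31994)) (Nat.shiftLeft (Nat.lor (Nat.lor TT_p840 (Nat.shiftLeft TT_p841 15997)) (Nat.shiftLeft (Nat.lor TT_p842 (Nat.shiftLeft (Nat.lor TT_p843 (Nat.shiftLeft TT_p844 15997)) 15997)) 31994)) 79985)) (Nat.shiftLeft (Nat.lor (Nat.lor (Nat.lor TT_p845 (Nat.shiftLeft TT_p846 15997)) (Nat.shiftLeft (Nat.lor TT_p847 (Nat.shiftLeft (Nat.lor TT_p848 (Nat.shiftLeft TT_p849 15997)) 15997)) 31994)) (Nat.shiftLeft (Nat.lor (Nat.lor TT_p850 (Nat.shiftLeft TT_p851 15997)) (Nat.shiftLeft (Nat.lor TT_p852 (Nat.shiftLeft (Nat.lor TT_p853 (Nat.shiftLeft TT_p854 15997)) 15997)) 31994)) 79985)) 159970)) 319940)) (Nat.shiftLeft (Nat.lor (Nat.lor (Nat.lor (Nat.lor (Nat.lor TT_p855 (Nat.shiftLeft TT_p856 15997)) (Nat.shiftLeft (Nat.lor TT_p857 (Nat.shiftLeft (Nat.lor TT_p858 (Nat.shiftLeft TT_p859 15997)) 15997)) 31994)) (Nat.shiftLeft (Nat.lor (Nat.lor TT_p860 (Nat.shiftLeft TT_p861 15997)) (Nat.shiftLeft (Nat.lor TT_p862 (Nat.shiftLeft (Nat.lor TT_p863 (Nat.shiftLeft TT_p864 15997)) 15997)) 31994)) 79985)) (Nat.shiftLeft (Nat.lor (Nat.lor (Nat.lor TT_p865 (Nat.shiftLeft TT_p866 15997)) (Nat.shiftLeft (Nat.lor TT_p867 (Nat.shiftLeft (Nat.lor TT_p868 (Nat.shiftLeft TT_p869 15997)) 15997)) 31994)) (Nat.shiftLeft (Nat.lor (Nat.lor TT_p870 (Nat.shiftLeft TT_p871 15997)) (Nat.shiftLeft (Nat.lor TT_p872 (Nat.shiftLeft (Nat.lor TT_p873 (Nat.shiftLeft TT_p874 15997)) 15997)) 31994)) 79985)) 159970)) (Nat.shiftLeft (Nat.lor (Nat.lor (Nat.lor (Nat.lor TT_p875 (Nat.shiftLeft TT_p876 15997)) (Nat.shiftLeft (Nat.lor TT_p877 (Nat.shiftLeft (Nat.lor TT_p878 (Nat.shiftLeft TT_p879 15997)) 15997)) 31994)) (Nat.shiftLeft (Nat.lor (Nat.lor TT_p880 (Nat.shiftLeft TT_p881 15997)) (Nat.shiftLeft (Nat.lor TT_p882 (Nat.shiftLeft (Nat.lor TT_p883 (Nat.shiftLeft TT_p884 15997)) 15997)) 31994)) 79985)) (Nat.shiftLeft (Nat.lor (Nat.lor (Nat.lor TT_p885 (Nat.shiftLeft TT_p886 15997)) (Nat.shiftLeft (Nat.lor TT_p887 (Nat.shiftLeft (Nat.lor TT_p888 (Nat.shiftLeft TT_p889 15997)) 15997)) 31994)) (Nat.shiftLeft (Nat.lor (Nat.lor TT_p890 (Nat.shiftLeft (Nat.lor TT_p891 (Nat.shiftLeft TT_p892 15997)) 15997)) (Nat.shiftLeft (Nat.lor TT_p893 (Nat.shiftLeft (Nat.lor TT_p894 (Nat.shiftLeft TT_p895 15997)) 15997)) 47991)) 79985)) 159970)) 319940)) 639880)) (Nat.shiftLeft (Nat.lor (Nat.lor (Nat.lor (Nat.lor (Nat.lor (Nat.lor TT_p896 (Nat.shiftLeft TT_p897 15997)) (Nat.shiftLeft (Nat.lor TT_p898 (Nat.shiftLeft (Nat.lor TT_p899 (Nat.shiftLeft TT_p900 15997)) 15997)) 31994)) (Nat.shiftLeft (Nat.lor (Nat.lor TT_p901 (Nat.shiftLeft TT_p902 15997)) (Nat.shiftLeft (Nat.lor TT_p903 (Nat.shiftLeft (Nat.lor TT_p904 (Nat.shiftLeft TT_p905 15997)) 15997)) 31994)) 79985)) (Nat.shiftLeft (Nat.lor (Nat.lor (Nat.lor TT_p906 (Nat.shiftLeft TT_p907 15997)) (Nat.shiftLeft (Nat.lor TT_p908 (Nat.shiftLeft (Nat.lor TT_p909 (Nat.shiftLeft TT_p910 15997)) 15997)) 31994)) (Nat.shiftLeft (Nat.lor (Nat.lor TT_p911 (Nat.shiftLeft TT_p912 15997)) (Nat.shiftLeft (Nat.lor TT_p913 (Nat.shiftLeft (Nat.lor TT_p914 (Nat.shiftLeft TT_p915 15997)) 15997)) 31994)) 79985)) 159970)) (Nat.shiftLeft (Nat.lor (Nat.lor (Nat.lor (Nat.lor TT_p916 (Nat.shiftLeft TT_p917 15997)) (Nat.shiftLeft (Nat.lor TT_p918 (Nat.shiftLeft (Nat.lor TT_p919 (Nat.shiftLeft TT_p920 15997)) 15997)) 31994)) (Nat.shiftLeft (Nat.lor (Nat.lor TT_p921 (Nat.shiftLeft TT_p922 15997)) (Nat.shiftLeft (Nat.lor TT_p923 (Nat.shiftLeft (Nat.lor TT_p924 (Nat.shiftLeft TT_p925 15997)) 15997)) 31994)) 79985)) (Nat.shiftLeft (Nat.lor (Nat.lor (Nat.lor TT_p926 (Nat.shiftLeft TT_p927 15997)) (Nat.shiftLeft (Nat.lor TT_p928 (Nat.shiftLeft (Nat.lor TT_p929 (Nat.shiftLeft TT_p930 15997)) 15997)) 31994)) (Nat.shiftLeft (Nat.lor (Nat.lor TT_p931 (Nat.shiftLeft (Nat.lor TT_p932 (Nat.shiftLeft TT_p933 15997)) 15997)) (Nat.shiftLeft (Nat.lor TT_p934 (Nat.shiftLeft (Nat.lor TT_p935 (Nat.shiftLeft TT_p936 15997)) 15997)) 47991)) 79985)) 159970)) 319940)) (Nat.shiftLeft (Nat.lor (Nat.lor (Nat.lor (Nat.lor (Nat.lor TT_p937 (Nat.shiftLeft TT_p938 15997)) (Nat.shiftLeft (Nat.lor TT_p939 (Nat.shiftLeft (Nat.lor TT_p940 (Nat.shiftLeft TT_p941 15997)) 15997)) 31994)) (Nat.shiftLeft (Nat.lor (Nat.lor TT_p942 (Nat.shiftLeft TT_p943 15997)) (Nat.shiftLeft (Nat.lor TT_p944 (Nat.shiftLeft (Nat.lor TT_p945 (Nat.shiftLeft TT_p946 15997)) 15997)) 31994)) 79985)) (Nat.shiftLeft (Nat.lor (Nat.lor (Nat.lor TT_p947 (Nat.shiftLeft TT_p948 15997)) (Nat.shiftLeft (Nat.lor TT_p949 (Nat.shiftLeft (Nat.lor TT_p950 (Nat.shiftLeft TT_p951 15997)) 15997)) 31994)) (Nat.shiftLeft (Nat.lor (Nat.lor TT_p952 (Nat.shiftLeft TT_p953 15997)) (Nat.shiftLeft (Nat.lor TT_p954 (Nat.shiftLeft (Nat.lor TT_p955 (Nat.shiftLeft TT_p956 15997)) 15997)) 31994)) 79985)) 159970)) (Nat.shiftLeft (Nat.lor (Nat.lor (Nat.lor (Nat.lor TT_p957 (Nat.shiftLeft TT_p958 15997)) (Nat.shiftLeft (Nat.lor TT_p959 (Nat.shiftLeft (Nat.lor TT_p960 (Nat.shiftLeft TT_p961 15997)) 15997)) 31994)) (Nat.shiftLeft (Nat.lor (Nat.lor TT_p962 (Nat.shiftLeft TT_p963 15997)) (Nat.shiftLeft (Nat.lor TT_p964 (Nat.shiftLeft (Nat.lor TT_p965 (Nat.shiftLeft TT_p966 15997)) 15997)) 31994)) 79985)) (Nat.shiftLeft (Nat.lor (Nat.lor (Nat.lor TT_p967 (Nat.shiftLeft TT_p968 15997)) (Nat.shiftLeft (Nat.lor TT_p969 (Nat.shiftLeft (Nat.lor TT_p970 (Nat.shiftLeft TT_p971 15997)) 15997)) 31994)) (Nat.shiftLeft (Nat.lor (Nat.lor TT_p972 (Nat.shiftLeft (Nat.lor TT_p973 (Nat.shiftLeft TT_p974 15997)) 15997)) (Nat.shiftLeft (Nat.lor TT_p975 (Nat.shiftLeft (Nat.lor TT_p976 (Nat.shiftLeft TT_p977 15997)) 15997)) 47991)) 79985)) 159970)) 319940)) 655877)) 1295757)) 2607511)) (Nat.shiftLeft (Nat.lor (Nat.lor (Nat.lor (Nat.lor (Nat.lor (Nat.lor (Nat.lor (Nat.lor TT_p978 (Nat.shiftLeft TT_p979 15997)) (Nat.shiftLeft (Nat.lor TT_p980 (Nat.shiftLeft (Nat.lor TT_p981 (Nat.shiftLeft TT_p982 15997)) 15997)) 31994)) (Nat.shiftLeft (Nat.lor (Nat.lor TT_p983 (Nat.shiftLeft TT_p984 15997)) (Nat.shiftLeft (Nat.lor TT_p985 (Nat.shiftLeft (Nat.lor TT_p986 (Nat.shiftLeft TT_p987 15997)) 15997)) 31994)) 79985)) (Nat.shiftLeft (Nat.lor (Nat.lor (Nat.lor TT_p988 (Nat.shiftLeft TT_p989 15997)) (Nat.shiftLeft (Nat.lor TT_p990 (Nat.shiftLeft (Nat.lor TT_p991 (Nat.shiftLeft TT_p992 15997)) 15997)) 31994)) (Nat.shiftLeft (Nat.lor (Nat.lor TT_p993 (Nat.shiftLeft TT_p994 15997)) (Nat.shiftLeft (Nat.lor TT_p995 (Nat.shiftLeft (Nat.lor TT_p996 (Nat.shiftLeft TT_p997 15997)) 15997)) 31994)) 79985)) 159970)) (Nat.shiftLeft (Nat.lor (Nat.lor (Nat.lor (Nat.lor TT_p998 (Nat.shiftLeft TT_p999 15997)) (Nat.shiftLeft (Nat.lor TT_p1000 (Nat.shiftLeft (Nat.lor TT_p1001 (Nat.shiftLeft TT_p1002 15997)) 15997)) 31994)) (Nat.shiftLeft (Nat.lor (Nat.lor TT_p1003 (Nat.shiftLeft TT_p1004 15997)) (Nat.shiftLeft (Nat.lor TT_p1005 (Nat.shiftLeft (Nat.lor TT_p1006 (Nat.shiftLeft TT_p1007 15997)) 15997)) 31994)) 79985)) (Nat.shiftLeft (Nat.lor (Nat.lor (Nat.lor TT_p1008 (Nat.shiftLeft TT_p1009 15997)) (Nat.shiftLeft (Nat.lor TT_p1010 (Nat.shiftLeft (Nat.lor TT_p1011 (Nat.shiftLeft TT_p1012 15997)) 15997)) 31994)) (Nat.shiftLeft (Nat.lor (Nat.lor TT_p1013 (Nat.shiftLeft TT_p1014 15997)) (Nat.shiftLeft (Nat.lor TT_p1015 (Nat.shiftLeft (Nat.lor TT_p1016 (Nat.shiftLeft TT_p1017 15997)) 15997)) 31994)) 79985)) 159970)) 319940)) (Nat.shiftLeft (Nat.lor (Nat.lor (Nat.lor (Nat.lor (Nat.lor TT_p1018 (Nat.shiftLeft TT_p1019 15997)) (Nat.shiftLeft (Nat.lor TT_p1020 (Nat.shiftLeft (Nat.lor TT_p1021 (Nat.shiftLeft TT_p1022 15997)) 15997)) 31994)) (Nat.shiftLeft (Nat.lor (Nat.lor TT_p1023 (Nat.shiftLeft TT_p1024 15997)) (Nat.shiftLeft (Nat.lor TT_p1025 (Nat.shiftLeft (Nat.lor TT_p1026 (Nat.shiftLeft TT_p1027 15997)) 15997)) 31994)) 79985)) (Nat.shiftLeft (Nat.lor (Nat.lor (Nat.lor TT_p1028 (Nat.shiftLeft TT_p1029 15997)) (Nat.shiftLeft (Nat.lor TT_p1030 (Nat.shiftLeft (Nat.lor TT_p1031 (Nat.shiftLeft TT_p1032 15997)) 15997)) 31994)) (Nat.shiftLeft (Nat.lor (Nat.lor TT_p1033 (Nat.shiftLeft TT_p1034 15997)) (Nat.shiftLeft (Nat.lor TT_p1035 (Nat.shiftLeft (Nat.lor TT_p1036 (Nat.shiftLeft TT_p1037 15997)) 15997)) 31994)) 79985)) 159970)) (Nat.shiftLeft (Nat.lor (Nat.lor (Nat.lor (Nat.lor TT_p1038 (Nat.shiftLeft TT_p1039 15997)) (Nat.shiftLeft (Nat.lor TT_p1040 (Nat.shiftLeft (Nat.lor TT_p1041 (Nat.shiftLeft TT_p1042 15997)) 15997)) 31994)) (Nat.shiftLeft (Nat.lor (Nat.lor TT_p1043 (Nat.shiftLeft TT_p1044 15997)) (Nat.shiftLeft (Nat.lor TT_p1045 (Nat.shiftLeft (Nat.lor TT_p1046 (Nat.shiftLeft TT_p1047 15997)) 15997)) 31994)) 79985)) (Nat.shiftLeft (Nat.lor (Nat.lor (Nat.lor TT_p1048 (Nat.shiftLeft TT_p1049 15997)) (Nat.shiftLeft (Nat.lor TT_p1050 (Nat.shiftLeft (Nat.lor TT_p1051 (Nat.shiftLeft TT_p1052 15997)) 15997)) 31994)) (Nat.shiftLeft (Nat.lor (Nat.lor TT_p1053 (Nat.shiftLeft (Nat.lor TT_p1054 (Nat.shiftLeft TT_p1055 15997)) 15997)) (Nat.shiftLeft (Nat.lor TT_p1056 (Nat.shiftLeft (Nat.lor TT_p1057 (Nat.shiftLeft TT_p1058 15997)) 15997)) 47991)) 79985)) 159970)) 319940)) 639880)) (Nat.shiftLeft (Nat.lor (Nat.lor (Nat.lor (Nat.lor (Nat.lor (Nat.lor TT_p1059 (Nat.shiftLeft TT_p1060 15997)) (Nat.shiftLeft (Nat.lor TT_p1061 (Nat.shiftLeft (Nat.lor TT_p1062 (Nat.shiftLeft TT_p1063 15997)) 15997)) 31994)) (Nat.shiftLeft (Nat.lor (Nat.lor TT_p1064 (Nat.shiftLeft TT_p1065 15997)) (Nat.shiftLeft (Nat.lor TT_p1066 (Nat.shiftLeft (Nat.lor TT_p1067 (Nat.shiftLeft TT_p1068 15997)) 15997)) 31994)) 79985)) (Nat.shiftLeft (Nat.lor (Nat.lor (Nat.lor TT_p1069 (Nat.shiftLeft TT_p1070 15997)) (Nat.shiftLeft (Nat.lor TT_p1071 (Nat.shiftLeft (Nat.lor TT_p1072 (Nat.shiftLeft TT_p1073 15997)) 15997)) 31994)) (Nat.shiftLeft (Nat.lor (Nat.lor TT_p1074 (Nat.shiftLeft TT_p1075 15997)) (Nat.shiftLeft (Nat.lor TT_p1076 (Nat.shiftLeft (Nat.lor TT_p1077 (Nat.shiftLeft TT_p1078 15997)) 15997)) 31994)) 79985)) 159970)) (Nat.shiftLeft (Nat.lor (Nat.lor (Nat.lor (Nat.lor TT_p1079 (Nat.shiftLeft TT_p1080 15997)) (Nat.shiftLeft (Nat.lor TT_p1081 (Nat.shiftLeft (Nat.lor TT_p1082 (Nat.shiftLeft TT_p1083 15997)) 15997)) 31994)) (Nat.shiftLeft (Nat.lor (Nat.lor TT_p1084 (Nat.shiftLeft TT_p1085 15997)) (Nat.shiftLeft (Nat.lor TT_p1086 (Nat.shiftLeft (Nat.lor TT_p1087 (Nat.shiftLeft TT_p1088 15997)) 15997)) 31994)) 79985)) (Nat.shiftLeft (Nat.lor (Nat.lor (Nat.lor TT_p1089 (Nat.shiftLeft TT_p1090 15997)) (Nat.shiftLeft (Nat.lor TT_p1091 (Nat.shiftLeft (Nat.lor TT_p1092 (Nat.shiftLeft TT_p1093 15997)) 15997)) 31994)) (Nat.shiftLeft (Nat.lor (Nat.lor TT_p1094 (Nat.shiftLeft (Nat.lor TT_p1095 (Nat.shiftLeft TT_p1096 15997)) 15997)) (Nat.shiftLeft (Nat.lor TT_p1097 (Nat.shiftLeft (Nat.lor TT_p1098 (Nat.shiftLeft TT_p1099 15997)) 15997)) 47991)) 79985)) 159970)) 319940)) (Nat.shiftLeft (Nat.lor (Nat.lor (Nat.lor (Nat.lor (Nat.lor TT_p1100 (Nat.shiftLeft TT_p1101 15997)) (Nat.shiftLeft (Nat.lor TT_p1102 (Nat.shiftLeft (Nat.lor TT_p1103 (Nat.shiftLeft TT_p1104 15997)) 15997)) 31994)) (Nat.shiftLeft (Nat.lor (Nat.lor TT_p1105 (Nat.shiftLeft TT_p1106 15997)) (Nat.shiftLeft (Nat.lor TT_p1107 (Nat.shiftLeft (Nat.lor TT_p1108 (Nat.shiftLeft TT_p1109 15997)) 15997)) 31994)) 79985)) (Nat.shiftLeft (Nat.lor (Nat.lor (Nat.lor TT_p1110 (Nat.shiftLeft TT_p1111 15997)) (Nat.shiftLeft (Nat.lor TT_p1112 (Nat.shiftLeft (Nat.lor TT_p1113 (Nat.shiftLeft TT_p1114 15997)) 15997)) 31994)) (Nat.shiftLeft (Nat.lor (Nat.lor TT_p1115 (Nat.shiftLeft TT_p1116 15997)) (Nat.shiftLeft (Nat.lor TT_p1117 (Nat.shiftLeft (Nat.lor TT_p1118 (Nat.shiftLeft TT_p1119 15997)) 15997)) 31994)) 79985)) 159970)) (Nat.shiftLeft (Nat.lor (Nat.lor (Nat.lor (Nat.lor TT_p1120 (Nat.shiftLeft TT_p1121 15997)) (Nat.shiftLeft (Nat.lor TT_p1122 (Nat.shiftLeft (Nat.lor TT_p1123 (Nat.shiftLeft TT_p1124 15997)) 15997)) 31994)) (Nat.shiftLeft (Nat.lor (Nat.lor TT_p1125 (Nat.shiftLeft TT_p1126 15997)) (Nat.shiftLeft (Nat.lor TT_p1127 (Nat.shiftLeft (Nat.lor TT_p1128 (Nat.shiftLeft TT_p1129 15997)) 15997)) 31994)) 79985)) (Nat.shiftLeft (Nat.lor (Nat.lor (Nat.lor TT_p1130 (Nat.shiftLeft TT_p1131 15997)) (Nat.shiftLeft (Nat.lor TT_p1132 (Nat.shiftLeft (Nat.lor TT_p1133 (Nat.shiftLeft TT_p1134 15997)) 15997)) 31994)) (Nat.shiftLeft (Nat.lor (Nat.lor TT_p1135 (Nat.shiftLeft (Nat.lor TT_p1136 (Nat.shiftLeft TT_p1137 15997)) 15997)) (Nat.shiftLeft (Nat.lor TT_p1138 (Nat.shiftLeft (Nat.lor TT_p1139 (Nat.shiftLeft TT_p1140 15997)) 15997)) 47991)) 79985)) 159970)) 319940)) 655877)) 1295757)) (Nat.shiftLeft (Nat.lor (Nat.lor (Nat.lor (Nat.lor (Nat.lor (Nat.lor (Nat.lor TT_p1141 (Nat.shiftLeft TT_p1142 15997)) (Nat.shiftLeft (Nat.lor TT_p1143 (Nat.shiftLeft (Nat.lor TT_p1144 (Nat.shiftLeft TT_p1145 15997)) 15997)) 31994)) (Nat.shiftLeft (Nat.lor (Nat.lor TT_p1146 (Nat.shiftLeft TT_p1147 15997)) (Nat.shiftLeft (Nat.lor TT_p1148 (Nat.shiftLeft (Nat.lor TT_p1149 (Nat.shiftLeft TT_p1150 15997)) 15997)) 31994)) 79985)) (Nat.shiftLeft (Nat.lor (Nat.lor (Nat.lor TT_p1151 (Nat.shiftLeft TT_p1152 15997)) (Nat.shiftLeft (Nat.lor TT_p1153 (Nat.shiftLeft (Nat.lor TT_p1154 (Nat.shiftLeft TT_p1155 15997)) 15997)) 31994)) (Nat.shiftLeft (Nat.lor (Nat.lor TT_p1156 (Nat.shiftLeft TT_p1157 15997)) (Nat.shiftLeft (Nat.lor TT_p1158 (Nat.shiftLeft (Nat.lor TT_p1159 (Nat.shiftLeft TT_p1160 15997)) 15997)) 31994)) 79985)) 159970)) (Nat.shiftLeft (Nat.lor (Nat.lor (Nat.lor (Nat.lor TT_p1161 (Nat.shiftLeft TT_p1162 15997)) (Nat.shiftLeft (Nat.lor TT_p1163 (Nat.shiftLeft (Nat.lor TT_p1164 (Nat.shiftLeft TT_p1165 15997)) 15997)) 31994)) (Nat.shiftLeft (Nat.lor (Nat.lor TT_p1166 (Nat.shiftLeft TT_p1167 15997)) (Nat.shiftLeft (Nat.lor TT_p1168 (Nat.shiftLeft (Nat.lor TT_p1169 (Nat.shiftLeft TT_p1170 15997)) 15997)) 31994)) 79985)) (Nat.shiftLeft (Nat.lor (Nat.lor (Nat.lor TT_p1171 (Nat.shiftLeft TT_p1172 15997)) (Nat.shiftLeft (Nat.lor TT_p1173 (Nat.shiftLeft (Nat.lor TT_p1174 (Nat.shiftLeft TT_p1175 15997)) 15997)) 31994)) (Nat.shiftLeft (Nat.lor (Nat.lor TT_p1176 (Nat.shiftLeft (Nat.lor TT_p1177 (Nat.shiftLeft TT_p1178 15997)) 15997)) (Nat.shiftLeft (Nat.lor TT_p1179 (Nat.shiftLeft (Nat.lor TT_p1180 (Nat.shiftLeft TT_p1181 15997)) 15997)) 47991)) 79985)) 159970)) 319940)) (Nat.shiftLeft (Nat.lor (Nat.lor (Nat.lor (Nat.lor (Nat.lor TT_p1182 (Nat.shiftLeft TT_p1183 15997)) (Nat.shiftLeft (Nat.lor TT_p1184 (Nat.shiftLeft (Nat.lor TT_p1185 (Nat.shiftLeft TT_p1186 15997)) 15997)) 31994)) (Nat.shiftLeft (Nat.lor (Nat.lor TT_p1187 (Nat.shiftLeft TT_p1188 15997)) (Nat.shiftLeft (Nat.lor TT_p1189 (Nat.shiftLeft (Nat.lor TT_p1190 (Nat.shiftLeft TT_p1191 15997)) 15997)) 31994)) 79985)) (Nat.shiftLeft (Nat.lor (Nat.lor (Nat.lor TT_p1192 (Nat.shiftLeft TT_p1193 15997)) (Nat.shiftLeft (Nat.lor TT_p1194 (Nat.shiftLeft (Nat.lor TT_p1195 (Nat.shiftLeft TT_p1196 15997)) 15997)) 31994)) (Nat.shiftLeft (Nat.lor (Nat.lor TT_p1197 (Nat.shiftLeft TT_p1198 15997)) (Nat.shiftLeft (Nat.lor TT_p1199 (Nat.shiftLeft (Nat.lor TT_p1200 (Nat.shiftLeft TT_p1201 15997)) 15997)) 31994)) 79985)) 159970)) (Nat.shiftLeft (Nat.lor (Nat.lor (Nat.lor (Nat.lor TT_p1202 (Nat.shiftLeft TT_p1203 15997)) (Nat.shiftLeft (Nat.lor TT_p1204 (Nat.shiftLeft (Nat.lor TT_p1205 (Nat.shiftLeft TT_p1206 15997)) 15997)) 31994)) (Nat.shiftLeft (Nat.lor (Nat.lor TT_p1207 (Nat.shiftLeft TT_p1208 15997)) (Nat.shiftLeft (Nat.lor TT_p1209 (Nat.shiftLeft (Nat.lor TT_p1210 (Nat.shiftLeft TT_p1211 15997)) 15997)) 31994)) 79985)) (Nat.shiftLeft (Nat.lor (Nat.lor (Nat.lor TT_p1212 (Nat.shiftLeft TT_p1213 15997)) (Nat.shiftLeft (Nat.lor TT_p1214 (Nat.shiftLeft (Nat.lor TT_p1215 (Nat.shiftLeft TT_p1216 15997)) 15997)) 31994)) (Nat.shiftLeft (Nat.lor (Nat.lor TT_p1217 (Nat.shiftLeft (Nat.lor TT_p1218 (Nat.shiftLeft TT_p1219 15997)) 15997)) (Nat.shiftLeft (Nat.lor TT_p1220 (Nat.shiftLeft (Nat.lor TT_p1221 (Nat.shiftLeft TT_p1222 15997)) 15997)) 47991)) 79985)) 159970)) 319940)) 655877)) (Nat.shiftLeft (Nat.lor (Nat.lor (Nat.lor (Nat.lor (Nat.lor (Nat.lor TT_p1223 (Nat.shiftLeft TT_p1224 15997)) (Nat.shiftLeft (Nat.lor TT_p1225 (Nat.shiftLeft (Nat.lor TT_p1226 (Nat.shiftLeft TT_p1227 15997)) 15997)) 31994)) (Nat.shiftLeft (Nat.lor (Nat.lor TT_p1228 (Nat.shiftLeft TT_p1229 15997)) (Nat.shiftLeft (Nat.lor TT_p1230 (Nat.shiftLeft (Nat.lor TT_p1231 (Nat.shiftLeft TT_p1232 15997)) 15997)) 31994)) 79985)) (Nat.shiftLeft (Nat.lor (Nat.lor (Nat.lor TT_p1233 (Nat.shiftLeft TT_p1234 15997)) (Nat.shiftLeft (Nat.lor TT_p1235 (Nat.shiftLeft (Nat.lor TT_p1236 (Nat.shiftLeft TT_p1237 15997)) 15997)) 31994)) (Nat.shiftLeft (Nat.lor (Nat.lor TT_p1238 (Nat.shiftLeft TT_p1239 15997)) (Nat.shiftLeft (Nat.lor TT_p1240 (Nat.shiftLeft (Nat.lor TT_p1241 (Nat.shiftLeft TT_p1242 15997)) 15997)) 31994)) 79985)) 159970)) (Nat.shiftLeft (Nat.lor (Nat.lor (Nat.lor (Nat.lor TT_p1243 (Nat.shiftLeft TT_p1244 15997)) (Nat.shiftLeft (Nat.lor TT_p1245 (Nat.shiftLeft (Nat.lor TT_p1246 (Nat.shiftLeft TT_p1247 15997)) 15997)) 31994)) (Nat.shiftLeft (Nat.lor (Nat.lor TT_p1248 (Nat.shiftLeft TT_p1249 15997)) (Nat.shiftLeft (Nat.lor TT_p1250 (Nat.shiftLeft (Nat.lor TT_p1251 (Nat.shiftLeft TT_p1252 15997)) 15997)) 31994)) 79985)) (Nat.shiftLeft (Nat.lor (Nat.lor (Nat.lor TT_p1253 (Nat.shiftLeft TT_p1254 15997)) (Nat.shiftLeft (Nat.lor TT_p1255 (Nat.shiftLeft (Nat.lor TT_p1256 (Nat.shiftLeft TT_p1257 15997)) 15997)) 31994)) (Nat.shiftLeft (Nat.lor (Nat.lor TT_p1258 (Nat.shiftLeft (Nat.lor TT_p1259 (Nat.shiftLeft TT_p1260 15997)) 15997)) (Nat.shiftLeft (Nat.lor TT_p1261 (Nat.shiftLeft (Nat.lor TT_p1262 (Nat.shiftLeft TT_p1263 15997)) 15997)) 47991)) 79985)) 159970)) 319940)) (Nat.shiftLeft (Nat.lor (Nat.lor (Nat.lor (Nat.lor (Nat.lor TT_p1264 (Nat.shiftLeft TT_p1265 15997)) (Nat.shiftLeft (Nat.lor TT_p1266 (Nat.shiftLeft (Nat.lor TT_p1267 (Nat.shiftLeft TT_p1268 15997)) 15997)) 31994)) (Nat.shiftLeft (Nat.lor (Nat.lor TT_p1269 (Nat.shiftLeft TT_p1270 15997)) (Nat.shiftLeft (Nat.lor TT_p1271 (Nat.shiftLeft (Nat.lor TT_p1272 (Nat.shiftLeft TT_p1273 15997)) 15997)) 31994)) 79985)) (Nat.shiftLeft (Nat.lor (Nat.lor (Nat.lor TT_p1274 (Nat.shiftLeft TT_p1275 15997)) (Nat.shiftLeft (Nat.lor TT_p1276 (Nat.shiftLeft (Nat.lor TT_p1277 (Nat.shiftLeft TT_p1278 15997)) 15997)) 31994)) (Nat.shiftLeft (Nat.lor (Nat.lor TT_p1279 (Nat.shiftLeft TT_p1280 15997)) (Nat.shiftLeft (Nat.lor TT_p1281 (Nat.shiftLeft (Nat.lor TT_p1282 (Nat.shiftLeft TT_p1283 15997)) 15997)) 31994)) 79985)) 159970)) (Nat.shiftLeft (Nat.lor (Nat.lor (Nat.lor (Nat.lor TT_p1284 (Nat.shiftLeft TT_p1285 15997)) (Nat.shiftLeft (Nat.lor TT_p1286 (Nat.shiftLeft (Nat.lor TT_p1287 (Nat.shiftLeft TT_p1288 15997)) 15997)) 31994)) (Nat.shiftLeft (Nat.lor (Nat.lor TT_p1289 (Nat.shiftLeft TT_p1290 15997)) (Nat.shiftLeft (Nat.lor TT_p1291 (Nat.shiftLeft (Nat.lor TT_p1292 (Nat.shiftLeft TT_p1293 15997)) 15997)) 31994)) 79985)) (Nat.shiftLeft (Nat.lor (Nat.lor (Nat.lor TT_p1294 (Nat.shiftLeft TT_p1295 15997)) (Nat.shiftLeft (Nat.lor TT_p1296 (Nat.shiftLeft (Nat.lor TT_p1297 (Nat.shiftLeft TT_p1298 15997)) 15997)) 31994)) (Nat.shiftLeft (Nat.lor (Nat.lor TT_p1299 (Nat.shiftLeft (Nat.lor TT_p1300 (Nat.shiftLeft TT_p1301 15997)) 15997)) (Nat.shiftLeft (Nat.lor TT_p1302 (Nat.shiftLeft (Nat.lor TT_p1303 (Nat.shiftLeft TT_p1304 15997)) 15997)) 47991)) 79985)) 159970)) 319940)) 655877)) 1311754)) 2607511)) 5215022)) 10430044)) (Nat.shiftLeft (Nat.lor (Nat.lor (Nat.lor (Nat.lor (Nat.lor (Nat.lor (Nat.lor (Nat.lor (Nat.lor (Nat.lor TT_p1305 (Nat.shiftLeft TT_p1306 15997)) (Nat.shiftLeft (Nat.lor TT_p1307 (Nat.shiftLeft (Nat.lor TT_p1308 (Nat.shiftLeft TT_p1309 15997)) 15997)) 31994)) (Nat.shiftLeft (Nat.lor (Nat.lor TT_p1310 (Nat.shiftLeft TT_p1311 15997)) (Nat.shiftLeft (Nat.lor TT_p1312 (Nat.shiftLeft (Nat.lor TT_p1313 (Nat.shiftLeft TT_p1314 15997)) 15997)) 31994)) 79985)) (Nat.shiftLeft (Nat.lor (Nat.lor (Nat.lor TT_p1315 (Nat.shiftLeft TT_p1316 15997)) (Nat.shiftLeft (Nat.lor TT_p1317 (Nat.shiftLeft (Nat.lor TT_p1318 (Nat.shiftLeft TT_p1319 15997)) 15997)) 31994)) (Nat.shiftLeft (Nat.lor (Nat.lor TT_p1320 (Nat.shiftLeft TT_p1321 15997)) (Nat.shiftLeft (Nat.lor TT_p1322 (Nat.shiftLeft (Nat.lor TT_p1323 (Nat.shiftLeft TT_p1324 15997)) 15997)) 31994)) 79985)) 159970)) (Nat.shiftLeft (Nat.lor (Nat.lor (Nat.lor (Nat.lor TT_p1325 (Nat.shiftLeft TT_p1326 15997)) (Nat.shiftLeft (Nat.lor TT_p1327 (Nat.shiftLeft (Nat.lor TT_p1328 (Nat.shiftLeft TT_p1329 15997)) 15997)) 31994)) (Nat.shiftLeft (Nat.lor (Nat.lor TT_p1330 (Nat.shiftLeft TT_p1331 15997)) (Nat.shiftLeft (Nat.lor TT_p1332 (Nat.shiftLeft (Nat.lor TT_p1333 (Nat.shiftLeft TT_p1334 15997)) 15997)) 31994)) 79985)) (Nat.shiftLeft (Nat.lor (Nat.lor (Nat.lor TT_p1335 (Nat.shiftLeft TT_p1336 15997)) (Nat.shiftLeft (Nat.lor TT_p1337 (Nat.shiftLeft (Nat.lor TT_p1338 (Nat.shiftLeft TT_p1339 15997)) 15997)) 31994)) (Nat.shiftLeft (Nat.lor (Nat.lor TT_p1340 (Nat.shiftLeft TT_p1341 15997)) (Nat.shiftLeft (Nat.lor TT_p1342 (Nat.shiftLeft (Nat.lor TT_p1343 (Nat.shiftLeft TT_p1344 15997)) 15997)) 31994)) 79985)) 159970)) 319940)) (Nat.shiftLeft (Nat.lor (Nat.lor (Nat.lor (Nat.lor (Nat.lor TT_p1345 (Nat.shiftLeft TT_p1346 15997)) (Nat.shiftLeft (Nat.lor TT_p1347 (Nat.shiftLeft (Nat.lor TT_p1348 (Nat.shiftLeft TT_p1349 15997)) 15997)) 31994)) (Nat.shiftLeft (Nat.lor (Nat.lor TT_p1350 (Nat.shiftLeft TT_p1351 15997)) (Nat.shiftLeft (Nat.lor TT_p1352 (Nat.shiftLeft (Nat.lor TT_p1353 (Nat.shiftLeft TT_p1354 15997)) 15997)) 31994)) 79985)) (Nat.shiftLeft (Nat.lor (Nat.lor (Nat.lor TT_p1355 (Nat.shiftLeft TT_p1356 15997)) (Nat.shiftLeft (Nat.lor TT_p1357 (Nat.shiftLeft (Nat.lor TT_p1358 (Nat.shiftLeft TT_p1359 15997)) 15997)) 31994)) (Nat.shiftLeft (Nat.lor (Nat.lor TT_p1360 (Nat.shiftLeft TT_p1361 15997)) (Nat.shiftLeft (Nat.lor TT_p1362 (Nat.shiftLeft (Nat.lor TT_p1363 (Nat.shiftLeft TT_p1364 15997)) 15997)) 31994)) 79985)) 159970)) (Nat.shiftLeft (Nat.lor (Nat.lor (Nat.lor (Nat.lor TT_p1365 (Nat.shiftLeft TT_p1366 15997)) (Nat.shiftLeft (Nat.lor TT_p1367 (Nat.shiftLeft (Nat.lor TT_p1368 (Nat.shiftLeft TT_p1369 15997)) 15997)) 31994)) (Nat.shiftLeft (Nat.lor (Nat.lor TT_p1370 (Nat.shiftLeft TT_p1371 15997)) (Nat.shiftLeft (Nat.lor TT_p1372 (Nat.shiftLeft (Nat.lor TT_p1373 (Nat.shiftLeft TT_p1374 15997)) 15997)) 31994)) 79985)) (Nat.shiftLeft (Nat.lor (Nat.lor (Nat.lor TT_p1375 (Nat.shiftLeft TT_p1376 15997)) (Nat.shiftLeft (Nat.lor TT_p1377 (Nat.shiftLeft (Nat.lor TT_p1378 (Nat.shiftLeft TT_p1379 15997)) 15997)) 31994)) (Nat.shiftLeft (Nat.lor (Nat.lor TT_p1380 (Nat.shiftLeft (Nat.lor TT_p1381 (Nat.shiftLeft TT_p1382 15997)) 15997)) (Nat.shiftLeft (Nat.lor TT_p1383 (Nat.shiftLeft (Nat.lor TT_p1384 (Nat.shiftLeft TT_p1385 15997)) 15997)) 47991)) 79985)) 159970)) 319940)) 639880)) (Nat.shiftLeft (Nat.lor (Nat.lor (Nat.lor (Nat.lor (Nat.lor (Nat.lor TT_p1386 (Nat.shiftLeft TT_p1387 15997)) (Nat.shiftLeft (Nat.lor TT_p1388 (Nat.shiftLeft (Nat.lor TT_p1389 (Nat.shiftLeft TT_p1390 15997)) 15997)) 31994)) (Nat.shiftLeft (Nat.lor (Nat.lor TT_p1391 (Nat.shiftLeft TT_p1392 15997)) (Nat.shiftLeft (Nat.lor TT_p1393 (Nat.shiftLeft (Nat.lor TT_p1394 (Nat.shiftLeft TT_p1395 15997)) 15997)) 31994)) 79985)) (Nat.shiftLeft (Nat.lor (Nat.lor (Nat.lor TT_p1396 (Nat.shiftLeft TT_p1397 15997)) (Nat.shiftLeft (Nat.lor TT_p1398 (Nat.shiftLeft (Nat.lor TT_p1399 (Nat.shiftLeft TT_p1400 15997)) 15997)) 31994)) (Nat.shiftLeft (Nat.lor (Nat.lor TT_p1401 (Nat.shiftLeft TT_p1402 15997)) (Nat.shiftLeft (Nat.lor TT_p1403 (Nat.shiftLeft (Nat.lor TT_p1404 (Nat.shiftLeft TT_p1405 15997)) 15997)) 31994)) 79985)) 159970)) (Nat.shiftLeft (Nat.lor (Nat.lor (Nat.lor (Nat.lor TT_p1406 (Nat.shiftLeft TT_p1407 15997)) (Nat.shiftLeft (Nat.lor TT_p1408 (Nat.shiftLeft (Nat.lor TT_p1409 (Nat.shiftLeft TT_p1410 15997)) 15997)) 31994)) (Nat.shiftLeft (Nat.lor (Nat.lor TT_p1411 (Nat.shiftLeft TT_p1412 15997)) (Nat.shiftLeft (Nat.lor TT_p1413 (Nat.shiftLeft (Nat.lor TT_p1414 (Nat.shiftLeft TT_p1415 15997)) 15997)) 31994)) 79985)) (Nat.shiftLeft (Nat.lor (Nat.lor (Nat.lor TT_p1416 (Nat.shiftLeft TT_p1417 15997)) (Nat.shiftLeft (Nat.lor TT_p1418 (Nat.shiftLeft (Nat.lor TT_p1419 (Nat.shiftLeft TT_p1420 15997)) 15997)) 31994)) (Nat.shiftLeft (Nat.lor (Nat.lor TT_p1421 (Nat.shiftLeft (Nat.lor TT_p1422 (Nat.shiftLeft TT_p1423 15997)) 15997)) (Nat.shiftLeft (Nat.lor TT_p1424 (Nat.shiftLeft (Nat.lor TT_p1425 (Nat.shiftLeft TT_p1426 15997)) 15997)) 47991)) 79985)) 159970)) 319940)) (Nat.shiftLeft (Nat.lor (Nat.lor (Nat.lor (Nat.lor (Nat.lor TT_p1427 (Nat.shiftLeft TT_p1428 15997)) (Nat.shiftLeft (Nat.lor TT_p1429 (Nat.shiftLeft (Nat.lor TT_p1430 (Nat.shiftLeft TT_p1431 15997)) 15997)) 31994)) (Nat.shiftLeft (Nat.lor (Nat.lor TT_p1432 (Nat.shiftLeft TT_p1433 15997)) (Nat.shiftLeft (Nat.lor TT_p1434 (Nat.shiftLeft (Nat.lor TT_p1435 (Nat.shiftLeft TT_p1436 15997)) 15997)) 31994)) 79985)) (Nat.shiftLeft (Nat.lor (Nat.lor (Nat.lor TT_p1437 (Nat.shiftLeft TT_p1438 15997)) (Nat.shiftLeft (Nat.lor TT_p1439 (Nat.shiftLeft (Nat.lor TT_p1440 (Nat.shiftLeft TT_p1441 15997)) 15997)) 31994)) (Nat.shiftLeft (Nat.lor (Nat.lor TT_p1442 (Nat.shiftLeft TT_p1443 15997)) (Nat.shiftLeft (Nat.lor TT_p1444 (Nat.shiftLeft (Nat.lor TT_p1445 (Nat.shiftLeft TT_p1446 15997)) 15997)) 31994)) 79985)) 159970)) (Nat.shiftLeft (Nat.lor (Nat.lor (Nat.lor (Nat.lor TT_p1447 (Nat.shiftLeft TT_p1448 15997)) (Nat.shiftLeft (Nat.lor TT_p1449 (Nat.shiftLeft (Nat.lor TT_p1450 (Nat.shiftLeft TT_p1451 15997)) 15997)) 31994)) (Nat.shiftLeft (Nat.lor (Nat.lor TT_p1452 (Nat.shiftLeft TT_p1453 15997)) (Nat.shiftLeft (Nat.lor TT_p1454 (Nat.shiftLeft (Nat.lor TT_p1455 (Nat.shiftLeft TT_p1456 15997)) 15997)) 31994)) 79985)) (Nat.shiftLeft (Nat.lor (Nat.lor (Nat.lor TT_p1457 (Nat.shiftLeft TT_p1458 15997)) (Nat.shiftLeft (Nat.lor TT_p1459 (Nat.shiftLeft (Nat.lor TT_p1460 (Nat.shiftLeft TT_p1461 15997)) 15997)) 31994)) (Nat.shiftLeft (Nat.lor (Nat.lor TT_p1462 (Nat.shiftLeft (Nat.lor TT_p1463 (Nat.shiftLeft TT_p1464 15997)) 15997)) (Nat.shiftLeft (Nat.lor TT_p1465 (Nat.shiftLeft (Nat.lor TT_p1466 (Nat.shiftLeft TT_p1467 15997)) 15997)) 47991)) 79985)) 159970)) 319940)) 655877)) 1295757)) (Nat.shiftLeft (Nat.lor (Nat.lor (Nat.lor (Nat.lor (Nat.lor (Nat.lor (Nat.lor TT_p1468 (Nat.shiftLeft TT_p1469 15997)) (Nat.shiftLeft (Nat.lor TT_p1470 (Nat.shiftLeft (Nat.lor TT_p1471 (Nat.shiftLeft TT_p1472 15997)) 15997)) 31994)) (Nat.shiftLeft (Nat.lor (Nat.lor TT_p1473 (Nat.shiftLeft TT_p1474 15997)) (Nat.shiftLeft (Nat.lor TT_p1475 (Nat.shiftLeft (Nat.lor TT_p1476 (Nat.shiftLeft TT_p1477 15997)) 15997)) 31994)) 79985)) (Nat.shiftLeft (Nat.lor (Nat.lor (Nat.lor TT_p1478 (Nat.shiftLeft TT_p1479 15997)) (Nat.shiftLeft (Nat.lor TT_p1480 (Nat.shiftLeft (Nat.lor TT_p1481 (Nat.shiftLeft TT_p1482 15997)) 15997)) 31994)) (Nat.shiftLeft (Nat.lor (Nat.lor TT_p1483 (Nat.shiftLeft TT_p1484 15997)) (Nat.shiftLeft (Nat.lor TT_p1485 (Nat.shiftLeft (Nat.lor TT_p1486 (Nat.shiftLeft TT_p1487 15997)) 15997)) 31994)) 79985)) 159970)) (Nat.shiftLeft (Nat.lor (Nat.lor (Nat.lor (Nat.lor TT_p1488 (Nat.shiftLeft TT_p1489 15997)) (Nat.shiftLeft (Nat.lor TT_p1490 (Nat.shiftLeft (Nat.lor TT_p1491 (Nat.shiftLeft TT_p1492 15997)) 15997)) 31994)) (Nat.shiftLeft (Nat.lor (Nat.lor TT_p1493 (Nat.shiftLeft TT_p1494 15997)) (Nat.shiftLeft (Nat.lor TT_p1495 (Nat.shiftLeft (Nat.lor TT_p1496 (Nat.shiftLeft TT_p1497 15997)) 15997)) 31994)) 79985)) (Nat.shiftLeft (Nat.lor (Nat.lor (Nat.lor TT_p1498 (Nat.shiftLeft TT_p1499 15997)) (Nat.shiftLeft (Nat.lor TT_p1500 (Nat.shiftLeft (Nat.lor TT_p1501 (Nat.shiftLeft TT_p1502 15997)) 15997)) 31994)) (Nat.shiftLeft (Nat.lor (Nat.lor TT_p1503 (Nat.shiftLeft TT_p1504 15997)) (Nat.shiftLeft (Nat.lor TT_p1505 (Nat.shiftLeft (Nat.lor TT_p1506 (Nat.shiftLeft TT_p1507 15997)) 15997)) 31994)) 79985)) 159970)) 319940)) (Nat.shiftLeft (Nat.lor (Nat.lor (Nat.lor (Nat.lor (Nat.lor TT_p1508 (Nat.shiftLeft TT_p1509 15997)) (Nat.shiftLeft (Nat.lor TT_p1510 (Nat.shiftLeft (Nat.lor TT_p1511 (Nat.shiftLeft TT_p1512 15997)) 15997)) 31994)) (Nat.shiftLeft (Nat.lor (Nat.lor TT_p1513 (Nat.shiftLeft TT_p1514 15997)) (Nat.shiftLeft (Nat.lor TT_p1515 (Nat.shiftLeft (Nat.lor TT_p1516 (Nat.shiftLeft TT_p1517 15997)) 15997)) 31994)) 79985)) (Nat.shiftLeft (Nat.lor (Nat.lor (Nat.lor TT_p1518 (Nat.shiftLeft TT_p1519 15997)) (Nat.shiftLeft (Nat.lor TT_p1520 (Nat.shiftLeft (Nat.lor TT_p1521 (Nat.shiftLeft TT_p1522 15997)) 15997)) 31994)) (Nat.shiftLeft (Nat.lor (Nat.lor TT_p1523 (Nat.shiftLeft TT_p1524 15997)) (Nat.shiftLeft (Nat.lor TT_p1525 (Nat.shiftLeft (Nat.lor TT_p1526 (Nat.shiftLeft TT_p1527 15997)) 15997)) 31994)) 79985)) 159970)) (Nat.shiftLeft (Nat.lor (Nat.lor (Nat.lor (Nat.lor TT_p1528 (Nat.shiftLeft TT_p1529 15997)) (Nat.shiftLeft (Nat.lor TT_p1530 (Nat.shiftLeft (Nat.lor TT_p1531 (Nat.shiftLeft TT_p1532 15997)) 15997)) 31994)) (Nat.shiftLeft (Nat.lor (Nat.lor TT_p1533 (Nat.shiftLeft TT_p1534 15997)) (Nat.shiftLeft (Nat.lor TT_p1535 (Nat.shiftLeft (Nat.lor TT_p1536 (Nat.shiftLeft TT_p1537 15997)) 15997)) 31994)) 79985)) (Nat.shiftLeft (Nat.lor (Nat.lor (Nat.lor TT_p1538 (Nat.shiftLeft TT_p1539 15997)) (Nat.shiftLeft (Nat.lor TT_p1540 (Nat.shiftLeft (Nat.lor TT_p1541 (Nat.shiftLeft TT_p1542 15997)) 15997)) 31994)) (Nat.shiftLeft (Nat.lor (Nat.lor TT_p1543 (Nat.shiftLeft (Nat.lor TT_p1544 (Nat.shiftLeft TT_p1545 15997)) 15997)) (Nat.shiftLeft (Nat.lor TT_p1546 (Nat.shiftLeft (Nat.lor TT_p1547 (Nat.shiftLeft TT_p1548 15997)) 15997)) 47991)) 79985)) 159970)) 319940)) 639880)) (Nat.shiftLeft (Nat.lor (Nat.lor (Nat.lor (Nat.lor (Nat.lor (Nat.lor TT_p1549 (Nat.shiftLeft TT_p1550 15997)) (Nat.shiftLeft (Nat.lor TT_p1551 (Nat.shiftLeft (Nat.lor TT_p1552 (Nat.shiftLeft TT_p1553 15997)) 15997)) 31994)) (Nat.shiftLeft (Nat.lor (Nat.lor TT_p1554 (Nat.shiftLeft TT_p1555 15997)) (Nat.shiftLeft (Nat.lor TT_p1556 (Nat.shiftLeft (Nat.lor TT_p1557 (Nat.shiftLeft TT_p1558 15997)) 15997)) 31994)) 79985)) (Nat.shiftLeft (Nat.lor (Nat.lor (Nat.lor TT_p1559 (Nat.shiftLeft TT_p1560 15997)) (Nat.shiftLeft (Nat.lor TT_p1561 (Nat.shiftLeft (Nat.lor TT_p1562 (Nat.shiftLeft TT_p1563 15997)) 15997)) 31994)) (Nat.shiftLeft (Nat.lor (Nat.lor TT_p1564 (Nat.shiftLeft TT_p1565 15997)) (Nat.shiftLeft (Nat.lor TT_p1566 (Nat.shiftLeft (Nat.lor TT_p1567 (Nat.shiftLeft TT_p1568 15997)) 15997)) 31994)) 79985)) 159970)) (Nat.shiftLeft (Nat.lor (Nat.lor (Nat.lor (Nat.lor TT_p1569 (Nat.shiftLeft TT_p1570 15997)) (Nat.shiftLeft (Nat.lor TT_p1571 (Nat.shiftLeft (Nat.lor TT_p1572 (Nat.shiftLeft TT_p1573 15997)) 15997)) 31994)) (Nat.shiftLeft (Nat.lor (Nat.lor TT_p1574 (Nat.shiftLeft TT_p1575 15997)) (Nat.shiftLeft (Nat.lor TT_p1576 (Nat.shiftLeft (Nat.lor TT_p1577 (Nat.shiftLeft TT_p1578 15997)) 15997)) 31994)) 79985)) (Nat.shiftLeft (Nat.lor (Nat.lor (Nat.lor TT_p1579 (Nat.shiftLeft TT_p1580 15997)) (Nat.shiftLeft (Nat.lor TT_p1581 (Nat.shiftLeft (Nat.lor TT_p1582 (Nat.shiftLeft TT_p1583 15997)) 15997)) 31994)) (Nat.shiftLeft (Nat.lor (Nat.lor TT_p1584 (Nat.shiftLeft (Nat.lor TT_p1585 (Nat.shiftLeft TT_p1586 15997)) 15997)) (Nat.shiftLeft (Nat.lor TT_p1587 (Nat.shiftLeft (Nat.lor TT_p1588 (Nat.shiftLeft TT_p1589 15997)) 15997)) 47991)) 79985)) 159970)) 319940)) (Nat.shiftLeft (Nat.lor (Nat.lor (Nat.lor (Nat.lor (Nat.lor TT_p1590 (Nat.shiftLeft TT_p1591 15997)) (Nat.shiftLeft (Nat.lor TT_p1592 (Nat.shiftLeft (Nat.lor TT_p1593 (Nat.shiftLeft TT_p1594 15997)) 15997)) 31994)) (Nat.shiftLeft (Nat.lor (Nat.lor TT_p1595 (Nat.shiftLeft TT_p1596 15997)) (Nat.shiftLeft (Nat.lor TT_p1597 (Nat.shiftLeft (Nat.lor TT_p1598 (Nat.shiftLeft TT_p1599 15997)) 15997)) 31994)) 79985)) (Nat.shiftLeft (Nat.lor (Nat.lor (Nat.lor TT_p1600 (Nat.shiftLeft TT_p1601 15997)) (Nat.shiftLeft (Nat.lor TT_p1602 (Nat.shiftLeft (Nat.lor TT_p1603 (Nat.shiftLeft TT_p1604 15997)) 15997)) 31994)) (Nat.shiftLeft (Nat.lor (Nat.lor TT_p1605 (Nat.shiftLeft TT_p1606 15997)) (Nat.shiftLeft (Nat.lor TT_p1607 (Nat.shiftLeft (Nat.lor TT_p1608 (Nat.shiftLeft TT_p1609 15997)) 15997)) 31994)) 79985)) 159970)) (Nat.shiftLeft (Nat.lor (Nat.lor (Nat.lor (Nat.lor TT_p1610 (Nat.shiftLeft TT_p1611 15997)) (Nat.shiftLeft (Nat.lor TT_p1612 (Nat.shiftLeft (Nat.lor TT_p1613 (Nat.shiftLeft TT_p1614 15997)) 15997)) 31994)) (Nat.shiftLeft (Nat.lor (Nat.lor TT_p1615 (Nat.shiftLeft TT_p1616 15997)) (Nat.shiftLeft (Nat.lor TT_p1617 (Nat.shiftLeft (Nat.lor TT_p1618 (Nat.shiftLeft TT_p1619 15997)) 15997)) 31994)) 79985)) (Nat.shiftLeft (Nat.lor (Nat.lor (Nat.lor TT_p1620 (Nat.shiftLeft TT_p1621 15997)) (Nat.shiftLeft (Nat.lor TT_p1622 (Nat.shiftLeft (Nat.lor TT_p1623 (Nat.shiftLeft TT_p1624 15997)) 15997)) 31994)) (Nat.shiftLeft (Nat.lor (Nat.lor TT_p1625 (Nat.shiftLeft (Nat.lor TT_p1626 (Nat.shiftLeft TT_p1627 15997)) 15997)) (Nat.shiftLeft (Nat.lor TT_p1628 (Nat.shiftLeft (Nat.lor TT_p1629 (Nat.shiftLeft TT_p1630 15997)) 15997)) 47991)) 79985)) 159970)) 319940)) 655877)) 1295757)) 2607511)) (Nat.shiftLeft (Nat.lor (Nat.lor (Nat.lor (Nat.lor (Nat.lor (Nat.lor (Nat.lor (Nat.lor TT_p1631 (Nat.shiftLeft TT_p1632 15997)) (Nat.shiftLeft (Nat.lor TT_p1633 (Nat.shiftLeft (Nat.lor TT_p1634 (Nat.shiftLeft TT_p1635 15997)) 15997)) 31994)) (Nat.shiftLeft (Nat.lor (Nat.lor TT_p1636 (Nat.shiftLeft TT_p1637 15997)) (Nat.shiftLeft (Nat.lor TT_p1638 (Nat.shiftLeft (Nat.lor TT_p1639 (Nat.shiftLeft TT_p1640 15997)) 15997)) 31994)) 79985)) (Nat.shiftLeft (Nat.lor (Nat.lor (Nat.lor TT_p1641 (Nat.shiftLeft TT_p1642 15997)) (Nat.shiftLeft (Nat.lor TT_p1643 (Nat.shiftLeft (Nat.lor TT_p1644 (Nat.shiftLeft TT_p1645 15997)) 15997)) 31994)) (Nat.shiftLeft (Nat.lor (Nat.lor TT_p1646 (Nat.shiftLeft TT_p1647 15997)) (Nat.shiftLeft (Nat.lor TT_p1648 (Nat.shiftLeft (Nat.lor TT_p1649 (Nat.shiftLeft TT_p1650 15997)) 15997)) 31994)) 79985)) 159970)) (Nat.shiftLeft (Nat.lor (Nat.lor (Nat.lor (Nat.lor TT_p1651 (Nat.shiftLeft TT_p1652 15997)) (Nat.shiftLeft (Nat.lor TT_p1653 (Nat.shiftLeft (Nat.lor TT_p1654 (Nat.shiftLeft TT_p1655 15997)) 15997)) 31994)) (Nat.shiftLeft (Nat.lor (Nat.lor TT_p1656 (Nat.shiftLeft TT_p1657 15997)) (Nat.shiftLeft (Nat.lor TT_p1658 (Nat.shiftLeft (Nat.lor TT_p1659 (Nat.shiftLeft TT_p1660 15997)) 15997)) 31994)) 79985)) (Nat.shiftLeft (Nat.lor (Nat.lor (Nat.lor TT_p1661 (Nat.shiftLeft TT_p1662 15997)) (Nat.shiftLeft (Nat.lor TT_p1663 (Nat.shiftLeft (Nat.lor TT_p1664 (Nat.shiftLeft TT_p1665 15997)) 15997)) 31994)) (Nat.shiftLeft (Nat.lor (Nat.lor TT_p1666 (Nat.shiftLeft TT_p1667 15997)) (Nat.shiftLeft (Nat.lor TT_p1668 (Nat.shiftLeft (Nat.lor TT_p1669 (Nat.shiftLeft TT_p1670 15997)) 15997)) 31994)) 79985)) 159970)) 319940)) (Nat.shiftLeft (Nat.lor (Nat.lor (Nat.lor (Nat.lor (Nat.lor TT_p1671 (Nat.shiftLeft TT_p1672 15997)) (Nat.shiftLeft (Nat.lor TT_p1673 (Nat.shiftLeft (Nat.lor TT_p1674 (Nat.shiftLeft TT_p1675 15997)) 15997)) 31994)) (Nat.shiftLeft (Nat.lor (Nat.lor TT_p1676 (Nat.shiftLeft TT_p1677 15997)) (Nat.shiftLeft (Nat.lor TT_p1678 (Nat.shiftLeft (Nat.lor TT_p1679 (Nat.shiftLeft TT_p1680 15997)) 15997)) 31994)) 79985)) (Nat.shiftLeft (Nat.lor (Nat.lor (Nat.lor TT_p1681 (Nat.shiftLeft TT_p1682 15997)) (Nat.shiftLeft (Nat.lor TT_p1683 (Nat.shiftLeft (Nat.lor TT_p1684 (Nat.shiftLeft TT_p1685 15997)) 15997)) 31994)) (Nat.shiftLeft (Nat.lor (Nat.lor TT_p1686 (Nat.shiftLeft TT_p1687 15997)) (Nat.shiftLeft (Nat.lor TT_p1688 (Nat.shiftLeft (Nat.lor TT_p1689 (Nat.shiftLeft TT_p1690 15997)) 15997)) 31994)) 79985)) 159970)) (Nat.shiftLeft (Nat.lor (Nat.lor (Nat.lor (Nat.lor TT_p1691 (Nat.shiftLeft TT_p1692 15997)) (Nat.shiftLeft (Nat.lor TT_p1693 (Nat.shiftLeft (Nat.lor TT_p1694 (Nat.shiftLeft TT_p1695 15997)) 15997)) 31994)) (Nat.shiftLeft (Nat.lor (Nat.lor TT_p1696 (Nat.shiftLeft TT_p1697 15997)) (Nat.shiftLeft (Nat.lor TT_p1698 (Nat.shiftLeft (Nat.lor TT_p1699 (Nat.shiftLeft TT_p1700 15997)) 15997)) 31994)) 79985)) (Nat.shiftLeft (Nat.lor (Nat.lor (Nat.lor TT_p1701 (Nat.shiftLeft TT_p1702 15997)) (Nat.shiftLeft (Nat.lor TT_p1703 (Nat.shiftLeft (Nat.lor TT_p1704 (Nat.shiftLeft TT_p1705 15997)) 15997)) 31994)) (Nat.shiftLeft (Nat.lor (Nat.lor TT_p1706 (Nat.shiftLeft (Nat.lor TT_p1707 (Nat.shiftLeft TT_p1708 15997)) 15997)) (Nat.shiftLeft (Nat.lor TT_p1709 (Nat.shiftLeft (Nat.lor TT_p1710 (Nat.shiftLeft TT_p1711 15997)) 15997)) 47991)) 79985)) 159970)) 319940)) 639880)) (Nat.shiftLeft (Nat.lor (Nat.lor (Nat.lor (Nat.lor (Nat.lor (Nat.lor TT_p1712 (Nat.shiftLeft TT_p1713 15997)) (Nat.shiftLeft (Nat.lor TT_p1714 (Nat.shiftLeft (Nat.lor TT_p1715 (Nat.shiftLeft TT_p1716 15997)) 15997)) 31994)) (Nat.shiftLeft (Nat.lor (Nat.lor TT_p1717 (Nat.shiftLeft TT_p1718 15997)) (Nat.shiftLeft (Nat.lor TT_p1719 (Nat.shiftLeft (Nat.lor TT_p1720 (Nat.shiftLeft TT_p1721 15997)) 15997)) 31994)) 79985)) (Nat.shiftLeft (Nat.lor (Nat.lor (Nat.lor TT_p1722 (Nat.shiftLeft TT_p1723 15997)) (Nat.shiftLeft (Nat.lor TT_p1724 (Nat.shiftLeft (Nat.lor TT_p1725 (Nat.shiftLeft TT_p1726 15997)) 15997)) 31994)) (Nat.shiftLeft (Nat.lor (Nat.lor TT_p1727 (Nat.shiftLeft TT_p1728 15997)) (Nat.shiftLeft (Nat.lor TT_p1729 (Nat.shiftLeft (Nat.lor TT_p1730 (Nat.shiftLeft TT_p1731 15997)) 15997)) 31994)) 79985)) 159970)) (Nat.shiftLeft (Nat.lor (Nat.lor (Nat.lor (Nat.lor TT_p1732 (Nat.shiftLeft TT_p1733 15997)) (Nat.shiftLeft (Nat.lor TT_p1734 (Nat.shiftLeft (Nat.lor TT_p1735 (Nat.shiftLeft TT_p1736 15997)) 15997)) 31994)) (Nat.shiftLeft (Nat.lor (Nat.lor TT_p1737 (Nat.shiftLeft TT_p1738 15997)) (Nat.shiftLeft (Nat.lor TT_p1739 (Nat.shiftLeft (Nat.lor TT_p1740 (Nat.shiftLeft TT_p1741 15997)) 15997)) 31994)) 79985)) (Nat.shiftLeft (Nat.lor (Nat.lor (Nat.lor TT_p1742 (Nat.shiftLeft TT_p1743 15997)) (Nat.shiftLeft (Nat.lor TT_p1744 (Nat.shiftLeft (Nat.lor TT_p1745 (Nat.shiftLeft TT_p1746 15997)) 15997)) 31994)) (Nat.shiftLeft (Nat.lor (Nat.lor TT_p1747 (Nat.shiftLeft (Nat.lor TT_p1748 (Nat.shiftLeft TT_p1749 15997)) 15997)) (Nat.shiftLeft (Nat.lor TT_p1750 (Nat.shiftLeft (Nat.lor TT_p1751 (Nat.shiftLeft TT_p1752 15997)) 15997)) 47991)) 79985)) 159970)) 319940)) (Nat.shiftLeft (Nat.lor (Nat.lor (Nat.lor (Nat.lor (Nat.lor TT_p1753 (Nat.shiftLeft TT_p1754 15997)) (Nat.shiftLeft (Nat.lor TT_p1755 (Nat.shiftLeft (Nat.lor TT_p1756 (Nat.shiftLeft TT_p1757 15997)) 15997)) 31994)) (Nat.shiftLeft (Nat.lor (Nat.lor TT_p1758 (Nat.shiftLeft TT_p1759 15997)) (Nat.shiftLeft (Nat.lor TT_p1760 (Nat.shiftLeft (Nat.lor TT_p1761 (Nat.shiftLeft TT_p1762 15997)) 15997)) 31994)) 79985)) (Nat.shiftLeft (Nat.lor (Nat.lor (Nat.lor TT_p1763 (Nat.shiftLeft TT_p1764 15997)) (Nat.shiftLeft (Nat.lor TT_p1765 (Nat.shiftLeft (Nat.lor TT_p1766 (Nat.shiftLeft TT_p1767 15997)) 15997)) 31994)) (Nat.shiftLeft (Nat.lor (Nat.lor TT_p1768 (Nat.shiftLeft TT_p1769 15997)) (Nat.shiftLeft (Nat.lor TT_p1770 (Nat.shiftLeft (Nat.lor TT_p1771 (Nat.shiftLeft TT_p1772 15997)) 15997)) 31994)) 79985)) 159970)) (Nat.shiftLeft (Nat.lor (Nat.lor (Nat.lor (Nat.lor TT_p1773 (Nat.shiftLeft TT_p1774 15997)) (Nat.shiftLeft (Nat.lor TT_p1775 (Nat.shiftLeft (Nat.lor TT_p1776 (Nat.shiftLeft TT_p1777 15997)) 15997)) 31994)) (Nat.shiftLeft (Nat.lor (Nat.lor TT_p1778 (Nat.shiftLeft TT_p1779 15997)) (Nat.shiftLeft (Nat.lor TT_p1780 (Nat.shiftLeft (Nat.lor TT_p1781 (Nat.shiftLeft TT_p1782 15997)) 15997)) 31994)) 79985)) (Nat.shiftLeft (Nat.lor (Nat.lor (Nat.lor TT_p1783 (Nat.shiftLeft TT_p1784 15997)) (Nat.shiftLeft (Nat.lor TT_p1785 (Nat.shiftLeft (Nat.lor TT_p1786 (Nat.shiftLeft TT_p1787 15997)) 15997)) 31994)) (Nat.shiftLeft (Nat.lor (Nat.lor TT_p1788 (Nat.shiftLeft (Nat.lor TT_p1789 (Nat.shiftLeft TT_p1790 15997)) 15997)) (Nat.shiftLeft (Nat.lor TT_p1791 (Nat.shiftLeft (Nat.lor TT_p1792 (Nat.shiftLeft TT_p1793 15997)) 15997)) 47991)) 79985)) 159970)) 319940)) 655877)) 1295757)) (Nat.shiftLeft (Nat.lor (Nat.lor (Nat.lor (Nat.lor (Nat.lor (Nat.lor (Nat.lor TT_p1794 (Nat.shiftLeft TT_p1795 15997)) (Nat.shiftLeft (Nat.lor TT_p1796 (Nat.shiftLeft (Nat.lor TT_p1797 (Nat.shiftLeft TT_p1798 15997)) 15997)) 31994)) (Nat.shiftLeft (Nat.lor (Nat.lor TT_p1799 (Nat.shiftLeft TT_p1800 15997)) (Nat.shiftLeft (Nat.lor TT_p1801 (Nat.shiftLeft (Nat.lor TT_p1802 (Nat.shiftLeft TT_p1803 15997)) 15997)) 31994)) 79985)) (Nat.shiftLeft (Nat.lor (Nat.lor (Nat.lor TT_p1804 (Nat.shiftLeft TT_p1805 15997)) (Nat.shiftLeft (Nat.lor TT_p1806 (Nat.shiftLeft (Nat.lor TT_p1807 (Nat.shiftLeft TT_p1808 15997)) 15997)) 31994)) (Nat.shiftLeft (Nat.lor (Nat.lor TT_p1809 (Nat.shiftLeft TT_p1810 15997)) (Nat.shiftLeft (Nat.lor TT_p1811 (Nat.shiftLeft (Nat.lor TT_p1812 (Nat.shiftLeft TT_p1813 15997)) 15997)) 31994)) 79985)) 159970)) (Nat.shiftLeft (Nat.lor (Nat.lor (Nat.lor (Nat.lor TT_p1814 (Nat.shiftLeft TT_p1815 15997)) (Nat.shiftLeft (Nat.lor TT_p1816 (Nat.shiftLeft (Nat.lor TT_p1817 (Nat.shiftLeft TT_p1818 15997)) 15997)) 31994)) (Nat.shiftLeft (Nat.lor (Nat.lor TT_p1819 (Nat.shiftLeft TT_p1820 15997)) (Nat.shiftLeft (Nat.lor TT_p1821 (Nat.shiftLeft (Nat.lor TT_p1822 (Nat.shiftLeft TT_p1823 15997)) 15997)) 31994)) 79985)) (Nat.shiftLeft (Nat.lor (Nat.lor (Nat.lor TT_p1824 (Nat.shiftLeft TT_p1825 15997)) (Nat.shiftLeft (Nat.lor TT_p1826 (Nat.shiftLeft (Nat.lor TT_p1827 (Nat.shiftLeft TT_p1828 15997)) 15997)) 31994)) (Nat.shiftLeft (Nat.lor (Nat.lor TT_p1829 (Nat.shiftLeft TT_p1830 15997)) (Nat.shiftLeft (Nat.lor TT_p1831 (Nat.shiftLeft (Nat.lor TT_p1832 (Nat.shiftLeft TT_p1833 15997)) 15997)) 31994)) 79985)) 159970)) 319940)) (Nat.shiftLeft (Nat.lor (Nat.lor (Nat.lor (Nat.lor (Nat.lor TT_p1834 (Nat.shiftLeft TT_p1835 15997)) (Nat.shiftLeft (Nat.lor TT_p1836 (Nat.shiftLeft (Nat.lor TT_p1837 (Nat.shiftLeft TT_p1838 15997)) 15997)) 31994)) (Nat.shiftLeft (Nat.lor (Nat.lor TT_p1839 (Nat.shiftLeft TT_p1840 15997)) (Nat.shiftLeft (Nat.lor TT_p1841 (Nat.shiftLeft (Nat.lor TT_p1842 (Nat.shiftLeft TT_p1843 15997)) 15997)) 31994)) 79985)) (Nat.shiftLeft (Nat.lor (Nat.lor (Nat.lor TT_p1844 (Nat.shiftLeft TT_p1845 15997)) (Nat.shiftLeft (Nat.lor TT_p1846 (Nat.shiftLeft (Nat.lor TT_p1847 (Nat.shiftLeft TT_p1848 15997)) 15997)) 31994)) (Nat.shiftLeft (Nat.lor (Nat.lor TT_p1849 (Nat.shiftLeft TT_p1850 15997)) (Nat.shiftLeft (Nat.lor TT_p1851 (Nat.shiftLeft (Nat.lor TT_p1852 (Nat.shiftLeft TT_p1853 15997)) 15997)) 31994)) 79985)) 159970)) (Nat.shiftLeft (Nat.lor (Nat.lor (Nat.lor (Nat.lor TT_p1854 (Nat.shiftLeft TT_p1855 15997)) (Nat.shiftLeft (Nat.lor TT_p1856 (Nat.shiftLeft (Nat.lor TT_p1857 (Nat.shiftLeft TT_p1858 15997)) 15997)) 31994)) (Nat.shiftLeft (Nat.lor (Nat.lor TT_p1859 (Nat.shiftLeft TT_p1860 15997)) (Nat.shiftLeft (Nat.lor TT_p1861 (Nat.shiftLeft (Nat.lor TT_p1862 (Nat.shiftLeft TT_p1863 15997)) 15997)) 31994)) 79985)) (Nat.shiftLeft (Nat.lor (Nat.lor (Nat.lor TT_p1864 (Nat.shiftLeft TT_p1865 15997)) (Nat.shiftLeft (Nat.lor TT_p1866 (Nat.shiftLeft (Nat.lor TT_p1867 (Nat.shiftLeft TT_p1868 15997)) 15997)) 31994)) (Nat.shiftLeft (Nat.lor (Nat.lor TT_p1869 (Nat.shiftLeft (Nat.lor TT_p1870 (Nat.shiftLeft TT_p1871 15997)) 15997)) (Nat.shiftLeft (Nat.lor TT_p1872 (Nat.shiftLeft (Nat.lor TT_p1873 (Nat.shiftLeft TT_p1874 15997)) 15997)) 47991)) 79985)) 159970)) 319940)) 639880)) (Nat.shiftLeft (Nat.lor (Nat.lor (Nat.lor (Nat.lor (Nat.lor (Nat.lor TT_p1875 (Nat.shiftLeft TT_p1876 15997)) (Nat.shiftLeft (Nat.lor TT_p1877 (Nat.shiftLeft (Nat.lor TT_p1878 (Nat.shiftLeft TT_p1879 15997)) 15997)) 31994)) (Nat.shiftLeft (Nat.lor (Nat.lor TT_p1880 (Nat.shiftLeft TT_p1881 15997)) (Nat.shiftLeft (Nat.lor TT_p1882 (Nat.shiftLeft (Nat.lor TT_p1883 (Nat.shiftLeft TT_p1884 15997)) 15997)) 31994)) 79985)) (Nat.shiftLeft (Nat.lor (Nat.lor (Nat.lor TT_p1885 (Nat.shiftLeft TT_p1886 15997)) (Nat.shiftLeft (Nat.lor TT_p1887 (Nat.shiftLeft (Nat.lor TT_p1888 (Nat.shiftLeft TT_p1889 15997)) 15997)) 31994)) (Nat.shiftLeft (Nat.lor (Nat.lor TT_p1890 (Nat.shiftLeft TT_p1891 15997)) (Nat.shiftLeft (Nat.lor TT_p1892 (Nat.shiftLeft (Nat.lor TT_p1893 (Nat.shiftLeft TT_p1894 15997)) 15997)) 31994)) 79985)) 159970)) (Nat.shiftLeft (Nat.lor (Nat.lor (Nat.lor (Nat.lor TT_p1895 (Nat.shiftLeft TT_p1896 15997)) (Nat.shiftLeft (Nat.lor TT_p1897 (Nat.shiftLeft (Nat.lor TT_p1898 (Nat.shiftLeft TT_p1899 15997)) 15997)) 31994)) (Nat.shiftLeft (Nat.lor (Nat.lor TT_p1900 (Nat.shiftLeft TT_p1901 15997)) (Nat.shiftLeft (Nat.lor TT_p1902 (Nat.shiftLeft (Nat.lor TT_p1903 (Nat.shiftLeft TT_p1904 15997)) 15997)) 31994)) 79985)) (Nat.shiftLeft (Nat.lor (Nat.lor (Nat.lor TT_p1905 (Nat.shiftLeft TT_p1906 15997)) (Nat.shiftLeft (Nat.lor TT_p1907 (Nat.shiftLeft (Nat.lor TT_p1908 (Nat.shiftLeft TT_p1909 15997)) 15997)) 31994)) (Nat.shiftLeft (Nat.lor (Nat.lor TT_p1910 (Nat.shiftLeft (Nat.lor TT_p1911 (Nat.shiftLeft TT_p1912 15997)) 15997)) (Nat.shiftLeft (Nat.lor TT_p1913 (Nat.shiftLeft (Nat.lor TT_p1914 (Nat.shiftLeft TT_p1915 15997)) 15997)) 47991)) 79985)) 159970)) 319940)) (Nat.shiftLeft (Nat.lor (Nat.lor (Nat.lor (Nat.lor (Nat.lor TT_p1916 (Nat.shiftLeft TT_p1917 15997)) (Nat.shiftLeft (Nat.lor TT_p1918 (Nat.shiftLeft (Nat.lor TT_p1919 (Nat.shiftLeft TT_p1920 15997)) 15997)) 31994)) (Nat.shiftLeft (Nat.lor (Nat.lor TT_p1921 (Nat.shiftLeft TT_p1922 15997)) (Nat.shiftLeft (Nat.lor TT_p1923 (Nat.shiftLeft (Nat.lor TT_p1924 (Nat.shiftLeft TT_p1925 15997)) 15997)) 31994)) 79985)) (Nat.shiftLeft (Nat.lor (Nat.lor (Nat.lor TT_p1926 (Nat.shiftLeft TT_p1927 15997)) (Nat.shiftLeft (Nat.lor TT_p1928 (Nat.shiftLeft (Nat.lor TT_p1929 (Nat.shiftLeft TT_p1930 15997)) 15997)) 31994)) (Nat.shiftLeft (Nat.lor (Nat.lor TT_p1931 (Nat.shiftLeft TT_p1932 15997)) (Nat.shiftLeft (Nat.lor TT_p1933 (Nat.shiftLeft (Nat.lor TT_p1934 (Nat.shiftLeft TT_p1935 15997)) 15997)) 31994)) 79985)) 159970)) (Nat.shiftLeft (Nat.lor (Nat.lor (Nat.lor (Nat.lor TT_p1936 (Nat.shiftLeft TT_p1937 15997)) (Nat.shiftLeft (Nat.lor TT_p1938 (Nat.shiftLeft (Nat.lor TT_p1939 (Nat.shiftLeft TT_p1940 15997)) 15997)) 31994)) (Nat.shiftLeft (Nat.lor (Nat.lor TT_p1941 (Nat.shiftLeft TT_p1942 15997)) (Nat.shiftLeft (Nat.lor TT_p1943 (Nat.shiftLeft (Nat.lor TT_p1944 (Nat.shiftLeft TT_p1945 15997)) 15997)) 31994)) 79985)) (Nat.shiftLeft (Nat.lor (Nat.lor (Nat.lor TT_p1946 (Nat.shiftLeft TT_p1947 15997)) (Nat.shiftLeft (Nat.lor TT_p1948 (Nat.shiftLeft (Nat.lor TT_p1949 (Nat.shiftLeft TT_p1950 15997)) 15997)) 31994)) (Nat.shiftLeft (Nat.lor (Nat.lor TT_p1951 (Nat.shiftLeft (Nat.lor TT_p1952 (Nat.shiftLeft TT_p1953 15997)) 15997)) (Nat.shiftLeft (Nat.lor TT_p1954 (Nat.shiftLeft (Nat.lor TT_p1955 (Nat.shiftLeft TT_p1956 15997)) 15997)) 47991)) 79985)) 159970)) 319940)) 655877)) 1295757)) 2607511)) 5215022)) (Nat.shiftLeft (Nat.lor (Nat.lor (Nat.lor (Nat.lor (Nat.lor (Nat.lor (Nat.lor (Nat.lor (Nat.lor TT_p1957 (Nat.shiftLeft TT_p1958 15997)) (Nat.shiftLeft (Nat.lor TT_p1959 (Nat.shiftLeft (Nat.lor TT_p1960 (Nat.shiftLeft TT_p1961 15997)) 15997)) 31994)) (Nat.shiftLeft (Nat.lor (Nat.lor TT_p1962 (Nat.shiftLeft TT_p1963 15997)) (Nat.shiftLeft (Nat.lor TT_p1964 (Nat.shiftLeft (Nat.lor TT_p1965 (Nat.shiftLeft TT_p1966 15997)) 15997)) 31994)) 79985)) (Nat.shiftLeft (Nat.lor (Nat.lor (Nat.lor TT_p1967 (Nat.shiftLeft TT_p1968 15997)) (Nat.shiftLeft (Nat.lor TT_p1969 (Nat.shiftLeft (Nat.lor TT_p1970 (Nat.shiftLeft TT_p1971 15997)) 15997)) 31994)) (Nat.shiftLeft (Nat.lor (Nat.lor TT_p1972 (Nat.shiftLeft TT_p1973 15997)) (Nat.shiftLeft (Nat.lor TT_p1974 (Nat.shiftLeft (Nat.lor TT_p1975 (Nat.shiftLeft TT_p1976 15997)) 15997)) 31994)) 79985)) 159970)) (Nat.shiftLeft (Nat.lor (Nat.lor (Nat.lor (Nat.lor TT_p1977 (Nat.shiftLeft TT_p1978 15997)) (Nat.shiftLeft (Nat.lor TT_p1979 (Nat.shiftLeft (Nat.lor TT_p1980 (Nat.shiftLeft TT_p1981 15997)) 15997)) 31994)) (Nat.shiftLeft (Nat.lor (Nat.lor TT_p1982 (Nat.shiftLeft TT_p1983 15997)) (Nat.shiftLeft (Nat.lor TT_p1984 (Nat.shiftLeft (Nat.lor TT_p1985 (Nat.shiftLeft TT_p1986 15997)) 15997)) 31994)) 79985)) (Nat.shiftLeft (Nat.lor (Nat.lor (Nat.lor TT_p1987 (Nat.shiftLeft TT_p1988 15997)) (Nat.shiftLeft (Nat.lor TT_p1989 (Nat.shiftLeft (Nat.lor TT_p1990 (Nat.shiftLeft TT_p1991 15997)) 15997)) 31994)) (Nat.shiftLeft (Nat.lor (Nat.lor TT_p1992 (Nat.shiftLeft TT_p1993 15997)) (Nat.shiftLeft (Nat.lor TT_p1994 (Nat.shiftLeft (Nat.lor TT_p1995 (Nat.shiftLeft TT_p1996 15997)) 15997)) 31994)) 79985)) 159970)) 319940)) (Nat.shiftLeft (Nat.lor (Nat.lor (Nat.lor (Nat.lor (Nat.lor TT_p1997 (Nat.shiftLeft TT_p1998 15997)) (Nat.shiftLeft (Nat.lor TT_p1999 (Nat.shiftLeft (Nat.lor TT_p2000 (Nat.shiftLeft TT_p2001 15997)) 15997)) 31994)) (Nat.shiftLeft (Nat.lor (Nat.lor TT_p2002 (Nat.shiftLeft TT_p2003 15997)) (Nat.shiftLeft (Nat.lor TT_p2004 (Nat.shiftLeft (Nat.lor TT_p2005 (Nat.shiftLeft TT_p2006 15997)) 15997)) 31994)) 79985)) (Nat.shiftLeft (Nat.lor (Nat.lor (Nat.lor TT_p2007 (Nat.shiftLeft TT_p2008 15997)) (Nat.shiftLeft (Nat.lor TT_p2009 (Nat.shiftLeft (Nat.lor TT_p2010 (Nat.shiftLeft TT_p2011 15997)) 15997)) 31994)) (Nat.shiftLeft (Nat.lor (Nat.lor TT_p2012 (Nat.shiftLeft TT_p2013 15997)) (Nat.shiftLeft (Nat.lor TT_p2014 (Nat.shiftLeft (Nat.lor TT_p2015 (Nat.shiftLeft TT_p2016 15997)) 15997)) 31994)) 79985)) 159970)) (Nat.shiftLeft (Nat.lor (Nat.lor (Nat.lor (Nat.lor TT_p2017 (Nat.shiftLeft TT_p2018 15997)) (Nat.shiftLeft (Nat.lor TT_p2019 (Nat.shiftLeft (Nat.lor TT_p2020 (Nat.shiftLeft TT_p2021 15997)) 15997)) 31994)) (Nat.shiftLeft (Nat.lor (Nat.lor TT_p2022 (Nat.shiftLeft TT_p2023 15997)) (Nat.shiftLeft (Nat.lor TT_p2024 (Nat.shiftLeft (Nat.lor TT_p2025 (Nat.shiftLeft TT_p2026 15997)) 15997)) 31994)) 79985)) (Nat.shiftLeft (Nat.lor (Nat.lor (Nat.lor TT_p2027 (Nat.shiftLeft TT_p2028 15997)) (Nat.shiftLeft (Nat.lor TT_p2029 (Nat.shiftLeft (Nat.lor TT_p2030 (Nat.shiftLeft TT_p2031 15997)) 15997)) 31994)) (Nat.shiftLeft (Nat.lor (Nat.lor TT_p2032 (Nat.shiftLeft (Nat.lor TT_p2033 (Nat.shiftLeft TT_p2034 15997)) 15997)) (Nat.shiftLeft (Nat.lor TT_p2035 (Nat.shiftLeft (Nat.lor TT_p2036 (Nat.shiftLeft TT_p2037 15997)) 15997)) 47991)) 79985)) 159970)) 319940)) 639880)) (Nat.shiftLeft (Nat.lor (Nat.lor (Nat.lor (Nat.lor (Nat.lor (Nat.lor TT_p2038 (Nat.shiftLeft TT_p2039 15997)) (Nat.shiftLeft (Nat.lor TT_p2040 (Nat.shiftLeft (Nat.lor TT_p2041 (Nat.shiftLeft TT_p2042 15997)) 15997)) 31994)) (Nat.shiftLeft (Nat.lor (Nat.lor TT_p2043 (Nat.shiftLeft TT_p2044 15997)) (Nat.shiftLeft (Nat.lor TT_p2045 (Nat.shiftLeft (Nat.lor TT_p2046 (Nat.shiftLeft TT_p2047 15997)) 15997)) 31994)) 79985)) (Nat.shiftLeft (Nat.lor (Nat.lor (Nat.lor TT_p2048 (Nat.shiftLeft TT_p2049 15997)) (Nat.shiftLeft (Nat.lor TT_p2050 (Nat.shiftLeft (Nat.lor TT_p2051 (Nat.shiftLeft TT_p2052 15997)) 15997)) 31994)) (Nat.shiftLeft (Nat.lor (Nat.lor TT_p2053 (Nat.shiftLeft TT_p2054 15997)) (Nat.shiftLeft (Nat.lor TT_p2055 (Nat.shiftLeft (Nat.lor TT_p2056 (Nat.shiftLeft TT_p2057 15997)) 15997)) 31994)) 79985)) 159970)) (Nat.shiftLeft (Nat.lor (Nat.lor (Nat.lor (Nat.lor TT_p2058 (Nat.shiftLeft TT_p2059 15997)) (Nat.shiftLeft (Nat.lor TT_p2060 (Nat.shiftLeft (Nat.lor TT_p2061 (Nat.shiftLeft TT_p2062 15997)) 15997)) 31994)) (Nat.shiftLeft (Nat.lor (Nat.lor TT_p2063 (Nat.shiftLeft TT_p2064 15997)) (Nat.shiftLeft (Nat.lor TT_p2065 (Nat.shiftLeft (Nat.lor TT_p2066 (Nat.shiftLeft TT_p2067 15997)) 15997)) 31994)) 79985)) (Nat.shiftLeft (Nat.lor (Nat.lor (Nat.lor TT_p2068 (Nat.shiftLeft TT_p2069 15997)) (Nat.shiftLeft (Nat.lor TT_p2070 (Nat.shiftLeft (Nat.lor TT_p2071 (Nat.shiftLeft TT_p2072 15997)) 15997)) 31994)) (Nat.shiftLeft (Nat.lor (Nat.lor TT_p2073 (Nat.shiftLeft (Nat.lor TT_p2074 (Nat.shiftLeft TT_p2075 15997)) 15997)) (Nat.shiftLeft (Nat.lor TT_p2076 (Nat.shiftLeft (Nat.lor TT_p2077 (Nat.shiftLeft TT_p2078 15997)) 15997)) 47991)) 79985)) 159970)) 319940)) (Nat.shiftLeft (Nat.lor (Nat.lor (Nat.lor (Nat.lor (Nat.lor TT_p2079 (Nat.shiftLeft TT_p2080 15997)) (Nat.shiftLeft (Nat.lor TT_p2081 (Nat.shiftLeft (Nat.lor TT_p2082 (Nat.shiftLeft TT_p2083 15997)) 15997)) 31994)) (Nat.shiftLeft (Nat.lor (Nat.lor TT_p2084 (Nat.shiftLeft TT_p2085 15997)) (Nat.shiftLeft (Nat.lor TT_p2086 (Nat.shiftLeft (Nat.lor TT_p2087 (Nat.shiftLeft TT_p2088 15997)) 15997)) 31994)) 79985)) (Nat.shiftLeft (Nat.lor (Nat.lor (Nat.lor TT_p2089 (Nat.shiftLeft TT_p2090 15997)) (Nat.shiftLeft (Nat.lor TT_p2091 (Nat.shiftLeft (Nat.lor TT_p2092 (Nat.shiftLeft TT_p2093 15997)) 15997)) 31994)) (Nat.shiftLeft (Nat.lor (Nat.lor TT_p2094 (Nat.shiftLeft TT_p2095 15997)) (Nat.shiftLeft (Nat.lor TT_p2096 (Nat.shiftLeft (Nat.lor TT_p2097 (Nat.shiftLeft TT_p2098 15997)) 15997)) 31994)) 79985)) 159970)) (Nat.shiftLeft (Nat.lor (Nat.lor (Nat.lor (Nat.lor TT_p2099 (Nat.shiftLeft TT_p2100 15997)) (Nat.shiftLeft (Nat.lor TT_p2101 (Nat.shiftLeft (Nat.lor TT_p2102 (Nat.shiftLeft TT_p2103 15997)) 15997)) 31994)) (Nat.shiftLeft (Nat.lor (Nat.lor TT_p2104 (Nat.shiftLeft TT_p2105 15997)) (Nat.shiftLeft (Nat.lor TT_p2106 (Nat.shiftLeft (Nat.lor TT_p2107 (Nat.shiftLeft TT_p2108 15997)) 15997)) 31994)) 79985)) (Nat.shiftLeft (Nat.lor (Nat.lor (Nat.lor TT_p2109 (Nat.shiftLeft TT_p2110 15997)) (Nat.shiftLeft (Nat.lor TT_p2111 (Nat.shiftLeft (Nat.lor TT_p2112 (Nat.shiftLeft TT_p2113 15997)) 15997)) 31994)) (Nat.shiftLeft (Nat.lor (Nat.lor TT_p2114 (Nat.shiftLeft (Nat.lor TT_p2115 (Nat.shiftLeft TT_p2116 15997)) 15997)) (Nat.shiftLeft (Nat.lor TT_p2117 (Nat.shiftLeft (Nat.lor TT_p2118 (Nat.shiftLeft TT_p2119 15997)) 15997)) 47991)) 79985)) 159970)) 319940)) 655877)) 1295757)) (Nat.shiftLeft (Nat.lor (Nat.lor (Nat.lor (Nat.lor (Nat.lor (Nat.lor (Nat.lor TT_p2120 (Nat.shiftLeft TT_p2121 15997)) (Nat.shiftLeft (Nat.lor TT_p2122 (Nat.shiftLeft (Nat.lor TT_p2123 (Nat.shiftLeft TT_p2124 15997)) 15997)) 31994)) (Nat.shiftLeft (Nat.lor (Nat.lor TT_p2125 (Nat.shiftLeft TT_p2126 15997)) (Nat.shiftLeft (Nat.lor TT_p2127 (Nat.shiftLeft (Nat.lor TT_p2128 (Nat.shiftLeft TT_p2129 15997)) 15997)) 31994)) 79985)) (Nat.shiftLeft (Nat.lor (Nat.lor (Nat.lor TT_p2130 (Nat.shiftLeft TT_p2131 15997)) (Nat.shiftLeft (Nat.lor TT_p2132 (Nat.shiftLeft (Nat.lor TT_p2133 (Nat.shiftLeft TT_p2134 15997)) 15997)) 31994)) (Nat.shiftLeft (Nat.lor (Nat.lor TT_p2135 (Nat.shiftLeft TT_p2136 15997)) (Nat.shiftLeft (Nat.lor TT_p2137 (Nat.shiftLeft (Nat.lor TT_p2138 (Nat.shiftLeft TT_p2139 15997)) 15997)) 31994)) 79985)) 159970)) (Nat.shiftLeft (Nat.lor (Nat.lor (Nat.lor (Nat.lor TT_p2140 (Nat.shiftLeft TT_p2141 15997)) (Nat.shiftLeft (Nat.lor TT_p2142 (Nat.shiftLeft (Nat.lor TT_p2143 (Nat.shiftLeft TT_p2144 15997)) 15997)) 31994)) (Nat.shiftLeft (Nat.lor (Nat.lor TT_p2145 (Nat.shiftLeft TT_p2146 15997)) (Nat.shiftLeft (Nat.lor TT_p2147 (Nat.shiftLeft (Nat.lor TT_p2148 (Nat.shiftLeft TT_p2149 15997)) 15997)) 31994)) 79985)) (Nat.shiftLeft (Nat.lor (Nat.lor (Nat.lor TT_p2150 (Nat.shiftLeft TT_p2151 15997)) (Nat.shiftLeft (Nat.lor TT_p2152 (Nat.shiftLeft (Nat.lor TT_p2153 (Nat.shiftLeft TT_p2154 15997)) 15997)) 31994)) (Nat.shiftLeft (Nat.lor (Nat.lor TT_p2155 (Nat.shiftLeft TT_p2156 15997)) (Nat.shiftLeft (Nat.lor TT_p2157 (Nat.shiftLeft (Nat.lor TT_p2158 (Nat.shiftLeft TT_p2159 15997)) 15997)) 31994)) 79985)) 159970)) 319940)) (Nat.shiftLeft (Nat.lor (Nat.lor (Nat.lor (Nat.lor (Nat.lor TT_p2160 (Nat.shiftLeft TT_p2161 15997)) (Nat.shiftLeft (Nat.lor TT_p2162 (Nat.shiftLeft (Nat.lor TT_p2163 (Nat.shiftLeft TT_p2164 15997)) 15997)) 31994)) (Nat.shiftLeft (Nat.lor (Nat.lor TT_p2165 (Nat.shiftLeft TT_p2166 15997)) (Nat.shiftLeft (Nat.lor TT_p2167 (Nat.shiftLeft (Nat.lor TT_p2168 (Nat.shiftLeft TT_p2169 15997)) 15997)) 31994)) 79985)) (Nat.shiftLeft (Nat.lor (Nat.lor (Nat.lor TT_p2170 (Nat.shiftLeft TT_p2171 15997)) (Nat.shiftLeft (Nat.lor TT_p2172 (Nat.shiftLeft (Nat.lor TT_p2173 (Nat.shiftLeft TT_p2174 15997)) 15997)) 31994)) (Nat.shiftLeft (Nat.lor (Nat.lor TT_p2175 (Nat.shiftLeft TT_p2176 15997)) (Nat.shiftLeft (Nat.lor TT_p2177 (Nat.shiftLeft (Nat.lor TT_p2178 (Nat.shiftLeft TT_p2179 15997)) 15997)) 31994)) 79985)) 159970)) (Nat.shiftLeft (Nat.lor (Nat.lor (Nat.lor (Nat.lor TT_p2180 (Nat.shiftLeft TT_p2181 15997)) (Nat.shiftLeft (Nat.lor TT_p2182 (Nat.shiftLeft (Nat.lor TT_p2183 (Nat.shiftLeft TT_p2184 15997)) 15997)) 31994)) (Nat.shiftLeft (Nat.lor (Nat.lor TT_p2185 (Nat.shiftLeft TT_p2186 15997)) (Nat.shiftLeft (Nat.lor TT_p2187 (Nat.shiftLeft (Nat.lor TT_p2188 (Nat.shiftLeft TT_p2189 15997)) 15997)) 31994)) 79985)) (Nat.shiftLeft (Nat.lor (Nat.lor (Nat.lor TT_p2190 (Nat.shiftLeft TT_p2191 15997)) (Nat.shiftLeft (Nat.lor TT_p2192 (Nat.shiftLeft (Nat.lor TT_p2193 (Nat.shiftLeft TT_p2194 15997)) 15997)) 31994)) (Nat.shiftLeft (Nat.lor (Nat.lor TT_p2195 (Nat.shiftLeft (Nat.lor TT_p2196 (Nat.shiftLeft TT_p2197 15997)) 15997)) (Nat.shiftLeft (Nat.lor TT_p2198 (Nat.shiftLeft (Nat.lor TT_p2199 (Nat.shiftLeft TT_p2200 15997)) 15997)) 47991)) 79985)) 159970)) 319940)) 639880)) (Nat.shiftLeft (Nat.lor (Nat.lor (Nat.lor (Nat.lor (Nat.lor (Nat.lor TT_p2201 (Nat.shiftLeft TT_p2202 15997)) (Nat.shiftLeft (Nat.lor TT_p2203 (Nat.shiftLeft (Nat.lor TT_p2204 (Nat.shiftLeft TT_p2205 15997)) 15997)) 31994)) (Nat.shiftLeft (Nat.lor (Nat.lor TT_p2206 (Nat.shiftLeft TT_p2207 15997)) (Nat.shiftLeft (Nat.lor TT_p2208 (Nat.shiftLeft (Nat.lor TT_p2209 (Nat.shiftLeft TT_p2210 15997)) 15997)) 31994)) 79985)) (Nat.shiftLeft (Nat.lor (Nat.lor (Nat.lor TT_p2211 (Nat.shiftLeft TT_p2212 15997)) (Nat.shiftLeft (Nat.lor TT_p2213 (Nat.shiftLeft (Nat.lor TT_p2214 (Nat.shiftLeft TT_p2215 15997)) 15997)) 31994)) (Nat.shiftLeft (Nat.lor (Nat.lor TT_p2216 (Nat.shiftLeft TT_p2217 15997)) (Nat.shiftLeft (Nat.lor TT_p2218 (Nat.shiftLeft (Nat.lor TT_p2219 (Nat.shiftLeft TT_p2220 15997)) 15997)) 31994)) 79985)) 159970)) (Nat.shiftLeft (Nat.lor (Nat.lor (Nat.lor (Nat.lor TT_p2221 (Nat.shiftLeft TT_p2222 15997)) (Nat.shiftLeft (Nat.lor TT_p2223 (Nat.shiftLeft (Nat.lor TT_p2224 (Nat.shiftLeft TT_p2225 15997)) 15997)) 31994)) (Nat.shiftLeft (Nat.lor (Nat.lor TT_p2226 (Nat.shiftLeft TT_p2227 15997)) (Nat.shiftLeft (Nat.lor TT_p2228 (Nat.shiftLeft (Nat.lor TT_p2229 (Nat.shiftLeft TT_p2230 15997)) 15997)) 31994)) 79985)) (Nat.shiftLeft (Nat.lor (Nat.lor (Nat.lor TT_p2231 (Nat.shiftLeft TT_p2232 15997)) (Nat.shiftLeft (Nat.lor TT_p2233 (Nat.shiftLeft (Nat.lor TT_p2234 (Nat.shiftLeft TT_p2235 15997)) 15997)) 31994)) (Nat.shiftLeft (Nat.lor (Nat.lor TT_p2236 (Nat.shiftLeft (Nat.lor TT_p2237 (Nat.shiftLeft TT_p2238 15997)) 15997)) (Nat.shiftLeft (Nat.lor TT_p2239 (Nat.shiftLeft (Nat.lor TT_p2240 (Nat.shiftLeft TT_p2241 15997)) 15997)) 47991)) 79985)) 159970)) 319940)) (Nat.shiftLeft (Nat.lor (Nat.lor (Nat.lor (Nat.lor (Nat.lor TT_p2242 (Nat.shiftLeft TT_p2243 15997)) (Nat.shiftLeft (Nat.lor TT_p2244 (Nat.shiftLeft (Nat.lor TT_p2245 (Nat.shiftLeft TT_p2246 15997)) 15997)) 31994)) (Nat.shiftLeft (Nat.lor (Nat.lor TT_p2247 (Nat.shiftLeft TT_p2248 15997)) (Nat.shiftLeft (Nat.lor TT_p2249 (Nat.shiftLeft (Nat.lor TT_p2250 (Nat.shiftLeft TT_p2251 15997)) 15997)) 31994)) 79985)) (Nat.shiftLeft (Nat.lor (Nat.lor (Nat.lor TT_p2252 (Nat.shiftLeft TT_p2253 15997)) (Nat.shiftLeft (Nat.lor TT_p2254 (Nat.shiftLeft (Nat.lor TT_p2255 (Nat.shiftLeft TT_p2256 15997)) 15997)) 31994)) (Nat.shiftLeft (Nat.lor (Nat.lor TT_p2257 (Nat.shiftLeft TT_p2258 15997)) (Nat.shiftLeft (Nat.lor TT_p2259 (Nat.shiftLeft (Nat.lor TT_p2260 (Nat.shiftLeft TT_p2261 15997)) 15997)) 31994)) 79985)) 159970)) (Nat.shiftLeft (Nat.lor (Nat.lor (Nat.lor (Nat.lor TT_p2262 (Nat.shiftLeft TT_p2263 15997)) (Nat.shiftLeft (Nat.lor TT_p2264 (Nat.shiftLeft (Nat.lor TT_p2265 (Nat.shiftLeft TT_p2266 15997)) 15997)) 31994)) (Nat.shiftLeft (Nat.lor (Nat.lor TT_p2267 (Nat.shiftLeft TT_p2268 15997)) (Nat.shiftLeft (Nat.lor TT_p2269 (Nat.shiftLeft (Nat.lor TT_p2270 (Nat.shiftLeft TT_p2271 15997)) 15997)) 31994)) 79985)) (Nat.shiftLeft (Nat.lor (Nat.lor (Nat.lor TT_p2272 (Nat.shiftLeft TT_p2273 15997)) (Nat.shiftLeft (Nat.lor TT_p2274 (Nat.shiftLeft (Nat.lor TT_p2275 (Nat.shiftLeft TT_p2276 15997)) 15997)) 31994)) (Nat.shiftLeft (Nat.lor (Nat.lor TT_p2277 (Nat.shiftLeft (Nat.lor TT_p2278 (Nat.shiftLeft TT_p2279 15997)) 15997)) (Nat.shiftLeft (Nat.lor TT_p2280 (Nat.shiftLeft (Nat.lor TT_p2281 (Nat.shiftLeft TT_p2282 15997)) 15997)) 47991)) 79985)) 159970)) 319940)) 655877)) 1295757)) 2607511)) (Nat.shiftLeft (Nat.lor (Nat.lor (Nat.lor (Nat.lor (Nat.lor (Nat.lor (Nat.lor (Nat.lor TT_p2283 (Nat.shiftLeft TT_p2284 15997)) (Nat.shiftLeft (Nat.lor TT_p2285 (Nat.shiftLeft (Nat.lor TT_p2286 (Nat.shiftLeft TT_p2287 15997)) 15997)) 31994)) (Nat.shiftLeft (Nat.lor (Nat.lor TT_p2288 (Nat.shiftLeft TT_p2289 15997)) (Nat.shiftLeft (Nat.lor TT_p2290 (Nat.shiftLeft (Nat.lor TT_p2291 (Nat.shiftLeft TT_p2292 15997)) 15997)) 31994)) 79985)) (Nat.shiftLeft (Nat.lor (Nat.lor (Nat.lor TT_p2293 (Nat.shiftLeft TT_p2294 15997)) (Nat.shiftLeft (Nat.lor TT_p2295 (Nat.shiftLeft (Nat.lor TT_p2296 (Nat.shiftLeft TT_p2297 15997)) 15997)) 31994)) (Nat.shiftLeft (Nat.lor (Nat.lor TT_p2298 (Nat.shiftLeft TT_p2299 15997)) (Nat.shiftLeft (Nat.lor TT_p2300 (Nat.shiftLeft (Nat.lor TT_p2301 (Nat.shiftLeft TT_p2302 15997)) 15997)) 31994)) 79985)) 159970)) (Nat.shiftLeft (Nat.lor (Nat.lor (Nat.lor (Nat.lor TT_p2303 (Nat.shiftLeft TT_p2304 15997)) (Nat.shiftLeft (Nat.lor TT_p2305 (Nat.shiftLeft (Nat.lor TT_p2306 (Nat.shiftLeft TT_p2307 15997)) 15997)) 31994)) (Nat.shiftLeft (Nat.lor (Nat.lor TT_p2308 (Nat.shiftLeft TT_p2309 15997)) (Nat.shiftLeft (Nat.lor TT_p2310 (Nat.shiftLeft (Nat.lor TT_p2311 (Nat.shiftLeft TT_p2312 15997)) 15997)) 31994)) 79985)) (Nat.shiftLeft (Nat.lor (Nat.lor (Nat.lor TT_p2313 (Nat.shiftLeft TT_p2314 15997)) (Nat.shiftLeft (Nat.lor TT_p2315 (Nat.shiftLeft (Nat.lor TT_p2316 (Nat.shiftLeft TT_p2317 15997)) 15997)) 31994)) (Nat.shiftLeft (Nat.lor (Nat.lor TT_p2318 (Nat.shiftLeft TT_p2319 15997)) (Nat.shiftLeft (Nat.lor TT_p2320 (Nat.shiftLeft (Nat.lor TT_p2321 (Nat.shiftLeft TT_p2322 15997)) 15997)) 31994)) 79985)) 159970)) 319940)) (Nat.shiftLeft (Nat.lor (Nat.lor (Nat.lor (Nat.lor (Nat.lor TT_p2323 (Nat.shiftLeft TT_p2324 15997)) (Nat.shiftLeft (Nat.lor TT_p2325 (Nat.shiftLeft (Nat.lor TT_p2326 (Nat.shiftLeft TT_p2327 15997)) 15997)) 31994)) (Nat.shiftLeft (Nat.lor (Nat.lor TT_p2328 (Nat.shiftLeft TT_p2329 15997)) (Nat.shiftLeft (Nat.lor TT_p2330 (Nat.shiftLeft (Nat.lor TT_p2331 (Nat.shiftLeft TT_p2332 15997)) 15997)) 31994)) 79985)) (Nat.shiftLeft (Nat.lor (Nat.lor (Nat.lor TT_p2333 (Nat.shiftLeft TT_p2334 15997)) (Nat.shiftLeft (Nat.lor TT_p2335 (Nat.shiftLeft (Nat.lor TT_p2336 (Nat.shiftLeft TT_p2337 15997)) 15997)) 31994)) (Nat.shiftLeft (Nat.lor (Nat.lor TT_p2338 (Nat.shiftLeft TT_p2339 15997)) (Nat.shiftLeft (Nat.lor TT_p2340 (Nat.shiftLeft (Nat.lor TT_p2341 (Nat.shiftLeft TT_p2342 15997)) 15997)) 31994)) 79985)) 159970)) (Nat.shiftLeft (Nat.lor (Nat.lor (Nat.lor (Nat.lor TT_p2343 (Nat.shiftLeft TT_p2344 15997)) (Nat.shiftLeft (Nat.lor TT_p2345 (Nat.shiftLeft (Nat.lor TT_p2346 (Nat.shiftLeft TT_p2347 15997)) 15997)) 31994)) (Nat.shiftLeft (Nat.lor (Nat.lor TT_p2348 (Nat.shiftLeft TT_p2349 15997)) (Nat.shiftLeft (Nat.lor TT_p2350 (Nat.shiftLeft (Nat.lor TT_p2351 (Nat.shiftLeft TT_p2352 15997)) 15997)) 31994)) 79985)) (Nat.shiftLeft (Nat.lor (Nat.lor (Nat.lor TT_p2353 (Nat.shiftLeft TT_p2354 15997)) (Nat.shiftLeft (Nat.lor TT_p2355 (Nat.shiftLeft (Nat.lor TT_p2356 (Nat.shiftLeft TT_p2357 15997)) 15997)) 31994)) (Nat.shiftLeft (Nat.lor (Nat.lor TT_p2358 (Nat.shiftLeft (Nat.lor TT_p2359 (Nat.shiftLeft TT_p2360 15997)) 15997)) (Nat.shiftLeft (Nat.lor TT_p2361 (Nat.shiftLeft (Nat.lor TT_p2362 (Nat.shiftLeft TT_p2363 15997)) 15997)) 47991)) 79985)) 159970)) 319940)) 639880)) (Nat.shiftLeft (Nat.lor (Nat.lor (Nat.lor (Nat.lor (Nat.lor (Nat.lor TT_p2364 (Nat.shiftLeft TT_p2365 15997)) (Nat.shiftLeft (Nat.lor TT_p2366 (Nat.shiftLeft (Nat.lor TT_p2367 (Nat.shiftLeft TT_p2368 15997)) 15997)) 31994)) (Nat.shiftLeft (Nat.lor (Nat.lor TT_p2369 (Nat.shiftLeft TT_p2370 15997)) (Nat.shiftLeft (Nat.lor TT_p2371 (Nat.shiftLeft (Nat.lor TT_p2372 (Nat.shiftLeft TT_p2373 15997)) 15997)) 31994)) 79985)) (Nat.shiftLeft (Nat.lor (Nat.lor (Nat.lor TT_p2374 (Nat.shiftLeft TT_p2375 15997)) (Nat.shiftLeft (Nat.lor TT_p2376 (Nat.shiftLeft (Nat.lor TT_p2377 (Nat.shiftLeft TT_p2378 15997)) 15997)) 31994)) (Nat.shiftLeft (Nat.lor (Nat.lor TT_p2379 (Nat.shiftLeft TT_p2380 15997)) (Nat.shiftLeft (Nat.lor TT_p2381 (Nat.shiftLeft (Nat.lor TT_p2382 (Nat.shiftLeft TT_p2383 15997)) 15997)) 31994)) 79985)) 159970)) (Nat.shiftLeft (Nat.lor (Nat.lor (Nat.lor (Nat.lor TT_p2384 (Nat.shiftLeft TT_p2385 15997)) (Nat.shiftLeft (Nat.lor TT_p2386 (Nat.shiftLeft (Nat.lor TT_p2387 (Nat.shiftLeft TT_p2388 15997)) 15997)) 31994)) (Nat.shiftLeft (Nat.lor (Nat.lor TT_p2389 (Nat.shiftLeft TT_p2390 15997)) (Nat.shiftLeft (Nat.lor TT_p2391 (Nat.shiftLeft (Nat.lor TT_p2392 (Nat.shiftLeft TT_p2393 15997)) 15997)) 31994)) 79985)) (Nat.shiftLeft (Nat.lor (Nat.lor (Nat.lor TT_p2394 (Nat.shiftLeft TT_p2395 15997)) (Nat.shiftLeft (Nat.lor TT_p2396 (Nat.shiftLeft (Nat.lor TT_p2397 (Nat.shiftLeft TT_p2398 15997)) 15997)) 31994)) (Nat.shiftLeft (Nat.lor (Nat.lor TT_p2399 (Nat.shiftLeft (Nat.lor TT_p2400 (Nat.shiftLeft TT_p2401 15997)) 15997)) (Nat.shiftLeft (Nat.lor TT_p2402 (Nat.shiftLeft (Nat.lor TT_p2403 (Nat.shiftLeft TT_p2404 15997)) 15997)) 47991)) 79985)) 159970)) 319940)) (Nat.shiftLeft (Nat.lor (Nat.lor (Nat.lor (Nat.lor (Nat.lor TT_p2405 (Nat.shiftLeft TT_p2406 15997)) (Nat.shiftLeft (Nat.lor TT_p2407 (Nat.shiftLeft (Nat.lor TT_p2408 (Nat.shiftLeft TT_p2409 15997)) 15997)) 31994)) (Nat.shiftLeft (Nat.lor (Nat.lor TT_p2410 (Nat.shiftLeft TT_p2411 15997)) (Nat.shiftLeft (Nat.lor TT_p2412 (Nat.shiftLeft (Nat.lor TT_p2413 (Nat.shiftLeft TT_p2414 15997)) 15997)) 31994)) 79985)) (Nat.shiftLeft (Nat.lor (Nat.lor (Nat.lor TT_p2415 (Nat.shiftLeft TT_p2416 15997)) (Nat.shiftLeft (Nat.lor TT_p2417 (Nat.shiftLeft (Nat.lor TT_p2418 (Nat.shiftLeft TT_p2419 15997)) 15997)) 31994)) (Nat.shiftLeft (Nat.lor (Nat.lor TT_p2420 (Nat.shiftLeft TT_p2421 15997)) (Nat.shiftLeft (Nat.lor TT_p2422 (Nat.shiftLeft (Nat.lor TT_p2423 (Nat.shiftLeft TT_p2424 15997)) 15997)) 31994)) 79985)) 159970)) (Nat.shiftLeft (Nat.lor (Nat.lor (Nat.lor (Nat.lor TT_p2425 (Nat.shiftLeft TT_p2426 15997)) (Nat.shiftLeft (Nat.lor TT_p2427 (Nat.shiftLeft (Nat.lor TT_p2428 (Nat.shiftLeft TT_p2429 15997)) 15997)) 31994)) (Nat.shiftLeft (Nat.lor (Nat.lor TT_p2430 (Nat.shiftLeft TT_p2431 15997)) (Nat.shiftLeft (Nat.lor TT_p2432 (Nat.shiftLeft (Nat.lor TT_p2433 (Nat.shiftLeft TT_p2434 15997)) 15997)) 31994)) 79985)) (Nat.shiftLeft (Nat.lor (Nat.lor (Nat.lor TT_p2435 (Nat.shiftLeft TT_p2436 15997)) (Nat.shiftLeft (Nat.lor TT_p2437 (Nat.shiftLeft (Nat.lor TT_p2438 (Nat.shiftLeft TT_p2439 15997)) 15997)) 31994)) (Nat.shiftLeft (Nat.lor (Nat.lor TT_p2440 (Nat.shiftLeft (Nat.lor TT_p2441 (Nat.shiftLeft TT_p2442 15997)) 15997)) (Nat.shiftLeft (Nat.lor TT_p2443 (Nat.shiftLeft (Nat.lor TT_p2444 (Nat.shiftLeft TT_p2445 15997)) 15997)) 47991)) 79985)) 159970)) 319940)) 655877)) 1295757)) (Nat.shiftLeft (Nat.lor (Nat.lor (Nat.lor (Nat.lor (Nat.lor (Nat.lor (Nat.lor TT_p2446 (Nat.shiftLeft TT_p2447 15997)) (Nat.shiftLeft (Nat.lor TT_p2448 (Nat.shiftLeft (Nat.lor TT_p2449 (Nat.shiftLeft TT_p2450 15997)) 15997)) 31994)) (Nat.shiftLeft (Nat.lor (Nat.lor TT_p2451 (Nat.shiftLeft TT_p2452 15997)) (Nat.shiftLeft (Nat.lor TT_p2453 (Nat.shiftLeft (Nat.lor TT_p2454 (Nat.shiftLeft TT_p2455 15997)) 15997)) 31994)) 79985)) (Nat.shiftLeft (Nat.lor (Nat.lor (Nat.lor TT_p2456 (Nat.shiftLeft TT_p2457 15997)) (Nat.shiftLeft (Nat.lor TT_p2458 (Nat.shiftLeft (Nat.lor TT_p2459 (Nat.shiftLeft TT_p2460 15997)) 15997)) 31994)) (Nat.shiftLeft (Nat.lor (Nat.lor TT_p2461 (Nat.shiftLeft TT_p2462 15997)) (Nat.shiftLeft (Nat.lor TT_p2463 (Nat.shiftLeft (Nat.lor TT_p2464 (Nat.shiftLeft TT_p2465 15997)) 15997)) 31994)) 79985)) 159970)) (Nat.shiftLeft (Nat.lor (Nat.lor (Nat.lor (Nat.lor TT_p2466 (Nat.shiftLeft TT_p2467 15997)) (Nat.shiftLeft (Nat.lor TT_p2468 (Nat.shiftLeft (Nat.lor TT_p2469 (Nat.shiftLeft TT_p2470 15997)) 15997)) 31994)) (Nat.shiftLeft (Nat.lor (Nat.lor TT_p2471 (Nat.shiftLeft TT_p2472 15997)) (Nat.shiftLeft (Nat.lor TT_p2473 (Nat.shiftLeft (Nat.lor TT_p2474 (Nat.shiftLeft TT_p2475 15997)) 15997)) 31994)) 79985)) (Nat.shiftLeft (Nat.lor (Nat.lor (Nat.lor TT_p2476 (Nat.shiftLeft TT_p2477 15997)) (Nat.shiftLeft (Nat.lor TT_p2478 (Nat.shiftLeft (Nat.lor TT_p2479 (Nat.shiftLeft TT_p2480 15997)) 15997)) 31994)) (Nat.shiftLeft (Nat.lor (Nat.lor TT_p2481 (Nat.shiftLeft (Nat.lor TT_p2482 (Nat.shiftLeft TT_p2483 15997)) 15997)) (Nat.shiftLeft (Nat.lor TT_p2484 (Nat.shiftLeft (Nat.lor TT_p2485 (Nat.shiftLeft TT_p2486 15997)) 15997)) 47991)) 79985)) 159970)) 319940)) (Nat.shiftLeft (Nat.lor (Nat.lor (Nat.lor (Nat.lor (Nat.lor TT_p2487 (Nat.shiftLeft TT_p2488 15997)) (Nat.shiftLeft (Nat.lor TT_p2489 (Nat.shiftLeft (Nat.lor TT_p2490 (Nat.shiftLeft TT_p2491 15997)) 15997)) 31994)) (Nat.shiftLeft (Nat.lor (Nat.lor TT_p2492 (Nat.shiftLeft TT_p2493 15997)) (Nat.shiftLeft (Nat.lor TT_p2494 (Nat.shiftLeft (Nat.lor TT_p2495 (Nat.shiftLeft TT_p2496 15997)) 15997)) 31994)) 79985)) (Nat.shiftLeft (Nat.lor (Nat.lor (Nat.lor TT_p2497 (Nat.shiftLeft TT_p2498 15997)) (Nat.shiftLeft (Nat.lor TT_p2499 (Nat.shiftLeft (Nat.lor TT_p2500 (Nat.shiftLeft TT_p2501 15997)) 15997)) 31994)) (Nat.shiftLeft (Nat.lor (Nat.lor TT_p2502 (Nat.shiftLeft TT_p2503 15997)) (Nat.shiftLeft (Nat.lor TT_p2504 (Nat.shiftLeft (Nat.lor TT_p2505 (Nat.shiftLeft TT_p2506 15997)) 15997)) 31994)) 79985)) 159970)) (Nat.shiftLeft (Nat.lor (Nat.lor (Nat.lor (Nat.lor TT_p2507 (Nat.shiftLeft TT_p2508 15997)) (Nat.shiftLeft (Nat.lor TT_p2509 (Nat.shiftLeft (Nat.lor TT_p2510 (Nat.shiftLeft TT_p2511 15997)) 15997)) 31994)) (Nat.shiftLeft (Nat.lor (Nat.lor TT_p2512 (Nat.shiftLeft TT_p2513 15997)) (Nat.shiftLeft (Nat.lor TT_p2514 (Nat.shiftLeft (Nat.lor TT_p2515 (Nat.shiftLeft TT_p2516 15997)) 15997)) 31994)) 79985)) (Nat.shiftLeft (Nat.lor (Nat.lor (Nat.lor TT_p2517 (Nat.shiftLeft TT_p2518 15997)) (Nat.shiftLeft (Nat.lor TT_p2519 (Nat.shiftLeft (Nat.lor TT_p2520 (Nat.shiftLeft TT_p2521 15997)) 15997)) 31994)) (Nat.shiftLeft (Nat.lor (Nat.lor TT_p2522 (Nat.shiftLeft (Nat.lor TT_p2523 (Nat.shiftLeft TT_p2524 15997)) 15997)) (Nat.shiftLeft (Nat.lor TT_p2525 (Nat.shiftLeft (Nat.lor TT_p2526 (Nat.shiftLeft TT_p2527 15997)) 15997)) 47991)) 79985)) 159970)) 319940)) 655877)) (Nat.shiftLeft (Nat.lor (Nat.lor (Nat.lor (Nat.lor (Nat.lor (Nat.lor TT_p2528 (Nat.shiftLeft TT_p2529 15997)) (Nat.shiftLeft (Nat.lor TT_p2530 (Nat.shiftLeft (Nat.lor TT_p2531 (Nat.shiftLeft TT_p2532 15997)) 15997)) 31994)) (Nat.shiftLeft (Nat.lor (Nat.lor TT_p2533 (Nat.shiftLeft TT_p2534 15997)) (Nat.shiftLeft (Nat.lor TT_p2535 (Nat.shiftLeft (Nat.lor TT_p2536 (Nat.shiftLeft TT_p2537 15997)) 15997)) 31994)) 79985)) (Nat.shiftLeft (Nat.lor (Nat.lor (Nat.lor TT_p2538 (Nat.shiftLeft TT_p2539 15997)) (Nat.shiftLeft (Nat.lor TT_p2540 (Nat.shiftLeft (Nat.lor TT_p2541 (Nat.shiftLeft TT_p2542 15997)) 15997)) 31994)) (Nat.shiftLeft (Nat.lor (Nat.lor TT_p2543 (Nat.shiftLeft TT_p2544 15997)) (Nat.shiftLeft (Nat.lor TT_p2545 (Nat.shiftLeft (Nat.lor TT_p2546 (Nat.shiftLeft TT_p2547 15997)) 15997)) 31994)) 79985)) 159970)) (Nat.shiftLeft (Nat.lor (Nat.lor (Nat.lor (Nat.lor TT_p2548 (Nat.shiftLeft TT_p2549 15997)) (Nat.shiftLeft (Nat.lor TT_p2550 (Nat.shiftLeft (Nat.lor TT_p2551 (Nat.shiftLeft TT_p2552 15997)) 15997)) 31994)) (Nat.shiftLeft (Nat.lor (Nat.lor TT_p2553 (Nat.shiftLeft TT_p2554 15997)) (Nat.shiftLeft (Nat.lor TT_p2555 (Nat.shiftLeft (Nat.lor TT_p2556 (Nat.shiftLeft TT_p2557 15997)) 15997)) 31994)) 79985)) (Nat.shiftLeft (Nat.lor (Nat.lor (Nat.lor TT_p2558 (Nat.shiftLeft TT_p2559 15997)) (Nat.shiftLeft (Nat.lor TT_p2560 (Nat.shiftLeft (Nat.lor TT_p2561 (Nat.shiftLeft TT_p2562 15997)) 15997)) 31994)) (Nat.shiftLeft (Nat.lor (Nat.lor TT_p2563 (Nat.shiftLeft (Nat.lor TT_p2564 (Nat.shiftLeft TT_p2565 15997)) 15997)) (Nat.shiftLeft (Nat.lor TT_p2566 (Nat.shiftLeft (Nat.lor TT_p2567 (Nat.shiftLeft TT_p2568 15997)) 15997)) 47991)) 79985)) 159970)) 319940)) (Nat.shiftLeft (Nat.lor (Nat.lor (Nat.lor (Nat.lor (Nat.lor TT_p2569 (Nat.shiftLeft TT_p2570 15997)) (Nat.shiftLeft (Nat.lor TT_p2571 (Nat.shiftLeft (Nat.lor TT_p2572 (Nat.shiftLeft TT_p2573 15997)) 15997)) 31994)) (Nat.shiftLeft (Nat.lor (Nat.lor TT_p2574 (Nat.shiftLeft TT_p2575 15997)) (Nat.shiftLeft (Nat.lor TT_p2576 (Nat.shiftLeft (Nat.lor TT_p2577 (Nat.shiftLeft TT_p2578 15997)) 15997)) 31994)) 79985)) (Nat.shiftLeft (Nat.lor (Nat.lor (Nat.lor TT_p2579 (Nat.shiftLeft TT_p2580 15997)) (Nat.shiftLeft (Nat.lor TT_p2581 (Nat.shiftLeft (Nat.lor TT_p2582 (Nat.shiftLeft TT_p2583 15997)) 15997)) 31994)) (Nat.shiftLeft (Nat.lor (Nat.lor TT_p2584 (Nat.shiftLeft TT_p2585 15997)) (Nat.shiftLeft (Nat.lor TT_p2586 (Nat.shiftLeft (Nat.lor TT_p2587 (Nat.shiftLeft TT_p2588 15997)) 15997)) 31994)) 79985)) 159970)) (Nat.shiftLeft (Nat.lor (Nat.lor (Nat.lor (Nat.lor TT_p2589 (Nat.shiftLeft TT_p2590 15997)) (Nat.shiftLeft (Nat.lor TT_p2591 (Nat.shiftLeft (Nat.lor TT_p2592 (Nat.shiftLeft TT_p2593 15997)) 15997)) 31994)) (Nat.shiftLeft (Nat.lor (Nat.lor TT_p2594 (Nat.shiftLeft TT_p2595 15997)) (Nat.shiftLeft (Nat.lor TT_p2596 (Nat.shiftLeft (Nat.lor TT_p2597 (Nat.shiftLeft TT_p2598 15997)) 15997)) 31994)) 79985)) (Nat.shiftLeft (Nat.lor (Nat.lor (Nat.lor TT_p2599 (Nat.shiftLeft TT_p2600 15997)) (Nat.shiftLeft (Nat.lor TT_p2601 (Nat.shiftLeft (Nat.lor TT_p2602 (Nat.shiftLeft TT_p2603 15997)) 15997)) 31994)) (Nat.shiftLeft (Nat.lor (Nat.lor TT_p2604 (Nat.shiftLeft (Nat.lor TT_p2605 (Nat.shiftLeft TT_p2606 15997)) 15997)) (Nat.shiftLeft (Nat.lor TT_p2607 (Nat.shiftLeft (Nat.lor TT_p2608 (Nat.shiftLeft TT_p2609 15997)) 15997)) 47991)) 79985)) 159970)) 319940)) 655877)) 1311754)) 2607511)) 5215022)) 10430044)) 20876085))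
noncomputable def TT_M1 : Nat := Nat.sub (Nat.shiftLeft 1 1114112) 1
noncomputable def TT_M2 : Nat := Nat.sub (Nat.shiftLeft 1 34816) 1
noncomputable def TT_M3 : Nat := Nat.sub (Nat.shiftLeft 1 1088) 1
noncomputable def TT_L1 (b : Nat) : Nat := Nat.land (Nat.shiftRight TT_T (Nat.mul b 1114112)) TT_M1
noncomputable def TT_L2 (b : Nat) : Nat :=
  force (Nat.shiftRight b 5) fun c => Nat.land (Nat.shiftRight (TT_L1 c) (Nat.mul (Nat.land b 31) 34816)) TT_M2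
noncomputable def TT_L3 (b : Nat) : Nat :=
  force (Nat.shiftRight b 5) fun c => Nat.land (Nat.shiftRight (TT_L2 c) (Nat.mul (Nat.land b 31) 1088)) TT_M3
noncomputable def TT (p : Nat) : Nat :=
  force (Nat.shiftRight p 6) fun c => Nat.land (Nat.shiftRight (TT_L3 c) (Nat.mul (Nat.land p 63) 17)) 131071

noncomputable def F0 (g p : Nat) : Nat := TT (Nat.add (Nat.mul g 122760) p)

def progL : List (List Nat) := [
  [],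
  [],
  [],
  [],
  [],
  [],
  [],
  [],
  [5, 4, 5, 4, 5],
  [0, 3, 1],
  [1, 4, 0],
  [2, 3, 2],
  [5, 6, 5],
  [0, 5, 1],
  [3, 4, 3],
  [0, 6, 1],
  [1, 3, 0],
  [7, 6, 7],
  [0, 6, 5, 3, 4],
  [4, 3, 5, 6, 1],
  [2],
  [5, 4, 5, 4],
  [3, 4, 5, 4, 5, 3, 4, 5, 6, 5, 4, 5, 2, 3, 4, 5, 6, 5, 4, 5, 2, 3, 4, 5, 4, 3],
  [7],
  [5, 6, 7, 4, 5, 6, 2, 3, 4, 5, 2, 3, 4, 5, 0, 3, 2, 4, 3, 6, 5, 4, 7, 6, 5],
  [5, 6, 7, 4, 5, 6, 5, 4, 5, 3, 4, 5, 4, 3, 2, 0, 3, 1, 4, 3, 0, 5, 6, 5, 4, 7, 6, 5],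
  [5, 6, 7, 4, 5, 6, 5, 4, 5, 3, 4, 5, 4, 3, 2, 0, 3, 1, 4, 3, 0, 5, 6, 5, 4, 7, 6, 5],
  [5, 3, 4, 5, 6, 3, 4, 5, 4, 5, 3, 4, 5, 6, 5, 3, 4, 5, 3, 4, 5, 6, 5, 4, 5, 3, 4, 5, 6, 7, 5, 4, 5, 3, 4, 5, 6, 3, 2, 0, 3, 4, 0, 3, 5, 6, 0, 6, 7],
  [5, 6, 7, 4, 5, 6, 5, 3, 4, 5, 2, 3, 4, 5, 4, 0, 3, 4, 5, 4, 0, 3, 4, 6, 5, 4, 7, 6, 5],
  [5, 6, 7, 4, 5, 6, 4, 5, 2, 3, 4, 0, 3, 4, 5, 4, 3, 6, 1, 6, 5, 4, 0, 6, 5],
  [5, 6, 7, 4, 5, 6, 2, 3, 4, 5, 2, 3, 4, 5, 0, 3, 4, 5, 4, 6, 5, 0, 3, 4, 0, 6, 5],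
  [7, 4, 5, 4, 2],
  [5, 6, 7, 4, 5, 6, 5, 4, 5, 3, 4, 5, 6, 7, 4, 5, 6, 2, 3, 4, 5],
  [6, 4, 5, 4, 5, 3, 4, 5, 6, 7, 4, 5, 2, 3, 4, 5, 6, 3, 4, 5, 4, 2, 3, 2, 0, 3, 4, 5, 6, 5, 4, 3, 5, 4, 3, 5, 6, 0],
  [5, 6, 7, 4, 5, 6, 5, 3, 4, 5, 3, 4, 2, 0, 3, 0, 4, 0, 5, 4, 3, 6, 5, 0, 4, 0, 6, 5],
  [5, 4, 5, 6, 7, 5, 6, 4, 5, 3, 0, 3, 4, 3, 5, 4, 3, 0, 6, 5, 4, 7, 6, 5],
  [7, 6, 5, 4, 5, 6, 5, 4, 5, 3, 4, 5, 6, 4, 5, 3, 4, 5, 0, 3, 4, 5, 6, 0, 3, 0, 5],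
  [5, 6, 7, 4, 5, 6, 3, 4, 5, 3, 4, 2, 0, 3, 4, 5, 1, 4, 3, 6, 5, 4, 7, 6, 5],
  [5, 6, 7, 4, 5, 6, 4, 5, 2, 3, 4, 5, 4, 3, 2, 0, 3, 6, 0, 4, 0, 3, 5, 4, 6, 5, 7],
  [5, 4, 5, 6, 7, 5, 6, 4, 5, 3, 4, 5, 6, 3, 4, 2, 3, 2, 0, 3, 0, 4, 5, 4, 6, 5, 7],
  [3, 4, 5, 6, 5, 4, 5, 3, 4, 5, 6, 5, 3, 4, 5, 3, 4, 5, 6, 5, 4, 2, 3, 2, 0, 3, 2, 4, 6, 5, 4, 0, 3, 0, 4, 5, 6, 5, 4]]
def prog (g : Nat) : List Nat := progL.getD g []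

noncomputable def F : Nat → Nat → Nat := Fv F0 20 prog

noncomputable def dL0_pt_T : Nat := (Nat.lor (Nat.lor (Nat.lor (Nat.lor (Nat.lor (Nat.lor (Nat.lor dL0_pt_p0 (Nat.shiftLeft dL0_pt_p1 15997)) (Nat.shiftLeft (Nat.lor dL0_pt_p2 (Nat.shiftLeft dL0_pt_p3 15997)) 31994)) (Nat.shiftLeft (Nat.lor (Nat.lor dL0_pt_p4 (Nat.shiftLeft dL0_pt_p5 15997)) (Nat.shiftLeft (Nat.lor dL0_pt_p6 (Nat.shiftLeft dL0_pt_p7 15997)) 31994)) 63988)) (Nat.shiftLeft (Nat.lor (Nat.lor (Nat.lor dL0_pt_p8 (Nat.shiftLeft dL0_pt_p9 15997)) (Nat.shiftLeft (Nat.lor dL0_pt_p10 (Nat.shiftLeft dL0_pt_p11 15997)) 31994)) (Nat.shiftLeft (Nat.lor (Nat.lor dL0_pt_p12 (Nat.shiftLeft dL0_pt_p13 15997)) (Nat.shiftLeft (Nat.lor dL0_pt_p14 (Nat.shiftLeft dL0_pt_p15 15997)) 31994)) 63988)) 127976)) (Nat.shiftLeft (Nat.lor (Nat.lor (Nat.lor (Nat.lor dL0_pt_p16 (Nat.shiftLeft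 dL0_pt_p17 15997)) (Nat.shiftLeft (Nat.lor dL0_pt_p18 (Nat.shiftLeft dL0_pt_p19 15997)) 31994)) (Nat.shiftLeft (Nat.lor (Nat.lor dL0_pt_p20 (Nat.shiftLeft dL0_pt_p21 15997)) (Nat.shiftLeft (Nat.lor dL0_pt_p22 (Nat.shiftLeft dL0_pt_p23 15997)) 31994)) 63988)) (Nat.shiftLeft (Nat.lor (Nat.lor (Nat.lor dL0_pt_p24 (Nat.shiftLeft dL0_pt_p25 15997)) (Nat.shiftLeft (Nat.lor dL0_pt_p26 (Nat.shiftLeft dL0_pt_p27 15997)) 31994)) (Nat.shiftLeft (Nat.lor (Nat.lor dL0_pt_p28 (Nat.shiftLeft dL0_pt_p29 15997)) (Nat.shiftLeft (Nat.lor dL0_pt_p30 (Nat.shiftLeft dL0_pt_p31 15997)) 31994)) 63988)) 127976)) 255952)) (Nat.shiftLeft (Nat.lor (Nat.lor (Nat.lor (Nat.lor (Nat.lor dL0_pt_p32 (Nat.shiftLeft dL0_pt_p33 15997)) (Nat.shiftLeft (Nat.lor dL0_pt_p34 (Nat.shiftLeft dL0_pt_p35 15997)) 31994)) (Nat.shiftLeft (Nat.lor (Nat.lor dL0_pt_p36 (Nat.shiftLeft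 dL0_pt_p37 15997)) (Nat.shiftLeft (Nat.lor dL0_pt_p38 (Nat.shiftLeft dL0_pt_p39 15997)) 31994)) 63988)) (Nat.shiftLeft (Nat.lor (Nat.lor (Nat.lor dL0_pt_p40 (Nat.shiftLeft dL0_pt_p41 15997)) (Nat.shiftLeft (Nat.lor dL0_pt_p42 (Nat.shiftLeft dL0_pt_p43 15997)) 31994)) (Nat.shiftLeft (Nat.lor (Nat.lor dL0_pt_p44 (Nat.shiftLeft dL0_pt_p45 15997)) (Nat.shiftLeft (Nat.lor dL0_pt_p46 (Nat.shiftLeft dL0_pt_p47 15997)) 31994)) 63988)) 127976)) (Nat.shiftLeft (Nat.lor (Nat.lor (Nat.lor (Nat.lor dL0_pt_p48 (Nat.shiftLeft dL0_pt_p49 15997)) (Nat.shiftLeft (Nat.lor dL0_pt_p50 (Nat.shiftLeft dL0_pt_p51 15997)) 31994)) (Nat.shiftLeft (Nat.lor (Nat.lor dL0_pt_p52 (Nat.shiftLeft dL0_pt_p53 15997)) (Nat.shiftLeft (Nat.lor dL0_pt_p54 (Nat.shiftLeft dL0_pt_p55 15997)) 31994)) 63988)) (Nat.shiftLeft (Nat.lor (Nat.lor (Nat.lor dL0_pt_p56 (Nat.shiftLeft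 dL0_pt_p57 15997)) (Nat.shiftLeft (Nat.lor dL0_pt_p58 (Nat.shiftLeft dL0_pt_p59 15997)) 31994)) (Nat.shiftLeft (Nat.lor (Nat.lor dL0_pt_p60 (Nat.shiftLeft dL0_pt_p61 15997)) (Nat.shiftLeft (Nat.lor dL0_pt_p62 (Nat.shiftLeft (Nat.lor dL0_pt_p63 (Nat.shiftLeft dL0_pt_p64 15997)) 15997)) 31994)) 63988)) 127976)) 255952)) 511904)) (Nat.shiftLeft (Nat.lor (Nat.lor (Nat.lor (Nat.lor (Nat.lor (Nat.lor dL0_pt_p65 (Nat.shiftLeft dL0_pt_p66 15997)) (Nat.shiftLeft (Nat.lor dL0_pt_p67 (Nat.shiftLeft dL0_pt_p68 15997)) 31994)) (Nat.shiftLeft (Nat.lor (Nat.lor dL0_pt_p69 (Nat.shiftLeft dL0_pt_p70 15997)) (Nat.shiftLeft (Nat.lor dL0_pt_p71 (Nat.shiftLeft dL0_pt_p72 15997)) 31994)) 63988)) (Nat.shiftLeft (Nat.lor (Nat.lor (Nat.lor dL0_pt_p73 (Nat.shiftLeft dL0_pt_p74 15997)) (Nat.shiftLeft (Nat.lor dL0_pt_p75 (Nat.shiftLeft dL0_pt_p76 15997))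 31994)) (Nat.shiftLeft (Nat.lor (Nat.lor dL0_pt_p77 (Nat.shiftLeft dL0_pt_p78 15997)) (Nat.shiftLeft (Nat.lor dL0_pt_p79 (Nat.shiftLeft dL0_pt_p80 15997)) 31994)) 63988)) 127976)) (Nat.shiftLeft (Nat.lor (Nat.lor (Nat.lor (Nat.lor dL0_pt_p81 (Nat.shiftLeft dL0_pt_p82 15997)) (Nat.shiftLeft (Nat.lor dL0_pt_p83 (Nat.shiftLeft dL0_pt_p84 15997)) 31994)) (Nat.shiftLeft (Nat.lor (Nat.lor dL0_pt_p85 (Nat.shiftLeft dL0_pt_p86 15997)) (Nat.shiftLeft (Nat.lor dL0_pt_p87 (Nat.shiftLeft dL0_pt_p88 15997)) 31994)) 63988)) (Nat.shiftLeft (Nat.lor (Nat.lor (Nat.lor dL0_pt_p89 (Nat.shiftLeft dL0_pt_p90 15997)) (Nat.shiftLeft (Nat.lor dL0_pt_p91 (Nat.shiftLeft dL0_pt_p92 15997)) 31994)) (Nat.shiftLeft (Nat.lor (Nat.lor dL0_pt_p93 (Nat.shiftLeft dL0_pt_p94 15997)) (Nat.shiftLeft (Nat.lor dL0_pt_p95 (Nat.shiftLeft (Nat.lor dL0_pt_p96 (Nat.shiftLeft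 dL0_pt_p97 15997)) 15997)) 31994)) 63988)) 127976)) 255952)) (Nat.shiftLeft (Nat.lor (Nat.lor (Nat.lor (Nat.lor (Nat.lor dL0_pt_p98 (Nat.shiftLeft dL0_pt_p99 15997)) (Nat.shiftLeft (Nat.lor dL0_pt_p100 (Nat.shiftLeft dL0_pt_p101 15997)) 31994)) (Nat.shiftLeft (Nat.lor (Nat.lor dL0_pt_p102 (Nat.shiftLeft dL0_pt_p103 15997)) (Nat.shiftLeft (Nat.lor dL0_pt_p104 (Nat.shiftLeft dL0_pt_p105 15997)) 31994)) 63988)) (Nat.shiftLeft (Nat.lor (Nat.lor (Nat.lor dL0_pt_p106 (Nat.shiftLeft dL0_pt_p107 15997)) (Nat.shiftLeft (Nat.lor dL0_pt_p108 (Nat.shiftLeft dL0_pt_p109 15997)) 31994)) (Nat.shiftLeft (Nat.lor (Nat.lor dL0_pt_p110 (Nat.shiftLeft dL0_pt_p111 15997)) (Nat.shiftLeft (Nat.lor dL0_pt_p112 (Nat.shiftLeft dL0_pt_p113 15997)) 31994)) 63988)) 127976)) (Nat.shiftLeft (Nat.lor (Nat.lor (Nat.lor (Nat.lor dL0_pt_p114 (Nat.shiftLeft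 dL0_pt_p115 15997)) (Nat.shiftLeft (Nat.lor dL0_pt_p116 (Nat.shiftLeft dL0_pt_p117 15997)) 31994)) (Nat.shiftLeft (Nat.lor (Nat.lor dL0_pt_p118 (Nat.shiftLeft dL0_pt_p119 15997)) (Nat.shiftLeft (Nat.lor dL0_pt_p120 (Nat.shiftLeft dL0_pt_p121 15997)) 31994)) 63988)) (Nat.shiftLeft (Nat.lor (Nat.lor (Nat.lor dL0_pt_p122 (Nat.shiftLeft dL0_pt_p123 15997)) (Nat.shiftLeft (Nat.lor dL0_pt_p124 (Nat.shiftLeft dL0_pt_p125 15997)) 31994)) (Nat.shiftLeft (Nat.lor (Nat.lor dL0_pt_p126 (Nat.shiftLeft dL0_pt_p127 15997)) (Nat.shiftLeft (Nat.lor dL0_pt_p128 (Nat.shiftLeft (Nat.lor dL0_pt_p129 (Nat.shiftLeft dL0_pt_p130 15997)) 15997)) 31994)) 63988)) 127976)) 255952)) 527901)) 1039805))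
noncomputable def dL0_pt_M1 : Nat := Nat.sub (Nat.shiftLeft 1 69632) 1
noncomputable def dL0_pt_M2 : Nat := Nat.sub (Nat.shiftLeft 1 544) 1
noncomputable def dL0_pt_L1 (b : Nat) : Nat := Nat.land (Nat.shiftRight dL0_pt_T (Nat.mul b 69632)) dL0_pt_M1
noncomputable def dL0_pt_L2 (b : Nat) : Nat :=
  force (Nat.shiftRight b 7) fun c => Nat.land (Nat.shiftRight (dL0_pt_L1 c) (Nat.mul (Nat.land b 127) 544)) dL0_pt_M2
noncomputable def dL0_pt (p : Nat) : Nat :=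
  force (Nat.shiftRight p 5) fun c => Nat.land (Nat.shiftRight (dL0_pt_L2 c) (Nat.mul (Nat.land p 31) 17)) 131071

noncomputable def dL0_pi_T : Nat := (Nat.lor (Nat.lor (Nat.lor (Nat.lor (Nat.lor (Nat.lor (Nat.lor dL0_pi_p0 (Nat.shiftLeft dL0_pi_p1 15997)) (Nat.shiftLeft (Nat.lor dL0_pi_p2 (Nat.shiftLeft dL0_pi_p3 15997)) 31994)) (Nat.shiftLeft (Nat.lor (Nat.lor dL0_pi_p4 (Nat.shiftLeft dL0_pi_p5 15997)) (Nat.shiftLeft (Nat.lor dL0_pi_p6 (Nat.shiftLeft dL0_pi_p7 15997)) 31994)) 63988)) (Nat.shiftLeft (Nat.lor (Nat.lor (Nat.lor dL0_pi_p8 (Nat.shiftLeft dL0_pi_p9 15997)) (Nat.shiftLeft (Nat.lor dL0_pi_p10 (Nat.shiftLeft dL0_pi_p11 15997)) 31994)) (Nat.shiftLeft (Nat.lor (Nat.lor dL0_pi_p12 (Nat.shiftLeft dL0_pi_p13 15997)) (Nat.shiftLeft (Nat.lor dL0_pi_p14 (Nat.shiftLeft dL0_pi_p15 15997)) 31994)) 63988)) 127976)) (Nat.shiftLeft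 (Nat.lor (Nat.lor (Nat.lor (Nat.lor dL0_pi_p16 (Nat.shiftLeft dL0_pi_p17 15997)) (Nat.shiftLeft (Nat.lor dL0_pi_p18 (Nat.shiftLeft dL0_pi_p19 15997)) 31994)) (Nat.shiftLeft (Nat.lor (Nat.lor dL0_pi_p20 (Nat.shiftLeft dL0_pi_p21 15997)) (Nat.shiftLeft (Nat.lor dL0_pi_p22 (Nat.shiftLeft dL0_pi_p23 15997)) 31994)) 63988)) (Nat.shiftLeft (Nat.lor (Nat.lor (Nat.lor dL0_pi_p24 (Nat.shiftLeft dL0_pi_p25 15997)) (Nat.shiftLeft (Nat.lor dL0_pi_p26 (Nat.shiftLeft dL0_pi_p27 15997)) 31994)) (Nat.shiftLeft (Nat.lor (Nat.lor dL0_pi_p28 (Nat.shiftLeft dL0_pi_p29 15997)) (Nat.shiftLeft (Nat.lor dL0_pi_p30 (Nat.shiftLeft dL0_pi_p31 15997)) 31994)) 63988)) 127976)) 255952)) (Nat.shiftLeft (Nat.lor (Nat.lor (Nat.lor (Nat.lor (Nat.lor dL0_pi_p32 (Nat.shiftLeft dL0_pi_p33 15997)) (Nat.shiftLeft (Nat.lor dL0_pi_p34 (Nat.shiftLeft dL0_pi_p35 15997))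 31994)) (Nat.shiftLeft (Nat.lor (Nat.lor dL0_pi_p36 (Nat.shiftLeft dL0_pi_p37 15997)) (Nat.shiftLeft (Nat.lor dL0_pi_p38 (Nat.shiftLeft dL0_pi_p39 15997)) 31994)) 63988)) (Nat.shiftLeft (Nat.lor (Nat.lor (Nat.lor dL0_pi_p40 (Nat.shiftLeft dL0_pi_p41 15997)) (Nat.shiftLeft (Nat.lor dL0_pi_p42 (Nat.shiftLeft dL0_pi_p43 15997)) 31994)) (Nat.shiftLeft (Nat.lor (Nat.lor dL0_pi_p44 (Nat.shiftLeft dL0_pi_p45 15997)) (Nat.shiftLeft (Nat.lor dL0_pi_p46 (Nat.shiftLeft dL0_pi_p47 15997)) 31994)) 63988)) 127976)) (Nat.shiftLeft (Nat.lor (Nat.lor (Nat.lor (Nat.lor dL0_pi_p48 (Nat.shiftLeft dL0_pi_p49 15997)) (Nat.shiftLeft (Nat.lor dL0_pi_p50 (Nat.shiftLeft dL0_pi_p51 15997)) 31994)) (Nat.shiftLeft (Nat.lor (Nat.lor dL0_pi_p52 (Nat.shiftLeft dL0_pi_p53 15997)) (Nat.shiftLeft (Nat.lor dL0_pi_p54 (Nat.shiftLeft dL0_pi_p55 15997)) 31994))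 63988)) (Nat.shiftLeft (Nat.lor (Nat.lor (Nat.lor dL0_pi_p56 (Nat.shiftLeft dL0_pi_p57 15997)) (Nat.shiftLeft (Nat.lor dL0_pi_p58 (Nat.shiftLeft dL0_pi_p59 15997)) 31994)) (Nat.shiftLeft (Nat.lor (Nat.lor dL0_pi_p60 (Nat.shiftLeft dL0_pi_p61 15997)) (Nat.shiftLeft (Nat.lor dL0_pi_p62 (Nat.shiftLeft (Nat.lor dL0_pi_p63 (Nat.shiftLeft dL0_pi_p64 15997)) 15997)) 31994)) 63988)) 127976)) 255952)) 511904)) (Nat.shiftLeft (Nat.lor (Nat.lor (Nat.lor (Nat.lor (Nat.lor (Nat.lor dL0_pi_p65 (Nat.shiftLeft dL0_pi_p66 15997)) (Nat.shiftLeft (Nat.lor dL0_pi_p67 (Nat.shiftLeft dL0_pi_p68 15997)) 31994)) (Nat.shiftLeft (Nat.lor (Nat.lor dL0_pi_p69 (Nat.shiftLeft dL0_pi_p70 15997)) (Nat.shiftLeft (Nat.lor dL0_pi_p71 (Nat.shiftLeft dL0_pi_p72 15997)) 31994)) 63988)) (Nat.shiftLeft (Nat.lor (Nat.lor (Nat.lor dL0_pi_p73 (Nat.shiftLeft dL0_pi_p74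 15997)) (Nat.shiftLeft (Nat.lor dL0_pi_p75 (Nat.shiftLeft dL0_pi_p76 15997)) 31994)) (Nat.shiftLeft (Nat.lor (Nat.lor dL0_pi_p77 (Nat.shiftLeft dL0_pi_p78 15997)) (Nat.shiftLeft (Nat.lor dL0_pi_p79 (Nat.shiftLeft dL0_pi_p80 15997)) 31994)) 63988)) 127976)) (Nat.shiftLeft (Nat.lor (Nat.lor (Nat.lor (Nat.lor dL0_pi_p81 (Nat.shiftLeft dL0_pi_p82 15997)) (Nat.shiftLeft (Nat.lor dL0_pi_p83 (Nat.shiftLeft dL0_pi_p84 15997)) 31994)) (Nat.shiftLeft (Nat.lor (Nat.lor dL0_pi_p85 (Nat.shiftLeft dL0_pi_p86 15997)) (Nat.shiftLeft (Nat.lor dL0_pi_p87 (Nat.shiftLeft dL0_pi_p88 15997)) 31994)) 63988)) (Nat.shiftLeft (Nat.lor (Nat.lor (Nat.lor dL0_pi_p89 (Nat.shiftLeft dL0_pi_p90 15997)) (Nat.shiftLeft (Nat.lor dL0_pi_p91 (Nat.shiftLeft dL0_pi_p92 15997)) 31994)) (Nat.shiftLeft (Nat.lor (Nat.lor dL0_pi_p93 (Nat.shiftLeft dL0_pi_p94 15997))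 (Nat.shiftLeft (Nat.lor dL0_pi_p95 (Nat.shiftLeft (Nat.lor dL0_pi_p96 (Nat.shiftLeft dL0_pi_p97 15997)) 15997)) 31994)) 63988)) 127976)) 255952)) (Nat.shiftLeft (Nat.lor (Nat.lor (Nat.lor (Nat.lor (Nat.lor dL0_pi_p98 (Nat.shiftLeft dL0_pi_p99 15997)) (Nat.shiftLeft (Nat.lor dL0_pi_p100 (Nat.shiftLeft dL0_pi_p101 15997)) 31994)) (Nat.shiftLeft (Nat.lor (Nat.lor dL0_pi_p102 (Nat.shiftLeft dL0_pi_p103 15997)) (Nat.shiftLeft (Nat.lor dL0_pi_p104 (Nat.shiftLeft dL0_pi_p105 15997)) 31994)) 63988)) (Nat.shiftLeft (Nat.lor (Nat.lor (Nat.lor dL0_pi_p106 (Nat.shiftLeft dL0_pi_p107 15997)) (Nat.shiftLeft (Nat.lor dL0_pi_p108 (Nat.shiftLeft dL0_pi_p109 15997)) 31994)) (Nat.shiftLeft (Nat.lor (Nat.lor dL0_pi_p110 (Nat.shiftLeft dL0_pi_p111 15997)) (Nat.shiftLeft (Nat.lor dL0_pi_p112 (Nat.shiftLeft dL0_pi_p113 15997)) 31994)) 63988)) 127976))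 (Nat.shiftLeft (Nat.lor (Nat.lor (Nat.lor (Nat.lor dL0_pi_p114 (Nat.shiftLeft dL0_pi_p115 15997)) (Nat.shiftLeft (Nat.lor dL0_pi_p116 (Nat.shiftLeft dL0_pi_p117 15997)) 31994)) (Nat.shiftLeft (Nat.lor (Nat.lor dL0_pi_p118 (Nat.shiftLeft dL0_pi_p119 15997)) (Nat.shiftLeft (Nat.lor dL0_pi_p120 (Nat.shiftLeft dL0_pi_p121 15997)) 31994)) 63988)) (Nat.shiftLeft (Nat.lor (Nat.lor (Nat.lor dL0_pi_p122 (Nat.shiftLeft dL0_pi_p123 15997)) (Nat.shiftLeft (Nat.lor dL0_pi_p124 (Nat.shiftLeft dL0_pi_p125 15997)) 31994)) (Nat.shiftLeft (Nat.lor (Nat.lor dL0_pi_p126 (Nat.shiftLeft dL0_pi_p127 15997)) (Nat.shiftLeft (Nat.lor dL0_pi_p128 (Nat.shiftLeft (Nat.lor dL0_pi_p129 (Nat.shiftLeft dL0_pi_p130 15997)) 15997)) 31994)) 63988)) 127976)) 255952)) 527901)) 1039805))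
noncomputable def dL0_pi_M1 : Nat := Nat.sub (Nat.shiftLeft 1 69632) 1
noncomputable def dL0_pi_M2 : Nat := Nat.sub (Nat.shiftLeft 1 544) 1
noncomputable def dL0_pi_L1 (b : Nat) : Nat := Nat.land (Nat.shiftRight dL0_pi_T (Nat.mul b 69632)) dL0_pi_M1
noncomputable def dL0_pi_L2 (b : Nat) : Nat :=
  force (Nat.shiftRight b 7) fun c => Nat.land (Nat.shiftRight (dL0_pi_L1 c) (Nat.mul (Nat.land b 127) 544)) dL0_pi_M2
noncomputable def dL0_pi (p : Nat) : Nat :=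
  force (Nat.shiftRight p 5) fun c => Nat.land (Nat.shiftRight (dL0_pi_L2 c) (Nat.mul (Nat.land p 31) 17)) 131071

noncomputable def dL0_tr_T : Nat := (Nat.lor (Nat.lor (Nat.lor (Nat.lor (Nat.lor (Nat.lor (Nat.lor dL0_tr_p0 (Nat.shiftLeft dL0_tr_p1 16000)) (Nat.shiftLeft (Nat.lor dL0_tr_p2 (Nat.shiftLeft dL0_tr_p3 16000)) 32000)) (Nat.shiftLeft (Nat.lor (Nat.lor dL0_tr_p4 (Nat.shiftLeft dL0_tr_p5 16000)) (Nat.shiftLeft (Nat.lor dL0_tr_p6 (Nat.shiftLeft (Nat.lor dL0_tr_p7 (Nat.shiftLeft dL0_tr_p8 16000)) 16000)) 32000)) 64000)) (Nat.shiftLeft (Nat.lor (Nat.lor (Nat.lor dL0_tr_p9 (Nat.shiftLeft dL0_tr_p10 16000)) (Nat.shiftLeft (Nat.lor dL0_tr_p11 (Nat.shiftLeft (Nat.lor dL0_tr_p12 (Nat.shiftLeft dL0_tr_p13 16000)) 16000)) 32000)) (Nat.shiftLeft (Nat.lor (Nat.lor dL0_tr_p14 (Nat.shiftLeft dL0_tr_p15 16000)) (Nat.shiftLeft (Nat.lor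 dL0_tr_p16 (Nat.shiftLeft (Nat.lor dL0_tr_p17 (Nat.shiftLeft dL0_tr_p18 16000)) 16000)) 32000)) 80000)) 144000)) (Nat.shiftLeft (Nat.lor (Nat.lor (Nat.lor (Nat.lor dL0_tr_p19 (Nat.shiftLeft dL0_tr_p20 16000)) (Nat.shiftLeft (Nat.lor dL0_tr_p21 (Nat.shiftLeft dL0_tr_p22 16000)) 32000)) (Nat.shiftLeft (Nat.lor (Nat.lor dL0_tr_p23 (Nat.shiftLeft dL0_tr_p24 16000)) (Nat.shiftLeft (Nat.lor dL0_tr_p25 (Nat.shiftLeft (Nat.lor dL0_tr_p26 (Nat.shiftLeft dL0_tr_p27 16000)) 16000)) 32000)) 64000)) (Nat.shiftLeft (Nat.lor (Nat.lor (Nat.lor dL0_tr_p28 (Nat.shiftLeft dL0_tr_p29 16000)) (Nat.shiftLeft (Nat.lor dL0_tr_p30 (Nat.shiftLeft (Nat.lor dL0_tr_p31 (Nat.shiftLeft dL0_tr_p32 16000)) 16000)) 32000)) (Nat.shiftLeft (Nat.lor (Nat.lor dL0_tr_p33 (Nat.shiftLeft dL0_tr_p34 16000)) (Nat.shiftLeft (Nat.lor dL0_tr_p35 (Nat.shiftLeft (Nat.lor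 dL0_tr_p36 (Nat.shiftLeft dL0_tr_p37 16000)) 16000)) 32000)) 80000)) 144000)) 304000)) (Nat.shiftLeft (Nat.lor (Nat.lor (Nat.lor (Nat.lor (Nat.lor dL0_tr_p38 (Nat.shiftLeft dL0_tr_p39 16000)) (Nat.shiftLeft (Nat.lor dL0_tr_p40 (Nat.shiftLeft dL0_tr_p41 16000)) 32000)) (Nat.shiftLeft (Nat.lor (Nat.lor dL0_tr_p42 (Nat.shiftLeft dL0_tr_p43 16000)) (Nat.shiftLeft (Nat.lor dL0_tr_p44 (Nat.shiftLeft (Nat.lor dL0_tr_p45 (Nat.shiftLeft dL0_tr_p46 16000)) 16000)) 32000)) 64000)) (Nat.shiftLeft (Nat.lor (Nat.lor (Nat.lor dL0_tr_p47 (Nat.shiftLeft dL0_tr_p48 16000)) (Nat.shiftLeft (Nat.lor dL0_tr_p49 (Nat.shiftLeft (Nat.lor dL0_tr_p50 (Nat.shiftLeft dL0_tr_p51 16000)) 16000)) 32000)) (Nat.shiftLeft (Nat.lor (Nat.lor dL0_tr_p52 (Nat.shiftLeft dL0_tr_p53 16000)) (Nat.shiftLeft (Nat.lor dL0_tr_p54 (Nat.shiftLeft (Nat.lor dL0_tr_p55 (Nat.shiftLeft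 dL0_tr_p56 16000)) 16000)) 32000)) 80000)) 144000)) (Nat.shiftLeft (Nat.lor (Nat.lor (Nat.lor (Nat.lor dL0_tr_p57 (Nat.shiftLeft dL0_tr_p58 16000)) (Nat.shiftLeft (Nat.lor dL0_tr_p59 (Nat.shiftLeft (Nat.lor dL0_tr_p60 (Nat.shiftLeft dL0_tr_p61 16000)) 16000)) 32000)) (Nat.shiftLeft (Nat.lor (Nat.lor dL0_tr_p62 (Nat.shiftLeft dL0_tr_p63 16000)) (Nat.shiftLeft (Nat.lor dL0_tr_p64 (Nat.shiftLeft (Nat.lor dL0_tr_p65 (Nat.shiftLeft dL0_tr_p66 16000)) 16000)) 32000)) 80000)) (Nat.shiftLeft (Nat.lor (Nat.lor (Nat.lor dL0_tr_p67 (Nat.shiftLeft dL0_tr_p68 16000)) (Nat.shiftLeft (Nat.lor dL0_tr_p69 (Nat.shiftLeft (Nat.lor dL0_tr_p70 (Nat.shiftLeft dL0_tr_p71 16000)) 16000)) 32000)) (Nat.shiftLeft (Nat.lor (Nat.lor dL0_tr_p72 (Nat.shiftLeft dL0_tr_p73 16000)) (Nat.shiftLeft (Nat.lor dL0_tr_p74 (Nat.shiftLeft (Nat.lor dL0_tr_p75 (Nat.shiftLeft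 dL0_tr_p76 16000)) 16000)) 32000)) 80000)) 160000)) 304000)) 608000)) (Nat.shiftLeft (Nat.lor (Nat.lor (Nat.lor (Nat.lor (Nat.lor (Nat.lor dL0_tr_p77 (Nat.shiftLeft dL0_tr_p78 16000)) (Nat.shiftLeft (Nat.lor dL0_tr_p79 (Nat.shiftLeft dL0_tr_p80 16000)) 32000)) (Nat.shiftLeft (Nat.lor (Nat.lor dL0_tr_p81 (Nat.shiftLeft dL0_tr_p82 16000)) (Nat.shiftLeft (Nat.lor dL0_tr_p83 (Nat.shiftLeft (Nat.lor dL0_tr_p84 (Nat.shiftLeft dL0_tr_p85 16000)) 16000)) 32000)) 64000)) (Nat.shiftLeft (Nat.lor (Nat.lor (Nat.lor dL0_tr_p86 (Nat.shiftLeft dL0_tr_p87 16000)) (Nat.shiftLeft (Nat.lor dL0_tr_p88 (Nat.shiftLeft (Nat.lor dL0_tr_p89 (Nat.shiftLeft dL0_tr_p90 16000)) 16000)) 32000)) (Nat.shiftLeft (Nat.lor (Nat.lor dL0_tr_p91 (Nat.shiftLeft dL0_tr_p92 16000)) (Nat.shiftLeft (Nat.lor dL0_tr_p93 (Nat.shiftLeft (Nat.lor dL0_tr_p94 (Nat.shiftLeft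 dL0_tr_p95 16000)) 16000)) 32000)) 80000)) 144000)) (Nat.shiftLeft (Nat.lor (Nat.lor (Nat.lor (Nat.lor dL0_tr_p96 (Nat.shiftLeft dL0_tr_p97 16000)) (Nat.shiftLeft (Nat.lor dL0_tr_p98 (Nat.shiftLeft dL0_tr_p99 16000)) 32000)) (Nat.shiftLeft (Nat.lor (Nat.lor dL0_tr_p100 (Nat.shiftLeft dL0_tr_p101 16000)) (Nat.shiftLeft (Nat.lor dL0_tr_p102 (Nat.shiftLeft (Nat.lor dL0_tr_p103 (Nat.shiftLeft dL0_tr_p104 16000)) 16000)) 32000)) 64000)) (Nat.shiftLeft (Nat.lor (Nat.lor (Nat.lor dL0_tr_p105 (Nat.shiftLeft dL0_tr_p106 16000)) (Nat.shiftLeft (Nat.lor dL0_tr_p107 (Nat.shiftLeft (Nat.lor dL0_tr_p108 (Nat.shiftLeft dL0_tr_p109 16000)) 16000)) 32000)) (Nat.shiftLeft (Nat.lor (Nat.lor dL0_tr_p110 (Nat.shiftLeft dL0_tr_p111 16000)) (Nat.shiftLeft (Nat.lor dL0_tr_p112 (Nat.shiftLeft (Nat.lor dL0_tr_p113 (Nat.shiftLeft dL0_tr_p114 16000))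 16000)) 32000)) 80000)) 144000)) 304000)) (Nat.shiftLeft (Nat.lor (Nat.lor (Nat.lor (Nat.lor (Nat.lor dL0_tr_p115 (Nat.shiftLeft dL0_tr_p116 16000)) (Nat.shiftLeft (Nat.lor dL0_tr_p117 (Nat.shiftLeft dL0_tr_p118 16000)) 32000)) (Nat.shiftLeft (Nat.lor (Nat.lor dL0_tr_p119 (Nat.shiftLeft dL0_tr_p120 16000)) (Nat.shiftLeft (Nat.lor dL0_tr_p121 (Nat.shiftLeft (Nat.lor dL0_tr_p122 (Nat.shiftLeft dL0_tr_p123 16000)) 16000)) 32000)) 64000)) (Nat.shiftLeft (Nat.lor (Nat.lor (Nat.lor dL0_tr_p124 (Nat.shiftLeft dL0_tr_p125 16000)) (Nat.shiftLeft (Nat.lor dL0_tr_p126 (Nat.shiftLeft (Nat.lor dL0_tr_p127 (Nat.shiftLeft dL0_tr_p128 16000)) 16000)) 32000)) (Nat.shiftLeft (Nat.lor (Nat.lor dL0_tr_p129 (Nat.shiftLeft dL0_tr_p130 16000)) (Nat.shiftLeft (Nat.lor dL0_tr_p131 (Nat.shiftLeft (Nat.lor dL0_tr_p132 (Nat.shiftLeft dL0_tr_p133 16000))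 16000)) 32000)) 80000)) 144000)) (Nat.shiftLeft (Nat.lor (Nat.lor (Nat.lor (Nat.lor dL0_tr_p134 (Nat.shiftLeft dL0_tr_p135 16000)) (Nat.shiftLeft (Nat.lor dL0_tr_p136 (Nat.shiftLeft (Nat.lor dL0_tr_p137 (Nat.shiftLeft dL0_tr_p138 16000)) 16000)) 32000)) (Nat.shiftLeft (Nat.lor (Nat.lor dL0_tr_p139 (Nat.shiftLeft dL0_tr_p140 16000)) (Nat.shiftLeft (Nat.lor dL0_tr_p141 (Nat.shiftLeft (Nat.lor dL0_tr_p142 (Nat.shiftLeft dL0_tr_p143 16000)) 16000)) 32000)) 80000)) (Nat.shiftLeft (Nat.lor (Nat.lor (Nat.lor dL0_tr_p144 (Nat.shiftLeft dL0_tr_p145 16000)) (Nat.shiftLeft (Nat.lor dL0_tr_p146 (Nat.shiftLeft (Nat.lor dL0_tr_p147 (Nat.shiftLeft dL0_tr_p148 16000)) 16000)) 32000)) (Nat.shiftLeft (Nat.lor (Nat.lor dL0_tr_p149 (Nat.shiftLeft dL0_tr_p150 16000)) (Nat.shiftLeft (Nat.lor dL0_tr_p151 (Nat.shiftLeft (Nat.lor dL0_tr_p152 (Nat.shiftLeft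 dL0_tr_p153 16000)) 16000)) 32000)) 80000)) 160000)) 304000)) 608000)) 1232000))
noncomputable def dL0_tr_M1 : Nat := Nat.sub (Nat.shiftLeft 1 81920) 1
noncomputable def dL0_tr_M2 : Nat := Nat.sub (Nat.shiftLeft 1 640) 1
noncomputable def dL0_tr_L1 (b : Nat) : Nat := Nat.land (Nat.shiftRight dL0_tr_T (Nat.mul b 81920)) dL0_tr_M1
noncomputable def dL0_tr_L2 (b : Nat) : Nat :=
  force (Nat.shiftRight b 7) fun c => Nat.land (Nat.shiftRight (dL0_tr_L1 c) (Nat.mul (Nat.land b 127) 640)) dL0_tr_M2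
noncomputable def dL0_tr (p : Nat) : Nat :=
  force (Nat.shiftRight p 5) fun c => Nat.land (Nat.shiftRight (dL0_tr_L2 c) (Nat.mul (Nat.land p 31) 20)) 1048575

noncomputable def dL0 : LevD := ⟨0, 122760, 8, 0, dL0_pt, dL0_pi, dL0_tr⟩

noncomputable def dL1_pt_T : Nat := (Nat.lor (Nat.lor (Nat.lor (Nat.lor (Nat.lor dL1_pt_p0 (Nat.shiftLeft (Nat.lor dL1_pt_p1 (Nat.shiftLeft dL1_pt_p2 15997)) 15997)) (Nat.shiftLeft (Nat.lor (Nat.lor dL1_pt_p3 (Nat.shiftLeft dL1_pt_p4 15997)) (Nat.shiftLeft (Nat.lor dL1_pt_p5 (Nat.shiftLeft dL1_pt_p6 15997)) 31994)) 47991)) (Nat.shiftLeft (Nat.lor (Nat.lor (Nat.lor dL1_pt_p7 (Nat.shiftLeft dL1_pt_p8 15997)) (Nat.shiftLeft (Nat.lor dL1_pt_p9 (Nat.shiftLeft dL1_pt_p10 15997)) 31994)) (Nat.shiftLeft (Nat.lor (Nat.lor dL1_pt_p11 (Nat.shiftLeft dL1_pt_p12 15997)) (Nat.shiftLeft (Nat.lor dL1_pt_p13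 (Nat.shiftLeft dL1_pt_p14 15997)) 31994)) 63988)) 111979)) (Nat.shiftLeft (Nat.lor (Nat.lor (Nat.lor (Nat.lor dL1_pt_p15 (Nat.shiftLeft dL1_pt_p16 15997)) (Nat.shiftLeft (Nat.lor dL1_pt_p17 (Nat.shiftLeft dL1_pt_p18 15997)) 31994)) (Nat.shiftLeft (Nat.lor (Nat.lor dL1_pt_p19 (Nat.shiftLeft dL1_pt_p20 15997)) (Nat.shiftLeft (Nat.lor dL1_pt_p21 (Nat.shiftLeft dL1_pt_p22 15997)) 31994)) 63988)) (Nat.shiftLeft (Nat.lor (Nat.lor (Nat.lor dL1_pt_p23 (Nat.shiftLeft dL1_pt_p24 15997)) (Nat.shiftLeft (Nat.lor dL1_pt_p25 (Nat.shiftLeft dL1_pt_p26 15997)) 31994)) (Nat.shiftLeft (Nat.lor (Nat.lor dL1_pt_p27 (Nat.shiftLeft dL1_pt_p28 15997)) (Nat.shiftLeft (Nat.lor dL1_pt_p29 (Nat.shiftLeft dL1_pt_p30 15997)) 31994)) 63988)) 127976)) 239955)) (Nat.shiftLeft (Nat.lor (Nat.lor (Nat.lor (Nat.lor (Nat.lor dL1_pt_p31 (Nat.shiftLeft dL1_pt_p32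 15997)) (Nat.shiftLeft (Nat.lor dL1_pt_p33 (Nat.shiftLeft dL1_pt_p34 15997)) 31994)) (Nat.shiftLeft (Nat.lor (Nat.lor dL1_pt_p35 (Nat.shiftLeft dL1_pt_p36 15997)) (Nat.shiftLeft (Nat.lor dL1_pt_p37 (Nat.shiftLeft dL1_pt_p38 15997)) 31994)) 63988)) (Nat.shiftLeft (Nat.lor (Nat.lor (Nat.lor dL1_pt_p39 (Nat.shiftLeft dL1_pt_p40 15997)) (Nat.shiftLeft (Nat.lor dL1_pt_p41 (Nat.shiftLeft dL1_pt_p42 15997)) 31994)) (Nat.shiftLeft (Nat.lor (Nat.lor dL1_pt_p43 (Nat.shiftLeft dL1_pt_p44 15997)) (Nat.shiftLeft (Nat.lor dL1_pt_p45 (Nat.shiftLeft dL1_pt_p46 15997)) 31994)) 63988)) 127976)) (Nat.shiftLeft (Nat.lor (Nat.lor (Nat.lor (Nat.lor dL1_pt_p47 (Nat.shiftLeft dL1_pt_p48 15997)) (Nat.shiftLeft (Nat.lor dL1_pt_p49 (Nat.shiftLeft dL1_pt_p50 15997)) 31994)) (Nat.shiftLeft (Nat.lor (Nat.lor dL1_pt_p51 (Nat.shiftLeft dL1_pt_p52 15997))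 (Nat.shiftLeft (Nat.lor dL1_pt_p53 (Nat.shiftLeft dL1_pt_p54 15997)) 31994)) 63988)) (Nat.shiftLeft (Nat.lor (Nat.lor (Nat.lor dL1_pt_p55 (Nat.shiftLeft dL1_pt_p56 15997)) (Nat.shiftLeft (Nat.lor dL1_pt_p57 (Nat.shiftLeft dL1_pt_p58 15997)) 31994)) (Nat.shiftLeft (Nat.lor (Nat.lor dL1_pt_p59 (Nat.shiftLeft dL1_pt_p60 15997)) (Nat.shiftLeft (Nat.lor dL1_pt_p61 (Nat.shiftLeft dL1_pt_p62 15997)) 31994)) 63988)) 127976)) 255952)) 495907))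
noncomputable def dL1_pt_M1 : Nat := Nat.sub (Nat.shiftLeft 1 69632) 1
noncomputable def dL1_pt_M2 : Nat := Nat.sub (Nat.shiftLeft 1 544) 1
noncomputable def dL1_pt_L1 (b : Nat) : Nat := Nat.land (Nat.shiftRight dL1_pt_T (Nat.mul b 69632)) dL1_pt_M1
noncomputable def dL1_pt_L2 (b : Nat) : Nat :=
  force (Nat.shiftRight b 7) fun c => Nat.land (Nat.shiftRight (dL1_pt_L1 c) (Nat.mul (Nat.land b 127) 544)) dL1_pt_M2
noncomputable def dL1_pt (p : Nat) : Nat :=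
  force (Nat.shiftRight p 5) fun c => Nat.land (Nat.shiftRight (dL1_pt_L2 c) (Nat.mul (Nat.land p 31) 17)) 131071

noncomputable def dL1_pi_T : Nat := (Nat.lor (Nat.lor (Nat.lor (Nat.lor (Nat.lor (Nat.lor dL1_pi_p0 (Nat.shiftLeft (Nat.lor dL1_pi_p1 (Nat.shiftLeft dL1_pi_p2 16000)) 16000)) (Nat.shiftLeft (Nat.lor (Nat.lor dL1_pi_p3 (Nat.shiftLeft dL1_pi_p4 16000)) (Nat.shiftLeft (Nat.lor dL1_pi_p5 (Nat.shiftLeft dL1_pi_p6 16000)) 32000)) 48000)) (Nat.shiftLeft (Nat.lor (Nat.lor (Nat.lor dL1_pi_p7 (Nat.shiftLeft dL1_pi_p8 16000)) (Nat.shiftLeft (Nat.lor dL1_pi_p9 (Nat.shiftLeft dL1_pi_p10 16000)) 32000)) (Nat.shiftLeft (Nat.lor (Nat.lor dL1_pi_p11 (Nat.shiftLeft dL1_pi_p12 16000)) (Nat.shiftLeft (Nat.lor dL1_pi_p13 (Nat.shiftLeft dL1_pi_p14 16000)) 32000)) 64000)) 112000)) (Nat.shiftLeft (Nat.lor (Nat.lor (Nat.lor dL1_pi_p15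 (Nat.shiftLeft (Nat.lor dL1_pi_p16 (Nat.shiftLeft dL1_pi_p17 16000)) 16000)) (Nat.shiftLeft (Nat.lor (Nat.lor dL1_pi_p18 (Nat.shiftLeft dL1_pi_p19 16000)) (Nat.shiftLeft (Nat.lor dL1_pi_p20 (Nat.shiftLeft dL1_pi_p21 16000)) 32000)) 48000)) (Nat.shiftLeft (Nat.lor (Nat.lor (Nat.lor dL1_pi_p22 (Nat.shiftLeft dL1_pi_p23 16000)) (Nat.shiftLeft (Nat.lor dL1_pi_p24 (Nat.shiftLeft dL1_pi_p25 16000)) 32000)) (Nat.shiftLeft (Nat.lor (Nat.lor dL1_pi_p26 (Nat.shiftLeft dL1_pi_p27 16000)) (Nat.shiftLeft (Nat.lor dL1_pi_p28 (Nat.shiftLeft dL1_pi_p29 16000)) 32000)) 64000)) 112000)) 240000)) (Nat.shiftLeft (Nat.lor (Nat.lor (Nat.lor (Nat.lor dL1_pi_p30 (Nat.shiftLeft (Nat.lor dL1_pi_p31 (Nat.shiftLeft dL1_pi_p32 16000)) 16000)) (Nat.shiftLeft (Nat.lor (Nat.lor dL1_pi_p33 (Nat.shiftLeft dL1_pi_p34 16000)) (Nat.shiftLeft (Nat.lor dL1_pi_p35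 (Nat.shiftLeft dL1_pi_p36 16000)) 32000)) 48000)) (Nat.shiftLeft (Nat.lor (Nat.lor (Nat.lor dL1_pi_p37 (Nat.shiftLeft dL1_pi_p38 16000)) (Nat.shiftLeft (Nat.lor dL1_pi_p39 (Nat.shiftLeft dL1_pi_p40 16000)) 32000)) (Nat.shiftLeft (Nat.lor (Nat.lor dL1_pi_p41 (Nat.shiftLeft dL1_pi_p42 16000)) (Nat.shiftLeft (Nat.lor dL1_pi_p43 (Nat.shiftLeft dL1_pi_p44 16000)) 32000)) 64000)) 112000)) (Nat.shiftLeft (Nat.lor (Nat.lor (Nat.lor (Nat.lor dL1_pi_p45 (Nat.shiftLeft dL1_pi_p46 16000)) (Nat.shiftLeft (Nat.lor dL1_pi_p47 (Nat.shiftLeft dL1_pi_p48 16000)) 32000)) (Nat.shiftLeft (Nat.lor (Nat.lor dL1_pi_p49 (Nat.shiftLeft dL1_pi_p50 16000)) (Nat.shiftLeft (Nat.lor dL1_pi_p51 (Nat.shiftLeft dL1_pi_p52 16000)) 32000)) 64000)) (Nat.shiftLeft (Nat.lor (Nat.lor (Nat.lor dL1_pi_p53 (Nat.shiftLeft dL1_pi_p54 16000)) (Nat.shiftLeft (Nat.lor dL1_pi_p55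 (Nat.shiftLeft dL1_pi_p56 16000)) 32000)) (Nat.shiftLeft (Nat.lor (Nat.lor dL1_pi_p57 (Nat.shiftLeft dL1_pi_p58 16000)) (Nat.shiftLeft (Nat.lor dL1_pi_p59 (Nat.shiftLeft dL1_pi_p60 16000)) 32000)) 64000)) 128000)) 240000)) 480000)) (Nat.shiftLeft (Nat.lor (Nat.lor (Nat.lor (Nat.lor (Nat.lor dL1_pi_p61 (Nat.shiftLeft (Nat.lor dL1_pi_p62 (Nat.shiftLeft dL1_pi_p63 16000)) 16000)) (Nat.shiftLeft (Nat.lor (Nat.lor dL1_pi_p64 (Nat.shiftLeft dL1_pi_p65 16000)) (Nat.shiftLeft (Nat.lor dL1_pi_p66 (Nat.shiftLeft dL1_pi_p67 16000)) 32000)) 48000)) (Nat.shiftLeft (Nat.lor (Nat.lor (Nat.lor dL1_pi_p68 (Nat.shiftLeft dL1_pi_p69 16000)) (Nat.shiftLeft (Nat.lor dL1_pi_p70 (Nat.shiftLeft dL1_pi_p71 16000)) 32000)) (Nat.shiftLeft (Nat.lor (Nat.lor dL1_pi_p72 (Nat.shiftLeft dL1_pi_p73 16000)) (Nat.shiftLeft (Nat.lor dL1_pi_p74 (Nat.shiftLeft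 dL1_pi_p75 16000)) 32000)) 64000)) 112000)) (Nat.shiftLeft (Nat.lor (Nat.lor (Nat.lor (Nat.lor dL1_pi_p76 (Nat.shiftLeft dL1_pi_p77 16000)) (Nat.shiftLeft (Nat.lor dL1_pi_p78 (Nat.shiftLeft dL1_pi_p79 16000)) 32000)) (Nat.shiftLeft (Nat.lor (Nat.lor dL1_pi_p80 (Nat.shiftLeft dL1_pi_p81 16000)) (Nat.shiftLeft (Nat.lor dL1_pi_p82 (Nat.shiftLeft dL1_pi_p83 16000)) 32000)) 64000)) (Nat.shiftLeft (Nat.lor (Nat.lor (Nat.lor dL1_pi_p84 (Nat.shiftLeft dL1_pi_p85 16000)) (Nat.shiftLeft (Nat.lor dL1_pi_p86 (Nat.shiftLeft dL1_pi_p87 16000)) 32000)) (Nat.shiftLeft (Nat.lor (Nat.lor dL1_pi_p88 (Nat.shiftLeft dL1_pi_p89 16000)) (Nat.shiftLeft (Nat.lor dL1_pi_p90 (Nat.shiftLeft dL1_pi_p91 16000)) 32000)) 64000)) 128000)) 240000)) (Nat.shiftLeft (Nat.lor (Nat.lor (Nat.lor (Nat.lor dL1_pi_p92 (Nat.shiftLeft (Nat.lor dL1_pi_p93 (Nat.shiftLeft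 dL1_pi_p94 16000)) 16000)) (Nat.shiftLeft (Nat.lor (Nat.lor dL1_pi_p95 (Nat.shiftLeft dL1_pi_p96 16000)) (Nat.shiftLeft (Nat.lor dL1_pi_p97 (Nat.shiftLeft dL1_pi_p98 16000)) 32000)) 48000)) (Nat.shiftLeft (Nat.lor (Nat.lor (Nat.lor dL1_pi_p99 (Nat.shiftLeft dL1_pi_p100 16000)) (Nat.shiftLeft (Nat.lor dL1_pi_p101 (Nat.shiftLeft dL1_pi_p102 16000)) 32000)) (Nat.shiftLeft (Nat.lor (Nat.lor dL1_pi_p103 (Nat.shiftLeft dL1_pi_p104 16000)) (Nat.shiftLeft (Nat.lor dL1_pi_p105 (Nat.shiftLeft dL1_pi_p106 16000)) 32000)) 64000)) 112000)) (Nat.shiftLeft (Nat.lor (Nat.lor (Nat.lor (Nat.lor dL1_pi_p107 (Nat.shiftLeft dL1_pi_p108 16000)) (Nat.shiftLeft (Nat.lor dL1_pi_p109 (Nat.shiftLeft dL1_pi_p110 16000)) 32000)) (Nat.shiftLeft (Nat.lor (Nat.lor dL1_pi_p111 (Nat.shiftLeft dL1_pi_p112 16000)) (Nat.shiftLeft (Nat.lor dL1_pi_p113 (Nat.shiftLeft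 dL1_pi_p114 16000)) 32000)) 64000)) (Nat.shiftLeft (Nat.lor (Nat.lor (Nat.lor dL1_pi_p115 (Nat.shiftLeft dL1_pi_p116 16000)) (Nat.shiftLeft (Nat.lor dL1_pi_p117 (Nat.shiftLeft dL1_pi_p118 16000)) 32000)) (Nat.shiftLeft (Nat.lor (Nat.lor dL1_pi_p119 (Nat.shiftLeft dL1_pi_p120 16000)) (Nat.shiftLeft (Nat.lor dL1_pi_p121 (Nat.shiftLeft dL1_pi_p122 16000)) 32000)) 64000)) 128000)) 240000)) 496000)) 976000))
noncomputable def dL1_pi_M1 : Nat := Nat.sub (Nat.shiftLeft 1 65536) 1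
noncomputable def dL1_pi_M2 : Nat := Nat.sub (Nat.shiftLeft 1 512) 1
noncomputable def dL1_pi_L1 (b : Nat) : Nat := Nat.land (Nat.shiftRight dL1_pi_T (Nat.mul b 65536)) dL1_pi_M1
noncomputable def dL1_pi_L2 (b : Nat) : Nat :=
  force (Nat.shiftRight b 7) fun c => Nat.land (Nat.shiftRight (dL1_pi_L1 c) (Nat.mul (Nat.land b 127) 512)) dL1_pi_M2
noncomputable def dL1_pi (p : Nat) : Nat :=
  force (Nat.shiftRight p 5) fun c => Nat.land (Nat.shiftRight (dL1_pi_L2 c) (Nat.mul (Nat.land p 31) 16)) 65535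

noncomputable def dL1_tr_T : Nat := (Nat.lor (Nat.lor (Nat.lor (Nat.lor (Nat.lor (Nat.lor dL1_tr_p0 (Nat.shiftLeft dL1_tr_p1 15998)) (Nat.shiftLeft (Nat.lor dL1_tr_p2 (Nat.shiftLeft dL1_tr_p3 15998)) 31996)) (Nat.shiftLeft (Nat.lor (Nat.lor dL1_tr_p4 (Nat.shiftLeft dL1_tr_p5 15998)) (Nat.shiftLeft (Nat.lor dL1_tr_p6 (Nat.shiftLeft dL1_tr_p7 15998)) 31996)) 63992)) (Nat.shiftLeft (Nat.lor (Nat.lor (Nat.lor dL1_tr_p8 (Nat.shiftLeft dL1_tr_p9 15998)) (Nat.shiftLeft (Nat.lor dL1_tr_p10 (Nat.shiftLeft dL1_tr_p11 15998)) 31996)) (Nat.shiftLeft (Nat.lor (Nat.lor dL1_tr_p12 (Nat.shiftLeft dL1_tr_p13 15998)) (Nat.shiftLeft (Nat.lor dL1_tr_p14 (Nat.shiftLeft (Nat.lor dL1_tr_p15 (Nat.shiftLeft dL1_tr_p16 15998)) 15998)) 31996)) 63992)) 127984)) (Nat.shiftLeft (Nat.lor (Nat.lor (Nat.lor (Nat.lor dL1_tr_p17 (Nat.shiftLeft dL1_tr_p18 15998))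 (Nat.shiftLeft (Nat.lor dL1_tr_p19 (Nat.shiftLeft dL1_tr_p20 15998)) 31996)) (Nat.shiftLeft (Nat.lor (Nat.lor dL1_tr_p21 (Nat.shiftLeft dL1_tr_p22 15998)) (Nat.shiftLeft (Nat.lor dL1_tr_p23 (Nat.shiftLeft (Nat.lor dL1_tr_p24 (Nat.shiftLeft dL1_tr_p25 15998)) 15998)) 31996)) 63992)) (Nat.shiftLeft (Nat.lor (Nat.lor (Nat.lor dL1_tr_p26 (Nat.shiftLeft dL1_tr_p27 15998)) (Nat.shiftLeft (Nat.lor dL1_tr_p28 (Nat.shiftLeft dL1_tr_p29 15998)) 31996)) (Nat.shiftLeft (Nat.lor (Nat.lor dL1_tr_p30 (Nat.shiftLeft dL1_tr_p31 15998)) (Nat.shiftLeft (Nat.lor dL1_tr_p32 (Nat.shiftLeft (Nat.lor dL1_tr_p33 (Nat.shiftLeft dL1_tr_p34 15998)) 15998)) 31996)) 63992)) 143982)) 271966)) (Nat.shiftLeft (Nat.lor (Nat.lor (Nat.lor (Nat.lor (Nat.lor dL1_tr_p35 (Nat.shiftLeft dL1_tr_p36 15998)) (Nat.shiftLeft (Nat.lor dL1_tr_p37 (Nat.shiftLeft dL1_tr_p38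 15998)) 31996)) (Nat.shiftLeft (Nat.lor (Nat.lor dL1_tr_p39 (Nat.shiftLeft dL1_tr_p40 15998)) (Nat.shiftLeft (Nat.lor dL1_tr_p41 (Nat.shiftLeft dL1_tr_p42 15998)) 31996)) 63992)) (Nat.shiftLeft (Nat.lor (Nat.lor (Nat.lor dL1_tr_p43 (Nat.shiftLeft dL1_tr_p44 15998)) (Nat.shiftLeft (Nat.lor dL1_tr_p45 (Nat.shiftLeft dL1_tr_p46 15998)) 31996)) (Nat.shiftLeft (Nat.lor (Nat.lor dL1_tr_p47 (Nat.shiftLeft dL1_tr_p48 15998)) (Nat.shiftLeft (Nat.lor dL1_tr_p49 (Nat.shiftLeft (Nat.lor dL1_tr_p50 (Nat.shiftLeft dL1_tr_p51 15998)) 15998)) 31996)) 63992)) 127984)) (Nat.shiftLeft (Nat.lor (Nat.lor (Nat.lor (Nat.lor dL1_tr_p52 (Nat.shiftLeft dL1_tr_p53 15998)) (Nat.shiftLeft (Nat.lor dL1_tr_p54 (Nat.shiftLeft dL1_tr_p55 15998)) 31996)) (Nat.shiftLeft (Nat.lor (Nat.lor dL1_tr_p56 (Nat.shiftLeft dL1_tr_p57 15998)) (Nat.shiftLeft (Nat.lor dL1_tr_p58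 (Nat.shiftLeft (Nat.lor dL1_tr_p59 (Nat.shiftLeft dL1_tr_p60 15998)) 15998)) 31996)) 63992)) (Nat.shiftLeft (Nat.lor (Nat.lor (Nat.lor dL1_tr_p61 (Nat.shiftLeft dL1_tr_p62 15998)) (Nat.shiftLeft (Nat.lor dL1_tr_p63 (Nat.shiftLeft dL1_tr_p64 15998)) 31996)) (Nat.shiftLeft (Nat.lor (Nat.lor dL1_tr_p65 (Nat.shiftLeft dL1_tr_p66 15998)) (Nat.shiftLeft (Nat.lor dL1_tr_p67 (Nat.shiftLeft (Nat.lor dL1_tr_p68 (Nat.shiftLeft dL1_tr_p69 15998)) 15998)) 31996)) 63992)) 143982)) 271966)) 559930))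
noncomputable def dL1_tr_M1 : Nat := Nat.sub (Nat.shiftLeft 1 77824) 1
noncomputable def dL1_tr_M2 : Nat := Nat.sub (Nat.shiftLeft 1 608) 1
noncomputable def dL1_tr_L1 (b : Nat) : Nat := Nat.land (Nat.shiftRight dL1_tr_T (Nat.mul b 77824)) dL1_tr_M1
noncomputable def dL1_tr_L2 (b : Nat) : Nat :=
  force (Nat.shiftRight b 7) fun c => Nat.land (Nat.shiftRight (dL1_tr_L1 c) (Nat.mul (Nat.land b 127) 608)) dL1_tr_M2
noncomputable def dL1_tr (p : Nat) : Nat :=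
  force (Nat.shiftRight p 5) fun c => Nat.land (Nat.shiftRight (dL1_tr_L2 c) (Nat.mul (Nat.land p 31) 19)) 524287

noncomputable def dL1 : LevD := ⟨1, 58653, 6, 2, dL1_pt, dL1_pi, dL1_tr⟩

noncomputable def dL2_pt_T : Nat := dL2_pt_p0
noncomputable def dL2_pt_M1 : Nat := Nat.sub (Nat.shiftLeft 1 69632) 1
noncomputable def dL2_pt_M2 : Nat := Nat.sub (Nat.shiftLeft 1 544) 1
noncomputable def dL2_pt_L1 (b : Nat) : Nat := Nat.land (Nat.shiftRight dL2_pt_T (Nat.mul b 69632)) dL2_pt_M1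
noncomputable def dL2_pt_L2 (b : Nat) : Nat :=
  force (Nat.shiftRight b 7) fun c => Nat.land (Nat.shiftRight (dL2_pt_L1 c) (Nat.mul (Nat.land b 127) 544)) dL2_pt_M2
noncomputable def dL2_pt (p : Nat) : Nat :=
  force (Nat.shiftRight p 5) fun c => Nat.land (Nat.shiftRight (dL2_pt_L2 c) (Nat.mul (Nat.land p 31) 17)) 131071

noncomputable def dL2_pi_T : Nat := (Nat.lor (Nat.lor (Nat.lor (Nat.lor (Nat.lor dL2_pi_p0 (Nat.shiftLeft dL2_pi_p1 15996)) (Nat.shiftLeft (Nat.lor dL2_pi_p2 (Nat.shiftLeft (Nat.lor dL2_pi_p3 (Nat.shiftLeft dL2_pi_p4 15996)) 15996)) 31992)) (Nat.shiftLeft (Nat.lor (Nat.lor dL2_pi_p5 (Nat.shiftLeft (Nat.lor dL2_pi_p6 (Nat.shiftLeft dL2_pi_p7 15996)) 15996)) (Nat.shiftLeft (Nat.lor dL2_pi_p8 (Nat.shiftLeft (Nat.lor dL2_pi_p9 (Nat.shiftLeft dL2_pi_p10 15996)) 15996)) 47988)) 79980)) (Nat.shiftLeft (Nat.lor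 (Nat.lor (Nat.lor dL2_pi_p11 (Nat.shiftLeft (Nat.lor dL2_pi_p12 (Nat.shiftLeft dL2_pi_p13 15996)) 15996)) (Nat.shiftLeft (Nat.lor dL2_pi_p14 (Nat.shiftLeft (Nat.lor dL2_pi_p15 (Nat.shiftLeft dL2_pi_p16 15996)) 15996)) 47988)) (Nat.shiftLeft (Nat.lor (Nat.lor dL2_pi_p17 (Nat.shiftLeft (Nat.lor dL2_pi_p18 (Nat.shiftLeft dL2_pi_p19 15996)) 15996)) (Nat.shiftLeft (Nat.lor dL2_pi_p20 (Nat.shiftLeft (Nat.lor dL2_pi_p21 (Nat.shiftLeft dL2_pi_p22 15996)) 15996)) 47988)) 95976)) 175956)) (Nat.shiftLeft (Nat.lor (Nat.lor (Nat.lor (Nat.lor dL2_pi_p23 (Nat.shiftLeft (Nat.lor dL2_pi_p24 (Nat.shiftLeft dL2_pi_p25 15996)) 15996)) (Nat.shiftLeft (Nat.lor dL2_pi_p26 (Nat.shiftLeft (Nat.lor dL2_pi_p27 (Nat.shiftLeft dL2_pi_p28 15996)) 15996)) 47988)) (Nat.shiftLeft (Nat.lor (Nat.lor dL2_pi_p29 (Nat.shiftLeft (Nat.lor dL2_pi_p30 (Nat.shiftLeft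 dL2_pi_p31 15996)) 15996)) (Nat.shiftLeft (Nat.lor dL2_pi_p32 (Nat.shiftLeft (Nat.lor dL2_pi_p33 (Nat.shiftLeft dL2_pi_p34 15996)) 15996)) 47988)) 95976)) (Nat.shiftLeft (Nat.lor (Nat.lor (Nat.lor dL2_pi_p35 (Nat.shiftLeft (Nat.lor dL2_pi_p36 (Nat.shiftLeft dL2_pi_p37 15996)) 15996)) (Nat.shiftLeft (Nat.lor dL2_pi_p38 (Nat.shiftLeft (Nat.lor dL2_pi_p39 (Nat.shiftLeft dL2_pi_p40 15996)) 15996)) 47988)) (Nat.shiftLeft (Nat.lor (Nat.lor dL2_pi_p41 (Nat.shiftLeft (Nat.lor dL2_pi_p42 (Nat.shiftLeft dL2_pi_p43 15996)) 15996)) (Nat.shiftLeft (Nat.lor dL2_pi_p44 (Nat.shiftLeft (Nat.lor dL2_pi_p45 (Nat.shiftLeft dL2_pi_p46 15996)) 15996)) 47988)) 95976)) 191952)) 367908))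
noncomputable def dL2_pi_M1 : Nat := Nat.sub (Nat.shiftLeft 1 24576) 1
noncomputable def dL2_pi_M2 : Nat := Nat.sub (Nat.shiftLeft 1 192) 1
noncomputable def dL2_pi_L1 (b : Nat) : Nat := Nat.land (Nat.shiftRight dL2_pi_T (Nat.mul b 24576)) dL2_pi_M1
noncomputable def dL2_pi_L2 (b : Nat) : Nat :=
  force (Nat.shiftRight b 7) fun c => Nat.land (Nat.shiftRight (dL2_pi_L1 c) (Nat.mul (Nat.land b 127) 192)) dL2_pi_M2
noncomputable def dL2_pi (p : Nat) : Nat :=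
  force (Nat.shiftRight p 5) fun c => Nat.land (Nat.shiftRight (dL2_pi_L2 c) (Nat.mul (Nat.land p 31) 6)) 63

noncomputable def dL2_tr_T : Nat := dL2_tr_p0
noncomputable def dL2_tr_M1 : Nat := Nat.sub (Nat.shiftLeft 1 28672) 1
noncomputable def dL2_tr_M2 : Nat := Nat.sub (Nat.shiftLeft 1 224) 1
noncomputable def dL2_tr_L1 (b : Nat) : Nat := Nat.land (Nat.shiftRight dL2_tr_T (Nat.mul b 28672)) dL2_tr_M1
noncomputable def dL2_tr_L2 (b : Nat) : Nat :=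
  force (Nat.shiftRight b 7) fun c => Nat.land (Nat.shiftRight (dL2_tr_L1 c) (Nat.mul (Nat.land b 127) 224)) dL2_tr_M2
noncomputable def dL2_tr (p : Nat) : Nat :=
  force (Nat.shiftRight p 5) fun c => Nat.land (Nat.shiftRight (dL2_tr_L2 c) (Nat.mul (Nat.land p 31) 7)) 127

noncomputable def dL2 : LevD := ⟨2, 32, 3, 20, dL2_pt, dL2_pi, dL2_tr⟩

noncomputable def dL3_pt_T : Nat := dL3_pt_p0
noncomputable def dL3_pt_M1 : Nat := Nat.sub (Nat.shiftLeft 1 69632) 1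
noncomputable def dL3_pt_M2 : Nat := Nat.sub (Nat.shiftLeft 1 544) 1
noncomputable def dL3_pt_L1 (b : Nat) : Nat := Nat.land (Nat.shiftRight dL3_pt_T (Nat.mul b 69632)) dL3_pt_M1
noncomputable def dL3_pt_L2 (b : Nat) : Nat :=
  force (Nat.shiftRight b 7) fun c => Nat.land (Nat.shiftRight (dL3_pt_L1 c) (Nat.mul (Nat.land b 127) 544)) dL3_pt_M2
noncomputable def dL3_pt (p : Nat) : Nat :=
  force (Nat.shiftRight p 5) fun c => Nat.land (Nat.shiftRight (dL3_pt_L2 c) (Nat.mul (Nat.land p 31) 17)) 131071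

noncomputable def dL3_pi_T : Nat := (Nat.lor (Nat.lor (Nat.lor (Nat.lor dL3_pi_p0 (Nat.shiftLeft dL3_pi_p1 16000)) (Nat.shiftLeft (Nat.lor dL3_pi_p2 (Nat.shiftLeft dL3_pi_p3 16000)) 32000)) (Nat.shiftLeft (Nat.lor (Nat.lor dL3_pi_p4 (Nat.shiftLeft dL3_pi_p5 16000)) (Nat.shiftLeft (Nat.lor dL3_pi_p6 (Nat.shiftLeft dL3_pi_p7 16000)) 32000)) 64000)) (Nat.shiftLeft (Nat.lor (Nat.lor (Nat.lor dL3_pi_p8 (Nat.shiftLeft dL3_pi_p9 16000)) (Nat.shiftLeft (Nat.lor dL3_pi_p10 (Nat.shiftLeft dL3_pi_p11 16000)) 32000)) (Nat.shiftLeft (Nat.lor (Nat.lor dL3_pi_p12 (Nat.shiftLeft dL3_pi_p13 16000)) (Nat.shiftLeft (Nat.lor dL3_pi_p14 (Nat.shiftLeft dL3_pi_p15 16000)) 32000)) 64000)) 128000))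
noncomputable def dL3_pi_M1 : Nat := Nat.sub (Nat.shiftLeft 1 8192) 1
noncomputable def dL3_pi_M2 : Nat := Nat.sub (Nat.shiftLeft 1 64) 1
noncomputable def dL3_pi_L1 (b : Nat) : Nat := Nat.land (Nat.shiftRight dL3_pi_T (Nat.mul b 8192)) dL3_pi_M1
noncomputable def dL3_pi_L2 (b : Nat) : Nat :=
  force (Nat.shiftRight b 7) fun c => Nat.land (Nat.shiftRight (dL3_pi_L1 c) (Nat.mul (Nat.land b 127) 64)) dL3_pi_M2
noncomputable def dL3_pi (p : Nat) : Nat :=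
  force (Nat.shiftRight p 5) fun c => Nat.land (Nat.shiftRight (dL3_pi_L2 c) (Nat.mul (Nat.land p 31) 2)) 3

noncomputable def dL3_tr_T : Nat := dL3_tr_p0
noncomputable def dL3_tr_M1 : Nat := Nat.sub (Nat.shiftLeft 1 4096) 1
noncomputable def dL3_tr_M2 : Nat := Nat.sub (Nat.shiftLeft 1 32) 1
noncomputable def dL3_tr_L1 (b : Nat) : Nat := Nat.land (Nat.shiftRight dL3_tr_T (Nat.mul b 4096)) dL3_tr_M1
noncomputable def dL3_tr_L2 (b : Nat) : Nat :=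
  force (Nat.shiftRight b 7) fun c => Nat.land (Nat.shiftRight (dL3_tr_L1 c) (Nat.mul (Nat.land b 127) 32)) dL3_tr_M2
noncomputable def dL3_tr (p : Nat) : Nat :=
  force (Nat.shiftRight p 5) fun c => Nat.land (Nat.shiftRight (dL3_tr_L2 c) (Nat.mul (Nat.land p 31) 1)) 1

noncomputable def dL3 : LevD := ⟨5, 2, 1, 23, dL3_pt, dL3_pi, dL3_tr⟩

noncomputable def cL0_pt_T : Nat := cL0_pt_p0
noncomputable def cL0_pt_M1 : Nat := Nat.sub (Nat.shiftLeft 1 69632) 1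
noncomputable def cL0_pt_M2 : Nat := Nat.sub (Nat.shiftLeft 1 544) 1
noncomputable def cL0_pt_L1 (b : Nat) : Nat := Nat.land (Nat.shiftRight cL0_pt_T (Nat.mul b 69632)) cL0_pt_M1
noncomputable def cL0_pt_L2 (b : Nat) : Nat :=
  force (Nat.shiftRight b 7) fun c => Nat.land (Nat.shiftRight (cL0_pt_L1 c) (Nat.mul (Nat.land b 127) 544)) cL0_pt_M2
noncomputable def cL0_pt (p : Nat) : Nat :=
  force (Nat.shiftRight p 5) fun c => Nat.land (Nat.shiftRight (cL0_pt_L2 c) (Nat.mul (Nat.land p 31) 17)) 131071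

noncomputable def cL0_pi_T : Nat := (Nat.lor (Nat.lor (Nat.lor (Nat.lor (Nat.lor cL0_pi_p0 (Nat.shiftLeft (Nat.lor cL0_pi_p1 (Nat.shiftLeft cL0_pi_p2 15995)) 15995)) (Nat.shiftLeft (Nat.lor cL0_pi_p3 (Nat.shiftLeft (Nat.lor cL0_pi_p4 (Nat.shiftLeft cL0_pi_p5 15995)) 15995)) 47985)) (Nat.shiftLeft (Nat.lor (Nat.lor cL0_pi_p6 (Nat.shiftLeft (Nat.lor cL0_pi_p7 (Nat.shiftLeft cL0_pi_p8 15995)) 15995)) (Nat.shiftLeft (Nat.lor (Nat.lor cL0_pi_p9 (Nat.shiftLeft cL0_pi_p10 15995)) (Nat.shiftLeft (Nat.lor cL0_pi_p11 (Nat.shiftLeft cL0_pi_p12 15995)) 31990)) 47985)) 95970)) (Nat.shiftLeft (Nat.lor (Nat.lor (Nat.lor cL0_pi_p13 (Nat.shiftLeft (Nat.lor cL0_pi_p14 (Nat.shiftLeft cL0_pi_p15 15995)) 15995)) (Nat.shiftLeft (Nat.lor (Nat.lor cL0_pi_p16 (Nat.shiftLeft cL0_pi_p17 15995)) (Nat.shiftLeft (Nat.lor cL0_pi_p18 (Nat.shiftLeft cL0_pi_p19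 15995)) 31990)) 47985)) (Nat.shiftLeft (Nat.lor (Nat.lor cL0_pi_p20 (Nat.shiftLeft (Nat.lor cL0_pi_p21 (Nat.shiftLeft cL0_pi_p22 15995)) 15995)) (Nat.shiftLeft (Nat.lor (Nat.lor cL0_pi_p23 (Nat.shiftLeft cL0_pi_p24 15995)) (Nat.shiftLeft (Nat.lor cL0_pi_p25 (Nat.shiftLeft cL0_pi_p26 15995)) 31990)) 47985)) 111965)) 207935)) (Nat.shiftLeft (Nat.lor (Nat.lor (Nat.lor (Nat.lor cL0_pi_p27 (Nat.shiftLeft (Nat.lor cL0_pi_p28 (Nat.shiftLeft cL0_pi_p29 15995)) 15995)) (Nat.shiftLeft (Nat.lor cL0_pi_p30 (Nat.shiftLeft (Nat.lor cL0_pi_p31 (Nat.shiftLeft cL0_pi_p32 15995)) 15995)) 47985)) (Nat.shiftLeft (Nat.lor (Nat.lor cL0_pi_p33 (Nat.shiftLeft (Nat.lor cL0_pi_p34 (Nat.shiftLeft cL0_pi_p35 15995)) 15995)) (Nat.shiftLeft (Nat.lor (Nat.lor cL0_pi_p36 (Nat.shiftLeft cL0_pi_p37 15995)) (Nat.shiftLeft (Nat.lor cL0_pi_p38 (Nat.shiftLeft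 cL0_pi_p39 15995)) 31990)) 47985)) 95970)) (Nat.shiftLeft (Nat.lor (Nat.lor (Nat.lor cL0_pi_p40 (Nat.shiftLeft (Nat.lor cL0_pi_p41 (Nat.shiftLeft cL0_pi_p42 15995)) 15995)) (Nat.shiftLeft (Nat.lor (Nat.lor cL0_pi_p43 (Nat.shiftLeft cL0_pi_p44 15995)) (Nat.shiftLeft (Nat.lor cL0_pi_p45 (Nat.shiftLeft cL0_pi_p46 15995)) 31990)) 47985)) (Nat.shiftLeft (Nat.lor (Nat.lor cL0_pi_p47 (Nat.shiftLeft (Nat.lor cL0_pi_p48 (Nat.shiftLeft cL0_pi_p49 15995)) 15995)) (Nat.shiftLeft (Nat.lor (Nat.lor cL0_pi_p50 (Nat.shiftLeft cL0_pi_p51 15995)) (Nat.shiftLeft (Nat.lor cL0_pi_p52 (Nat.shiftLeft cL0_pi_p53 15995)) 31990)) 47985)) 111965)) 207935)) 431865))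
noncomputable def cL0_pi_M1 : Nat := Nat.sub (Nat.shiftLeft 1 28672) 1
noncomputable def cL0_pi_M2 : Nat := Nat.sub (Nat.shiftLeft 1 224) 1
noncomputable def cL0_pi_L1 (b : Nat) : Nat := Nat.land (Nat.shiftRight cL0_pi_T (Nat.mul b 28672)) cL0_pi_M1
noncomputable def cL0_pi_L2 (b : Nat) : Nat :=
  force (Nat.shiftRight b 7) fun c => Nat.land (Nat.shiftRight (cL0_pi_L1 c) (Nat.mul (Nat.land b 127) 224)) cL0_pi_M2
noncomputable def cL0_pi (p : Nat) : Nat :=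
  force (Nat.shiftRight p 5) fun c => Nat.land (Nat.shiftRight (cL0_pi_L2 c) (Nat.mul (Nat.land p 31) 7)) 127

noncomputable def cL0_tr_T : Nat := cL0_tr_p0
noncomputable def cL0_tr_M1 : Nat := Nat.sub (Nat.shiftLeft 1 32768) 1
noncomputable def cL0_tr_M2 : Nat := Nat.sub (Nat.shiftLeft 1 256) 1
noncomputable def cL0_tr_L1 (b : Nat) : Nat := Nat.land (Nat.shiftRight cL0_tr_T (Nat.mul b 32768)) cL0_tr_M1
noncomputable def cL0_tr_L2 (b : Nat) : Nat :=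
  force (Nat.shiftRight b 7) fun c => Nat.land (Nat.shiftRight (cL0_tr_L1 c) (Nat.mul (Nat.land b 127) 256)) cL0_tr_M2
noncomputable def cL0_tr (p : Nat) : Nat :=
  force (Nat.shiftRight p 5) fun c => Nat.land (Nat.shiftRight (cL0_tr_L2 c) (Nat.mul (Nat.land p 31) 8)) 255

noncomputable def cL0 : LevD := ⟨16, 120, 2, 24, cL0_pt, cL0_pi, cL0_tr⟩

noncomputable def cL1_pt_T : Nat := cL1_pt_p0
noncomputable def cL1_pt_M1 : Nat := Nat.sub (Nat.shiftLeft 1 69632) 1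
noncomputable def cL1_pt_M2 : Nat := Nat.sub (Nat.shiftLeft 1 544) 1
noncomputable def cL1_pt_L1 (b : Nat) : Nat := Nat.land (Nat.shiftRight cL1_pt_T (Nat.mul b 69632)) cL1_pt_M1
noncomputable def cL1_pt_L2 (b : Nat) : Nat :=
  force (Nat.shiftRight b 7) fun c => Nat.land (Nat.shiftRight (cL1_pt_L1 c) (Nat.mul (Nat.land b 127) 544)) cL1_pt_M2
noncomputable def cL1_pt (p : Nat) : Nat :=
  force (Nat.shiftRight p 5) fun c => Nat.land (Nat.shiftRight (cL1_pt_L2 c) (Nat.mul (Nat.land p 31) 17)) 131071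

noncomputable def cL1_pi_T : Nat := (Nat.lor (Nat.lor (Nat.lor (Nat.lor (Nat.lor cL1_pi_p0 (Nat.shiftLeft cL1_pi_p1 16000)) (Nat.shiftLeft (Nat.lor cL1_pi_p2 (Nat.shiftLeft cL1_pi_p3 16000)) 32000)) (Nat.shiftLeft (Nat.lor (Nat.lor cL1_pi_p4 (Nat.shiftLeft cL1_pi_p5 16000)) (Nat.shiftLeft (Nat.lor cL1_pi_p6 (Nat.shiftLeft (Nat.lor cL1_pi_p7 (Nat.shiftLeft cL1_pi_p8 16000)) 16000)) 32000)) 64000)) (Nat.shiftLeft (Nat.lor (Nat.lor (Nat.lor cL1_pi_p9 (Nat.shiftLeft cL1_pi_p10 16000)) (Nat.shiftLeft (Nat.lor cL1_pi_p11 (Nat.shiftLeft (Nat.lor cL1_pi_p12 (Nat.shiftLeft cL1_pi_p13 16000)) 16000)) 32000)) (Nat.shiftLeft (Nat.lor (Nat.lor cL1_pi_p14 (Nat.shiftLeft cL1_pi_p15 16000)) (Nat.shiftLeft (Nat.lor cL1_pi_p16 (Nat.shiftLeft (Nat.lor cL1_pi_p17 (Nat.shiftLeft cL1_pi_p18 16000)) 16000)) 32000)) 80000)) 144000)) (Nat.shiftLeft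 (Nat.lor (Nat.lor (Nat.lor (Nat.lor cL1_pi_p19 (Nat.shiftLeft cL1_pi_p20 16000)) (Nat.shiftLeft (Nat.lor cL1_pi_p21 (Nat.shiftLeft (Nat.lor cL1_pi_p22 (Nat.shiftLeft cL1_pi_p23 16000)) 16000)) 32000)) (Nat.shiftLeft (Nat.lor (Nat.lor cL1_pi_p24 (Nat.shiftLeft cL1_pi_p25 16000)) (Nat.shiftLeft (Nat.lor cL1_pi_p26 (Nat.shiftLeft (Nat.lor cL1_pi_p27 (Nat.shiftLeft cL1_pi_p28 16000)) 16000)) 32000)) 80000)) (Nat.shiftLeft (Nat.lor (Nat.lor (Nat.lor cL1_pi_p29 (Nat.shiftLeft cL1_pi_p30 16000)) (Nat.shiftLeft (Nat.lor cL1_pi_p31 (Nat.shiftLeft (Nat.lor cL1_pi_p32 (Nat.shiftLeft cL1_pi_p33 16000)) 16000)) 32000)) (Nat.shiftLeft (Nat.lor (Nat.lor cL1_pi_p34 (Nat.shiftLeft cL1_pi_p35 16000)) (Nat.shiftLeft (Nat.lor cL1_pi_p36 (Nat.shiftLeft (Nat.lor cL1_pi_p37 (Nat.shiftLeft cL1_pi_p38 16000)) 16000)) 32000)) 80000)) 160000)) 304000))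
noncomputable def cL1_pi_M1 : Nat := Nat.sub (Nat.shiftLeft 1 20480) 1
noncomputable def cL1_pi_M2 : Nat := Nat.sub (Nat.shiftLeft 1 160) 1
noncomputable def cL1_pi_L1 (b : Nat) : Nat := Nat.land (Nat.shiftRight cL1_pi_T (Nat.mul b 20480)) cL1_pi_M1
noncomputable def cL1_pi_L2 (b : Nat) : Nat :=
  force (Nat.shiftRight b 7) fun c => Nat.land (Nat.shiftRight (cL1_pi_L1 c) (Nat.mul (Nat.land b 127) 160)) cL1_pi_M2
noncomputable def cL1_pi (p : Nat) : Nat :=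
  force (Nat.shiftRight p 5) fun c => Nat.land (Nat.shiftRight (cL1_pi_L2 c) (Nat.mul (Nat.land p 31) 5)) 31

noncomputable def cL1_tr_T : Nat := cL1_tr_p0
noncomputable def cL1_tr_M1 : Nat := Nat.sub (Nat.shiftLeft 1 20480) 1
noncomputable def cL1_tr_M2 : Nat := Nat.sub (Nat.shiftLeft 1 160) 1
noncomputable def cL1_tr_L1 (b : Nat) : Nat := Nat.land (Nat.shiftRight cL1_tr_T (Nat.mul b 20480)) cL1_tr_M1
noncomputable def cL1_tr_L2 (b : Nat) : Nat :=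
  force (Nat.shiftRight b 7) fun c => Nat.land (Nat.shiftRight (cL1_tr_L1 c) (Nat.mul (Nat.land b 127) 160)) cL1_tr_M2
noncomputable def cL1_tr (p : Nat) : Nat :=
  force (Nat.shiftRight p 5) fun c => Nat.land (Nat.shiftRight (cL1_tr_L2 c) (Nat.mul (Nat.land p 31) 5)) 31

noncomputable def cL1 : LevD := ⟨63, 16, 2, 26, cL1_pt, cL1_pi, cL1_tr⟩

noncomputable def cL2_pt_T : Nat := cL2_pt_p0
noncomputable def cL2_pt_M1 : Nat := Nat.sub (Nat.shiftLeft 1 69632) 1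
noncomputable def cL2_pt_M2 : Nat := Nat.sub (Nat.shiftLeft 1 544) 1
noncomputable def cL2_pt_L1 (b : Nat) : Nat := Nat.land (Nat.shiftRight cL2_pt_T (Nat.mul b 69632)) cL2_pt_M1
noncomputable def cL2_pt_L2 (b : Nat) : Nat :=
  force (Nat.shiftRight b 7) fun c => Nat.land (Nat.shiftRight (cL2_pt_L1 c) (Nat.mul (Nat.land b 127) 544)) cL2_pt_M2
noncomputable def cL2_pt (p : Nat) : Nat :=
  force (Nat.shiftRight p 5) fun c => Nat.land (Nat.shiftRight (cL2_pt_L2 c) (Nat.mul (Nat.land p 31) 17)) 131071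

noncomputable def cL2_pi_T : Nat := (Nat.lor (Nat.lor (Nat.lor (Nat.lor cL2_pi_p0 (Nat.shiftLeft (Nat.lor cL2_pi_p1 (Nat.shiftLeft cL2_pi_p2 15999)) 15999)) (Nat.shiftLeft (Nat.lor cL2_pi_p3 (Nat.shiftLeft (Nat.lor cL2_pi_p4 (Nat.shiftLeft cL2_pi_p5 15999)) 15999)) 47997)) (Nat.shiftLeft (Nat.lor (Nat.lor cL2_pi_p6 (Nat.shiftLeft (Nat.lor cL2_pi_p7 (Nat.shiftLeft cL2_pi_p8 15999)) 15999)) (Nat.shiftLeft (Nat.lor cL2_pi_p9 (Nat.shiftLeft (Nat.lor cL2_pi_p10 (Nat.shiftLeft cL2_pi_p11 15999)) 15999)) 47997)) 95994)) (Nat.shiftLeft (Nat.lor (Nat.lor (Nat.lor cL2_pi_p12 (Nat.shiftLeft (Nat.lor cL2_pi_p13 (Nat.shiftLeft cL2_pi_p14 15999)) 15999)) (Nat.shiftLeft (Nat.lor cL2_pi_p15 (Nat.shiftLeft (Nat.lor cL2_pi_p16 (Nat.shiftLeft cL2_pi_p17 15999)) 15999)) 47997)) (Nat.shiftLeft (Nat.lor (Nat.lor cL2_pi_p18 (Nat.shiftLeft (Nat.lor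 cL2_pi_p19 (Nat.shiftLeft cL2_pi_p20 15999)) 15999)) (Nat.shiftLeft (Nat.lor cL2_pi_p21 (Nat.shiftLeft (Nat.lor cL2_pi_p22 (Nat.shiftLeft cL2_pi_p23 15999)) 15999)) 47997)) 95994)) 191988))
noncomputable def cL2_pi_M1 : Nat := Nat.sub (Nat.shiftLeft 1 12288) 1
noncomputable def cL2_pi_M2 : Nat := Nat.sub (Nat.shiftLeft 1 96) 1
noncomputable def cL2_pi_L1 (b : Nat) : Nat := Nat.land (Nat.shiftRight cL2_pi_T (Nat.mul b 12288)) cL2_pi_M1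
noncomputable def cL2_pi_L2 (b : Nat) : Nat :=
  force (Nat.shiftRight b 7) fun c => Nat.land (Nat.shiftRight (cL2_pi_L1 c) (Nat.mul (Nat.land b 127) 96)) cL2_pi_M2
noncomputable def cL2_pi (p : Nat) : Nat :=
  force (Nat.shiftRight p 5) fun c => Nat.land (Nat.shiftRight (cL2_pi_L2 c) (Nat.mul (Nat.land p 31) 3)) 7

noncomputable def cL2_tr_T : Nat := cL2_tr_p0
noncomputable def cL2_tr_M1 : Nat := Nat.sub (Nat.shiftLeft 1 12288) 1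
noncomputable def cL2_tr_M2 : Nat := Nat.sub (Nat.shiftLeft 1 96) 1
noncomputable def cL2_tr_L1 (b : Nat) : Nat := Nat.land (Nat.shiftRight cL2_tr_T (Nat.mul b 12288)) cL2_tr_M1
noncomputable def cL2_tr_L2 (b : Nat) : Nat :=
  force (Nat.shiftRight b 7) fun c => Nat.land (Nat.shiftRight (cL2_tr_L1 c) (Nat.mul (Nat.land b 127) 96)) cL2_tr_M2
noncomputable def cL2_tr (p : Nat) : Nat :=
  force (Nat.shiftRight p 5) fun c => Nat.land (Nat.shiftRight (cL2_tr_L2 c) (Nat.mul (Nat.land p 31) 3)) 7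

noncomputable def cL2 : LevD := ⟨154, 6, 1, 28, cL2_pt, cL2_pi, cL2_tr⟩

noncomputable def cL3_pt_T : Nat := cL3_pt_p0
noncomputable def cL3_pt_M1 : Nat := Nat.sub (Nat.shiftLeft 1 69632) 1
noncomputable def cL3_pt_M2 : Nat := Nat.sub (Nat.shiftLeft 1 544) 1
noncomputable def cL3_pt_L1 (b : Nat) : Nat := Nat.land (Nat.shiftRight cL3_pt_T (Nat.mul b 69632)) cL3_pt_M1
noncomputable def cL3_pt_L2 (b : Nat) : Nat :=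
  force (Nat.shiftRight b 7) fun c => Nat.land (Nat.shiftRight (cL3_pt_L1 c) (Nat.mul (Nat.land b 127) 544)) cL3_pt_M2
noncomputable def cL3_pt (p : Nat) : Nat :=
  force (Nat.shiftRight p 5) fun c => Nat.land (Nat.shiftRight (cL3_pt_L2 c) (Nat.mul (Nat.land p 31) 17)) 131071

noncomputable def cL3_pi_T : Nat := (Nat.lor (Nat.lor (Nat.lor (Nat.lor cL3_pi_p0 (Nat.shiftLeft cL3_pi_p1 16000)) (Nat.shiftLeft (Nat.lor cL3_pi_p2 (Nat.shiftLeft cL3_pi_p3 16000)) 32000)) (Nat.shiftLeft (Nat.lor (Nat.lor cL3_pi_p4 (Nat.shiftLeft cL3_pi_p5 16000)) (Nat.shiftLeft (Nat.lor cL3_pi_p6 (Nat.shiftLeft cL3_pi_p7 16000)) 32000)) 64000)) (Nat.shiftLeft (Nat.lor (Nat.lor (Nat.lor cL3_pi_p8 (Nat.shiftLeft cL3_pi_p9 16000)) (Nat.shiftLeft (Nat.lor cL3_pi_p10 (Nat.shiftLeft cL3_pi_p11 16000)) 32000)) (Nat.shiftLeft (Nat.lor (Nat.lor cL3_pi_p12 (Nat.shiftLeft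 cL3_pi_p13 16000)) (Nat.shiftLeft (Nat.lor cL3_pi_p14 (Nat.shiftLeft cL3_pi_p15 16000)) 32000)) 64000)) 128000))
noncomputable def cL3_pi_M1 : Nat := Nat.sub (Nat.shiftLeft 1 8192) 1
noncomputable def cL3_pi_M2 : Nat := Nat.sub (Nat.shiftLeft 1 64) 1
noncomputable def cL3_pi_L1 (b : Nat) : Nat := Nat.land (Nat.shiftRight cL3_pi_T (Nat.mul b 8192)) cL3_pi_M1
noncomputable def cL3_pi_L2 (b : Nat) : Nat :=
  force (Nat.shiftRight b 7) fun c => Nat.land (Nat.shiftRight (cL3_pi_L1 c) (Nat.mul (Nat.land b 127) 64)) cL3_pi_M2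
noncomputable def cL3_pi (p : Nat) : Nat :=
  force (Nat.shiftRight p 5) fun c => Nat.land (Nat.shiftRight (cL3_pi_L2 c) (Nat.mul (Nat.land p 31) 2)) 3

noncomputable def cL3_tr_T : Nat := cL3_tr_p0
noncomputable def cL3_tr_M1 : Nat := Nat.sub (Nat.shiftLeft 1 4096) 1
noncomputable def cL3_tr_M2 : Nat := Nat.sub (Nat.shiftLeft 1 32) 1
noncomputable def cL3_tr_L1 (b : Nat) : Nat := Nat.land (Nat.shiftRight cL3_tr_T (Nat.mul b 4096)) cL3_tr_M1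
noncomputable def cL3_tr_L2 (b : Nat) : Nat :=
  force (Nat.shiftRight b 7) fun c => Nat.land (Nat.shiftRight (cL3_tr_L1 c) (Nat.mul (Nat.land b 127) 32)) cL3_tr_M2
noncomputable def cL3_tr (p : Nat) : Nat :=
  force (Nat.shiftRight p 5) fun c => Nat.land (Nat.shiftRight (cL3_tr_L2 c) (Nat.mul (Nat.land p 31) 1)) 1

noncomputable def cL3 : LevD := ⟨74006, 2, 1, 29, cL3_pt, cL3_pi, cL3_tr⟩

noncomputable def cL4_pt_T : Nat := cL4_pt_p0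
noncomputable def cL4_pt_M1 : Nat := Nat.sub (Nat.shiftLeft 1 69632) 1
noncomputable def cL4_pt_M2 : Nat := Nat.sub (Nat.shiftLeft 1 544) 1
noncomputable def cL4_pt_L1 (b : Nat) : Nat := Nat.land (Nat.shiftRight cL4_pt_T (Nat.mul b 69632)) cL4_pt_M1
noncomputable def cL4_pt_L2 (b : Nat) : Nat :=
  force (Nat.shiftRight b 7) fun c => Nat.land (Nat.shiftRight (cL4_pt_L1 c) (Nat.mul (Nat.land b 127) 544)) cL4_pt_M2
noncomputable def cL4_pt (p : Nat) : Nat :=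
  force (Nat.shiftRight p 5) fun c => Nat.land (Nat.shiftRight (cL4_pt_L2 c) (Nat.mul (Nat.land p 31) 17)) 131071

noncomputable def cL4_pi_T : Nat := (Nat.lor (Nat.lor (Nat.lor (Nat.lor cL4_pi_p0 (Nat.shiftLeft (Nat.lor cL4_pi_p1 (Nat.shiftLeft cL4_pi_p2 15999)) 15999)) (Nat.shiftLeft (Nat.lor cL4_pi_p3 (Nat.shiftLeft (Nat.lor cL4_pi_p4 (Nat.shiftLeft cL4_pi_p5 15999)) 15999)) 47997)) (Nat.shiftLeft (Nat.lor (Nat.lor cL4_pi_p6 (Nat.shiftLeft (Nat.lor cL4_pi_p7 (Nat.shiftLeft cL4_pi_p8 15999)) 15999)) (Nat.shiftLeft (Nat.lor cL4_pi_p9 (Nat.shiftLeft (Nat.lor cL4_pi_p10 (Nat.shiftLeft cL4_pi_p11 15999)) 15999)) 47997)) 95994)) (Nat.shiftLeft (Nat.lor (Nat.lor (Nat.lor cL4_pi_p12 (Nat.shiftLeft (Nat.lor cL4_pi_p13 (Nat.shiftLeft cL4_pi_p14 15999)) 15999)) (Nat.shiftLeft (Nat.lor cL4_pi_p15 (Nat.shiftLeft (Nat.lor cL4_pi_p16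 (Nat.shiftLeft cL4_pi_p17 15999)) 15999)) 47997)) (Nat.shiftLeft (Nat.lor (Nat.lor cL4_pi_p18 (Nat.shiftLeft (Nat.lor cL4_pi_p19 (Nat.shiftLeft cL4_pi_p20 15999)) 15999)) (Nat.shiftLeft (Nat.lor cL4_pi_p21 (Nat.shiftLeft (Nat.lor cL4_pi_p22 (Nat.shiftLeft cL4_pi_p23 15999)) 15999)) 47997)) 95994)) 191988))
noncomputable def cL4_pi_M1 : Nat := Nat.sub (Nat.shiftLeft 1 12288) 1
noncomputable def cL4_pi_M2 : Nat := Nat.sub (Nat.shiftLeft 1 96) 1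
noncomputable def cL4_pi_L1 (b : Nat) : Nat := Nat.land (Nat.shiftRight cL4_pi_T (Nat.mul b 12288)) cL4_pi_M1
noncomputable def cL4_pi_L2 (b : Nat) : Nat :=
  force (Nat.shiftRight b 7) fun c => Nat.land (Nat.shiftRight (cL4_pi_L1 c) (Nat.mul (Nat.land b 127) 96)) cL4_pi_M2
noncomputable def cL4_pi (p : Nat) : Nat :=
  force (Nat.shiftRight p 5) fun c => Nat.land (Nat.shiftRight (cL4_pi_L2 c) (Nat.mul (Nat.land p 31) 3)) 7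

noncomputable def cL4_tr_T : Nat := cL4_tr_p0
noncomputable def cL4_tr_M1 : Nat := Nat.sub (Nat.shiftLeft 1 12288) 1
noncomputable def cL4_tr_M2 : Nat := Nat.sub (Nat.shiftLeft 1 96) 1
noncomputable def cL4_tr_L1 (b : Nat) : Nat := Nat.land (Nat.shiftRight cL4_tr_T (Nat.mul b 12288)) cL4_tr_M1
noncomputable def cL4_tr_L2 (b : Nat) : Nat :=
  force (Nat.shiftRight b 7) fun c => Nat.land (Nat.shiftRight (cL4_tr_L1 c) (Nat.mul (Nat.land b 127) 96)) cL4_tr_M2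
noncomputable def cL4_tr (p : Nat) : Nat :=
  force (Nat.shiftRight p 5) fun c => Nat.land (Nat.shiftRight (cL4_tr_L2 c) (Nat.mul (Nat.land p 31) 3)) 7

noncomputable def cL4 : LevD := ⟨0, 7, 1, 30, cL4_pt, cL4_pi, cL4_tr⟩

noncomputable def ds : List LevD := [dL0, dL1, dL2, dL3]
noncomputable def cs : List LevD := [cL0, cL1, cL2, cL3, cL4]

noncomputable def FPL_T : Nat := (Nat.lor (Nat.lor (Nat.lor (Nat.lor (Nat.lor (Nat.lor (Nat.lor FPL_p0 (Nat.shiftLeft FPL_p1 15981)) (Nat.shiftLeft (Nat.lor FPL_p2 (Nat.shiftLeft FPL_p3 15981)) 31962)) (Nat.shiftLeft (Nat.lor (Nat.lor FPL_p4 (Nat.shiftLeft FPL_p5 15981)) (Nat.shiftLeft (Nat.lor FPL_p6 (Nat.shiftLeft FPL_p7 15981)) 31962)) 63924)) (Nat.shiftLeft (Nat.lor (Nat.lor (Nat.lor FPL_p8 (Nat.shiftLeft FPL_p9 15981)) (Nat.shiftLeft (Nat.lor FPL_p10 (Nat.shiftLeft FPL_p11 15981))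 31962)) (Nat.shiftLeft (Nat.lor (Nat.lor FPL_p12 (Nat.shiftLeft FPL_p13 15981)) (Nat.shiftLeft (Nat.lor FPL_p14 (Nat.shiftLeft (Nat.lor FPL_p15 (Nat.shiftLeft FPL_p16 15981)) 15981)) 31962)) 63924)) 127848)) (Nat.shiftLeft (Nat.lor (Nat.lor (Nat.lor (Nat.lor FPL_p17 (Nat.shiftLeft FPL_p18 15981)) (Nat.shiftLeft (Nat.lor FPL_p19 (Nat.shiftLeft FPL_p20 15981)) 31962)) (Nat.shiftLeft (Nat.lor (Nat.lor FPL_p21 (Nat.shiftLeft FPL_p22 15981)) (Nat.shiftLeft (Nat.lor FPL_p23 (Nat.shiftLeft (Nat.lor FPL_p24 (Nat.shiftLeft FPL_p25 15981)) 15981)) 31962)) 63924)) (Nat.shiftLeft (Nat.lor (Nat.lor (Nat.lor FPL_p26 (Nat.shiftLeft FPL_p27 15981)) (Nat.shiftLeft (Nat.lor FPL_p28 (Nat.shiftLeft FPL_p29 15981)) 31962)) (Nat.shiftLeft (Nat.lor (Nat.lor FPL_p30 (Nat.shiftLeft FPL_p31 15981)) (Nat.shiftLeft (Nat.lor FPL_p32 (Nat.shiftLeft (Nat.lor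 FPL_p33 (Nat.shiftLeft FPL_p34 15981)) 15981)) 31962)) 63924)) 143829)) 271677)) (Nat.shiftLeft (Nat.lor (Nat.lor (Nat.lor (Nat.lor (Nat.lor FPL_p35 (Nat.shiftLeft FPL_p36 15981)) (Nat.shiftLeft (Nat.lor FPL_p37 (Nat.shiftLeft FPL_p38 15981)) 31962)) (Nat.shiftLeft (Nat.lor (Nat.lor FPL_p39 (Nat.shiftLeft FPL_p40 15981)) (Nat.shiftLeft (Nat.lor FPL_p41 (Nat.shiftLeft FPL_p42 15981)) 31962)) 63924)) (Nat.shiftLeft (Nat.lor (Nat.lor (Nat.lor FPL_p43 (Nat.shiftLeft FPL_p44 15981)) (Nat.shiftLeft (Nat.lor FPL_p45 (Nat.shiftLeft FPL_p46 15981)) 31962)) (Nat.shiftLeft (Nat.lor (Nat.lor FPL_p47 (Nat.shiftLeft FPL_p48 15981)) (Nat.shiftLeft (Nat.lor FPL_p49 (Nat.shiftLeft (Nat.lor FPL_p50 (Nat.shiftLeft FPL_p51 15981)) 15981)) 31962)) 63924)) 127848)) (Nat.shiftLeft (Nat.lor (Nat.lor (Nat.lor (Nat.lor FPL_p52 (Nat.shiftLeft FPL_p53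 15981)) (Nat.shiftLeft (Nat.lor FPL_p54 (Nat.shiftLeft FPL_p55 15981)) 31962)) (Nat.shiftLeft (Nat.lor (Nat.lor FPL_p56 (Nat.shiftLeft FPL_p57 15981)) (Nat.shiftLeft (Nat.lor FPL_p58 (Nat.shiftLeft (Nat.lor FPL_p59 (Nat.shiftLeft FPL_p60 15981)) 15981)) 31962)) 63924)) (Nat.shiftLeft (Nat.lor (Nat.lor (Nat.lor FPL_p61 (Nat.shiftLeft FPL_p62 15981)) (Nat.shiftLeft (Nat.lor FPL_p63 (Nat.shiftLeft FPL_p64 15981)) 31962)) (Nat.shiftLeft (Nat.lor (Nat.lor FPL_p65 (Nat.shiftLeft FPL_p66 15981)) (Nat.shiftLeft (Nat.lor FPL_p67 (Nat.shiftLeft (Nat.lor FPL_p68 (Nat.shiftLeft FPL_p69 15981)) 15981)) 31962)) 63924)) 143829)) 271677)) 559335)) (Nat.shiftLeft (Nat.lor (Nat.lor (Nat.lor (Nat.lor (Nat.lor (Nat.lor FPL_p70 (Nat.shiftLeft FPL_p71 15981)) (Nat.shiftLeft (Nat.lor FPL_p72 (Nat.shiftLeft FPL_p73 15981)) 31962)) (Nat.shiftLeft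 (Nat.lor (Nat.lor FPL_p74 (Nat.shiftLeft FPL_p75 15981)) (Nat.shiftLeft (Nat.lor FPL_p76 (Nat.shiftLeft FPL_p77 15981)) 31962)) 63924)) (Nat.shiftLeft (Nat.lor (Nat.lor (Nat.lor FPL_p78 (Nat.shiftLeft FPL_p79 15981)) (Nat.shiftLeft (Nat.lor FPL_p80 (Nat.shiftLeft FPL_p81 15981)) 31962)) (Nat.shiftLeft (Nat.lor (Nat.lor FPL_p82 (Nat.shiftLeft FPL_p83 15981)) (Nat.shiftLeft (Nat.lor FPL_p84 (Nat.shiftLeft (Nat.lor FPL_p85 (Nat.shiftLeft FPL_p86 15981)) 15981)) 31962)) 63924)) 127848)) (Nat.shiftLeft (Nat.lor (Nat.lor (Nat.lor (Nat.lor FPL_p87 (Nat.shiftLeft FPL_p88 15981)) (Nat.shiftLeft (Nat.lor FPL_p89 (Nat.shiftLeft FPL_p90 15981)) 31962)) (Nat.shiftLeft (Nat.lor (Nat.lor FPL_p91 (Nat.shiftLeft FPL_p92 15981)) (Nat.shiftLeft (Nat.lor FPL_p93 (Nat.shiftLeft (Nat.lor FPL_p94 (Nat.shiftLeft FPL_p95 15981)) 15981)) 31962)) 63924))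 (Nat.shiftLeft (Nat.lor (Nat.lor (Nat.lor FPL_p96 (Nat.shiftLeft FPL_p97 15981)) (Nat.shiftLeft (Nat.lor FPL_p98 (Nat.shiftLeft FPL_p99 15981)) 31962)) (Nat.shiftLeft (Nat.lor (Nat.lor FPL_p100 (Nat.shiftLeft FPL_p101 15981)) (Nat.shiftLeft (Nat.lor FPL_p102 (Nat.shiftLeft (Nat.lor FPL_p103 (Nat.shiftLeft FPL_p104 15981)) 15981)) 31962)) 63924)) 143829)) 271677)) (Nat.shiftLeft (Nat.lor (Nat.lor (Nat.lor (Nat.lor (Nat.lor FPL_p105 (Nat.shiftLeft FPL_p106 15981)) (Nat.shiftLeft (Nat.lor FPL_p107 (Nat.shiftLeft FPL_p108 15981)) 31962)) (Nat.shiftLeft (Nat.lor (Nat.lor FPL_p109 (Nat.shiftLeft FPL_p110 15981)) (Nat.shiftLeft (Nat.lor FPL_p111 (Nat.shiftLeft FPL_p112 15981)) 31962)) 63924)) (Nat.shiftLeft (Nat.lor (Nat.lor (Nat.lor FPL_p113 (Nat.shiftLeft FPL_p114 15981)) (Nat.shiftLeft (Nat.lor FPL_p115 (Nat.shiftLeft FPL_p116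 15981)) 31962)) (Nat.shiftLeft (Nat.lor (Nat.lor FPL_p117 (Nat.shiftLeft FPL_p118 15981)) (Nat.shiftLeft (Nat.lor FPL_p119 (Nat.shiftLeft (Nat.lor FPL_p120 (Nat.shiftLeft FPL_p121 15981)) 15981)) 31962)) 63924)) 127848)) (Nat.shiftLeft (Nat.lor (Nat.lor (Nat.lor (Nat.lor FPL_p122 (Nat.shiftLeft FPL_p123 15981)) (Nat.shiftLeft (Nat.lor FPL_p124 (Nat.shiftLeft FPL_p125 15981)) 31962)) (Nat.shiftLeft (Nat.lor (Nat.lor FPL_p126 (Nat.shiftLeft FPL_p127 15981)) (Nat.shiftLeft (Nat.lor FPL_p128 (Nat.shiftLeft (Nat.lor FPL_p129 (Nat.shiftLeft FPL_p130 15981)) 15981)) 31962)) 63924)) (Nat.shiftLeft (Nat.lor (Nat.lor (Nat.lor FPL_p131 (Nat.shiftLeft FPL_p132 15981)) (Nat.shiftLeft (Nat.lor FPL_p133 (Nat.shiftLeft FPL_p134 15981)) 31962)) (Nat.shiftLeft (Nat.lor (Nat.lor FPL_p135 (Nat.shiftLeft FPL_p136 15981)) (Nat.shiftLeft (Nat.lor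 FPL_p137 (Nat.shiftLeft (Nat.lor FPL_p138 (Nat.shiftLeft FPL_p139 15981)) 15981)) 31962)) 63924)) 143829)) 271677)) 559335)) 1118670))
noncomputable def FPL_M1 : Nat := Nat.sub (Nat.shiftLeft 1 86016) 1
noncomputable def FPL_M2 : Nat := Nat.sub (Nat.shiftLeft 1 672) 1
noncomputable def FPL_L1 (b : Nat) : Nat := Nat.land (Nat.shiftRight FPL_T (Nat.mul b 86016)) FPL_M1
noncomputable def FPL_L2 (b : Nat) : Nat :=
  force (Nat.shiftRight b 7) fun c => Nat.land (Nat.shiftRight (FPL_L1 c) (Nat.mul (Nat.land b 127) 672)) FPL_M2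
noncomputable def FPL (p : Nat) : Nat :=
  force (Nat.shiftRight p 5) fun c => Nat.land (Nat.shiftRight (FPL_L2 c) (Nat.mul (Nat.land p 31) 21)) 2097151

noncomputable def DD : Frs := ⟨8, 38085, FPL, 16, 2, 8, 92169, []⟩

noncomputable def SPK_T : Nat := SPK_p0
noncomputable def SPK_M1 : Nat := Nat.sub (Nat.shiftLeft 1 98304) 1
noncomputable def SPK_M2 : Nat := Nat.sub (Nat.shiftLeft 1 768) 1
noncomputable def SPK_L1 (b : Nat) : Nat := Nat.land (Nat.shiftRight SPK_T (Nat.mul b 98304)) SPK_M1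
noncomputable def SPK_L2 (b : Nat) : Nat :=
  force (Nat.shiftRight b 7) fun c => Nat.land (Nat.shiftRight (SPK_L1 c) (Nat.mul (Nat.land b 127) 768)) SPK_M2
noncomputable def SPK (p : Nat) : Nat :=
  force (Nat.shiftRight p 5) fun c => Nat.land (Nat.shiftRight (SPK_L2 c) (Nat.mul (Nat.land p 31) 24)) 16777215

noncomputable def SCN_T : Nat := SCN_p0
noncomputable def SCN_M1 : Nat := Nat.sub (Nat.shiftLeft 1 32768) 1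
noncomputable def SCN_M2 : Nat := Nat.sub (Nat.shiftLeft 1 256) 1
noncomputable def SCN_L1 (b : Nat) : Nat := Nat.land (Nat.shiftRight SCN_T (Nat.mul b 32768)) SCN_M1
noncomputable def SCN_L2 (b : Nat) : Nat :=
  force (Nat.shiftRight b 7) fun c => Nat.land (Nat.shiftRight (SCN_L1 c) (Nat.mul (Nat.land b 127) 256)) SCN_M2
noncomputable def SCN (p : Nat) : Nat :=
  force (Nat.shiftRight p 5) fun c => Nat.land (Nat.shiftRight (SCN_L2 c) (Nat.mul (Nat.land p 31) 8)) 255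

noncomputable def WPT_T : Nat := WPT_p0
noncomputable def WPT_M1 : Nat := Nat.sub (Nat.shiftLeft 1 69632) 1
noncomputable def WPT_M2 : Nat := Nat.sub (Nat.shiftLeft 1 544) 1
noncomputable def WPT_L1 (b : Nat) : Nat := Nat.land (Nat.shiftRight WPT_T (Nat.mul b 69632)) WPT_M1
noncomputable def WPT_L2 (b : Nat) : Nat :=
  force (Nat.shiftRight b 7) fun c => Nat.land (Nat.shiftRight (WPT_L1 c) (Nat.mul (Nat.land b 127) 544)) WPT_M2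
noncomputable def WPT (p : Nat) : Nat :=
  force (Nat.shiftRight p 5) fun c => Nat.land (Nat.shiftRight (WPT_L2 c) (Nat.mul (Nat.land p 31) 17)) 131071

noncomputable def WPI_T : Nat := (Nat.lor (Nat.lor (Nat.lor (Nat.lor (Nat.lor (Nat.lor WPI_p0 (Nat.shiftLeft (Nat.lor WPI_p1 (Nat.shiftLeft WPI_p2 16000)) 16000)) (Nat.shiftLeft (Nat.lor (Nat.lor WPI_p3 (Nat.shiftLeft WPI_p4 16000)) (Nat.shiftLeft (Nat.lor WPI_p5 (Nat.shiftLeft WPI_p6 16000)) 32000)) 48000)) (Nat.shiftLeft (Nat.lor (Nat.lor (Nat.lor WPI_p7 (Nat.shiftLeft WPI_p8 16000)) (Nat.shiftLeft (Nat.lor WPI_p9 (Nat.shiftLeft WPI_p10 16000)) 32000)) (Nat.shiftLeft (Nat.lor (Nat.lor WPI_p11 (Nat.shiftLeft WPI_p12 16000)) (Nat.shiftLeft (Nat.lor WPI_p13 (Nat.shiftLeft WPI_p14 16000)) 32000)) 64000)) 112000)) (Nat.shiftLeft (Nat.lor (Nat.lor (Nat.lor WPI_p15 (Nat.shiftLeft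 (Nat.lor WPI_p16 (Nat.shiftLeft WPI_p17 16000)) 16000)) (Nat.shiftLeft (Nat.lor (Nat.lor WPI_p18 (Nat.shiftLeft WPI_p19 16000)) (Nat.shiftLeft (Nat.lor WPI_p20 (Nat.shiftLeft WPI_p21 16000)) 32000)) 48000)) (Nat.shiftLeft (Nat.lor (Nat.lor (Nat.lor WPI_p22 (Nat.shiftLeft WPI_p23 16000)) (Nat.shiftLeft (Nat.lor WPI_p24 (Nat.shiftLeft WPI_p25 16000)) 32000)) (Nat.shiftLeft (Nat.lor (Nat.lor WPI_p26 (Nat.shiftLeft WPI_p27 16000)) (Nat.shiftLeft (Nat.lor WPI_p28 (Nat.shiftLeft WPI_p29 16000)) 32000)) 64000)) 112000)) 240000)) (Nat.shiftLeft (Nat.lor (Nat.lor (Nat.lor (Nat.lor WPI_p30 (Nat.shiftLeft (Nat.lor WPI_p31 (Nat.shiftLeft WPI_p32 16000)) 16000)) (Nat.shiftLeft (Nat.lor (Nat.lor WPI_p33 (Nat.shiftLeft WPI_p34 16000)) (Nat.shiftLeft (Nat.lor WPI_p35 (Nat.shiftLeft WPI_p36 16000)) 32000)) 48000)) (Nat.shiftLeft (Nat.lor (Nat.lor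 (Nat.lor WPI_p37 (Nat.shiftLeft WPI_p38 16000)) (Nat.shiftLeft (Nat.lor WPI_p39 (Nat.shiftLeft WPI_p40 16000)) 32000)) (Nat.shiftLeft (Nat.lor (Nat.lor WPI_p41 (Nat.shiftLeft WPI_p42 16000)) (Nat.shiftLeft (Nat.lor WPI_p43 (Nat.shiftLeft WPI_p44 16000)) 32000)) 64000)) 112000)) (Nat.shiftLeft (Nat.lor (Nat.lor (Nat.lor (Nat.lor WPI_p45 (Nat.shiftLeft WPI_p46 16000)) (Nat.shiftLeft (Nat.lor WPI_p47 (Nat.shiftLeft WPI_p48 16000)) 32000)) (Nat.shiftLeft (Nat.lor (Nat.lor WPI_p49 (Nat.shiftLeft WPI_p50 16000)) (Nat.shiftLeft (Nat.lor WPI_p51 (Nat.shiftLeft WPI_p52 16000)) 32000)) 64000)) (Nat.shiftLeft (Nat.lor (Nat.lor (Nat.lor WPI_p53 (Nat.shiftLeft WPI_p54 16000)) (Nat.shiftLeft (Nat.lor WPI_p55 (Nat.shiftLeft WPI_p56 16000)) 32000)) (Nat.shiftLeft (Nat.lor (Nat.lor WPI_p57 (Nat.shiftLeft WPI_p58 16000)) (Nat.shiftLeft (Nat.lor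 WPI_p59 (Nat.shiftLeft WPI_p60 16000)) 32000)) 64000)) 128000)) 240000)) 480000)) (Nat.shiftLeft (Nat.lor (Nat.lor (Nat.lor (Nat.lor (Nat.lor WPI_p61 (Nat.shiftLeft (Nat.lor WPI_p62 (Nat.shiftLeft WPI_p63 16000)) 16000)) (Nat.shiftLeft (Nat.lor (Nat.lor WPI_p64 (Nat.shiftLeft WPI_p65 16000)) (Nat.shiftLeft (Nat.lor WPI_p66 (Nat.shiftLeft WPI_p67 16000)) 32000)) 48000)) (Nat.shiftLeft (Nat.lor (Nat.lor (Nat.lor WPI_p68 (Nat.shiftLeft WPI_p69 16000)) (Nat.shiftLeft (Nat.lor WPI_p70 (Nat.shiftLeft WPI_p71 16000)) 32000)) (Nat.shiftLeft (Nat.lor (Nat.lor WPI_p72 (Nat.shiftLeft WPI_p73 16000)) (Nat.shiftLeft (Nat.lor WPI_p74 (Nat.shiftLeft WPI_p75 16000)) 32000)) 64000)) 112000)) (Nat.shiftLeft (Nat.lor (Nat.lor (Nat.lor (Nat.lor WPI_p76 (Nat.shiftLeft WPI_p77 16000)) (Nat.shiftLeft (Nat.lor WPI_p78 (Nat.shiftLeft WPI_p79 16000))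 32000)) (Nat.shiftLeft (Nat.lor (Nat.lor WPI_p80 (Nat.shiftLeft WPI_p81 16000)) (Nat.shiftLeft (Nat.lor WPI_p82 (Nat.shiftLeft WPI_p83 16000)) 32000)) 64000)) (Nat.shiftLeft (Nat.lor (Nat.lor (Nat.lor WPI_p84 (Nat.shiftLeft WPI_p85 16000)) (Nat.shiftLeft (Nat.lor WPI_p86 (Nat.shiftLeft WPI_p87 16000)) 32000)) (Nat.shiftLeft (Nat.lor (Nat.lor WPI_p88 (Nat.shiftLeft WPI_p89 16000)) (Nat.shiftLeft (Nat.lor WPI_p90 (Nat.shiftLeft WPI_p91 16000)) 32000)) 64000)) 128000)) 240000)) (Nat.shiftLeft (Nat.lor (Nat.lor (Nat.lor (Nat.lor WPI_p92 (Nat.shiftLeft (Nat.lor WPI_p93 (Nat.shiftLeft WPI_p94 16000)) 16000)) (Nat.shiftLeft (Nat.lor (Nat.lor WPI_p95 (Nat.shiftLeft WPI_p96 16000)) (Nat.shiftLeft (Nat.lor WPI_p97 (Nat.shiftLeft WPI_p98 16000)) 32000)) 48000)) (Nat.shiftLeft (Nat.lor (Nat.lor (Nat.lor WPI_p99 (Nat.shiftLeft WPI_p100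 16000)) (Nat.shiftLeft (Nat.lor WPI_p101 (Nat.shiftLeft WPI_p102 16000)) 32000)) (Nat.shiftLeft (Nat.lor (Nat.lor WPI_p103 (Nat.shiftLeft WPI_p104 16000)) (Nat.shiftLeft (Nat.lor WPI_p105 (Nat.shiftLeft WPI_p106 16000)) 32000)) 64000)) 112000)) (Nat.shiftLeft (Nat.lor (Nat.lor (Nat.lor (Nat.lor WPI_p107 (Nat.shiftLeft WPI_p108 16000)) (Nat.shiftLeft (Nat.lor WPI_p109 (Nat.shiftLeft WPI_p110 16000)) 32000)) (Nat.shiftLeft (Nat.lor (Nat.lor WPI_p111 (Nat.shiftLeft WPI_p112 16000)) (Nat.shiftLeft (Nat.lor WPI_p113 (Nat.shiftLeft WPI_p114 16000)) 32000)) 64000)) (Nat.shiftLeft (Nat.lor (Nat.lor (Nat.lor WPI_p115 (Nat.shiftLeft WPI_p116 16000)) (Nat.shiftLeft (Nat.lor WPI_p117 (Nat.shiftLeft WPI_p118 16000)) 32000)) (Nat.shiftLeft (Nat.lor (Nat.lor WPI_p119 (Nat.shiftLeft WPI_p120 16000)) (Nat.shiftLeft (Nat.lor WPI_p121 (Nat.shiftLeft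 WPI_p122 16000)) 32000)) 64000)) 128000)) 240000)) 496000)) 976000))
noncomputable def WPI_M1 : Nat := Nat.sub (Nat.shiftLeft 1 32768) 1
noncomputable def WPI_M2 : Nat := Nat.sub (Nat.shiftLeft 1 256) 1
noncomputable def WPI_L1 (b : Nat) : Nat := Nat.land (Nat.shiftRight WPI_T (Nat.mul b 32768)) WPI_M1
noncomputable def WPI_L2 (b : Nat) : Nat :=
  force (Nat.shiftRight b 7) fun c => Nat.land (Nat.shiftRight (WPI_L1 c) (Nat.mul (Nat.land b 127) 256)) WPI_M2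
noncomputable def WPI (p : Nat) : Nat :=
  force (Nat.shiftRight p 5) fun c => Nat.land (Nat.shiftRight (WPI_L2 c) (Nat.mul (Nat.land p 31) 8)) 255

def sqL : List Nat := [0, 0, 0, 1, 0, 5, 1, 8, 160]
def wlL : List Nat := [0, 0, 1, 1, 1, 1, 1, 1, 1]
def wsL : List Nat := [1, 2, 1, 2, 4, 8, 16, 32, 64]
def wbL : List Nat := [1, 0]
def wmL : List Nat := [4, 128]
noncomputable def SS : PcD where
  off := 31
  a := 9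
  sq := fun k => sqL.getD k 0
  cn := SCN
  wl := fun k => wlL.getD k 0
  ws := fun k => wsL.getD k 0
  wb := fun k => wbL.getD k 0
  wpt := fun l i => WPT (Nat.add (Nat.mul l 128) i)
  wpi := fun l q => WPI (Nat.add (Nat.mul l 122760) q)
  wm := fun k => wmL.getD k 0
  lv := 2
  pk := SPK

noncomputable def IX_T : Nat := (Nat.lor (Nat.lor (Nat.lor (Nat.lor (Nat.lor (Nat.lor (Nat.lor IX_p0 (Nat.shiftLeft IX_p1 15997)) (Nat.shiftLeft (Nat.lor IX_p2 (Nat.shiftLeft IX_p3 15997)) 31994)) (Nat.shiftLeft (Nat.lor (Nat.lor IX_p4 (Nat.shiftLeft IX_p5 15997)) (Nat.shiftLeft (Nat.lor IX_p6 (Nat.shiftLeft IX_p7 15997)) 31994)) 63988)) (Nat.shiftLeft (Nat.lor (Nat.lor (Nat.lor IX_p8 (Nat.shiftLeft IX_p9 15997)) (Nat.shiftLeft (Nat.lor IX_p10 (Nat.shiftLeft IX_p11 15997)) 31994)) (Nat.shiftLeft (Nat.lor (Nat.lor IX_p12 (Nat.shiftLeft IX_p13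 15997)) (Nat.shiftLeft (Nat.lor IX_p14 (Nat.shiftLeft IX_p15 15997)) 31994)) 63988)) 127976)) (Nat.shiftLeft (Nat.lor (Nat.lor (Nat.lor (Nat.lor IX_p16 (Nat.shiftLeft IX_p17 15997)) (Nat.shiftLeft (Nat.lor IX_p18 (Nat.shiftLeft IX_p19 15997)) 31994)) (Nat.shiftLeft (Nat.lor (Nat.lor IX_p20 (Nat.shiftLeft IX_p21 15997)) (Nat.shiftLeft (Nat.lor IX_p22 (Nat.shiftLeft IX_p23 15997)) 31994)) 63988)) (Nat.shiftLeft (Nat.lor (Nat.lor (Nat.lor IX_p24 (Nat.shiftLeft IX_p25 15997)) (Nat.shiftLeft (Nat.lor IX_p26 (Nat.shiftLeft IX_p27 15997)) 31994)) (Nat.shiftLeft (Nat.lor (Nat.lor IX_p28 (Nat.shiftLeft IX_p29 15997)) (Nat.shiftLeft (Nat.lor IX_p30 (Nat.shiftLeft IX_p31 15997)) 31994)) 63988)) 127976)) 255952)) (Nat.shiftLeft (Nat.lor (Nat.lor (Nat.lor (Nat.lor (Nat.lor IX_p32 (Nat.shiftLeft IX_p33 15997)) (Nat.shiftLeft (Nat.lor IX_p34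 (Nat.shiftLeft IX_p35 15997)) 31994)) (Nat.shiftLeft (Nat.lor (Nat.lor IX_p36 (Nat.shiftLeft IX_p37 15997)) (Nat.shiftLeft (Nat.lor IX_p38 (Nat.shiftLeft IX_p39 15997)) 31994)) 63988)) (Nat.shiftLeft (Nat.lor (Nat.lor (Nat.lor IX_p40 (Nat.shiftLeft IX_p41 15997)) (Nat.shiftLeft (Nat.lor IX_p42 (Nat.shiftLeft IX_p43 15997)) 31994)) (Nat.shiftLeft (Nat.lor (Nat.lor IX_p44 (Nat.shiftLeft IX_p45 15997)) (Nat.shiftLeft (Nat.lor IX_p46 (Nat.shiftLeft IX_p47 15997)) 31994)) 63988)) 127976)) (Nat.shiftLeft (Nat.lor (Nat.lor (Nat.lor (Nat.lor IX_p48 (Nat.shiftLeft IX_p49 15997)) (Nat.shiftLeft (Nat.lor IX_p50 (Nat.shiftLeft IX_p51 15997)) 31994)) (Nat.shiftLeft (Nat.lor (Nat.lor IX_p52 (Nat.shiftLeft IX_p53 15997)) (Nat.shiftLeft (Nat.lor IX_p54 (Nat.shiftLeft IX_p55 15997)) 31994)) 63988)) (Nat.shiftLeft (Nat.lor (Nat.lor (Nat.lor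 IX_p56 (Nat.shiftLeft IX_p57 15997)) (Nat.shiftLeft (Nat.lor IX_p58 (Nat.shiftLeft IX_p59 15997)) 31994)) (Nat.shiftLeft (Nat.lor (Nat.lor IX_p60 (Nat.shiftLeft IX_p61 15997)) (Nat.shiftLeft (Nat.lor IX_p62 (Nat.shiftLeft (Nat.lor IX_p63 (Nat.shiftLeft IX_p64 15997)) 15997)) 31994)) 63988)) 127976)) 255952)) 511904)) (Nat.shiftLeft (Nat.lor (Nat.lor (Nat.lor (Nat.lor (Nat.lor (Nat.lor IX_p65 (Nat.shiftLeft IX_p66 15997)) (Nat.shiftLeft (Nat.lor IX_p67 (Nat.shiftLeft IX_p68 15997)) 31994)) (Nat.shiftLeft (Nat.lor (Nat.lor IX_p69 (Nat.shiftLeft IX_p70 15997)) (Nat.shiftLeft (Nat.lor IX_p71 (Nat.shiftLeft IX_p72 15997)) 31994)) 63988)) (Nat.shiftLeft (Nat.lor (Nat.lor (Nat.lor IX_p73 (Nat.shiftLeft IX_p74 15997)) (Nat.shiftLeft (Nat.lor IX_p75 (Nat.shiftLeft IX_p76 15997)) 31994)) (Nat.shiftLeft (Nat.lor (Nat.lor IX_p77 (Nat.shiftLeft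 IX_p78 15997)) (Nat.shiftLeft (Nat.lor IX_p79 (Nat.shiftLeft IX_p80 15997)) 31994)) 63988)) 127976)) (Nat.shiftLeft (Nat.lor (Nat.lor (Nat.lor (Nat.lor IX_p81 (Nat.shiftLeft IX_p82 15997)) (Nat.shiftLeft (Nat.lor IX_p83 (Nat.shiftLeft IX_p84 15997)) 31994)) (Nat.shiftLeft (Nat.lor (Nat.lor IX_p85 (Nat.shiftLeft IX_p86 15997)) (Nat.shiftLeft (Nat.lor IX_p87 (Nat.shiftLeft IX_p88 15997)) 31994)) 63988)) (Nat.shiftLeft (Nat.lor (Nat.lor (Nat.lor IX_p89 (Nat.shiftLeft IX_p90 15997)) (Nat.shiftLeft (Nat.lor IX_p91 (Nat.shiftLeft IX_p92 15997)) 31994)) (Nat.shiftLeft (Nat.lor (Nat.lor IX_p93 (Nat.shiftLeft IX_p94 15997)) (Nat.shiftLeft (Nat.lor IX_p95 (Nat.shiftLeft (Nat.lor IX_p96 (Nat.shiftLeft IX_p97 15997)) 15997)) 31994)) 63988)) 127976)) 255952)) (Nat.shiftLeft (Nat.lor (Nat.lor (Nat.lor (Nat.lor (Nat.lor IX_p98 (Nat.shiftLeft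 IX_p99 15997)) (Nat.shiftLeft (Nat.lor IX_p100 (Nat.shiftLeft IX_p101 15997)) 31994)) (Nat.shiftLeft (Nat.lor (Nat.lor IX_p102 (Nat.shiftLeft IX_p103 15997)) (Nat.shiftLeft (Nat.lor IX_p104 (Nat.shiftLeft IX_p105 15997)) 31994)) 63988)) (Nat.shiftLeft (Nat.lor (Nat.lor (Nat.lor IX_p106 (Nat.shiftLeft IX_p107 15997)) (Nat.shiftLeft (Nat.lor IX_p108 (Nat.shiftLeft IX_p109 15997)) 31994)) (Nat.shiftLeft (Nat.lor (Nat.lor IX_p110 (Nat.shiftLeft IX_p111 15997)) (Nat.shiftLeft (Nat.lor IX_p112 (Nat.shiftLeft IX_p113 15997)) 31994)) 63988)) 127976)) (Nat.shiftLeft (Nat.lor (Nat.lor (Nat.lor (Nat.lor IX_p114 (Nat.shiftLeft IX_p115 15997)) (Nat.shiftLeft (Nat.lor IX_p116 (Nat.shiftLeft IX_p117 15997)) 31994)) (Nat.shiftLeft (Nat.lor (Nat.lor IX_p118 (Nat.shiftLeft IX_p119 15997)) (Nat.shiftLeft (Nat.lor IX_p120 (Nat.shiftLeft IX_p121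 15997)) 31994)) 63988)) (Nat.shiftLeft (Nat.lor (Nat.lor (Nat.lor IX_p122 (Nat.shiftLeft IX_p123 15997)) (Nat.shiftLeft (Nat.lor IX_p124 (Nat.shiftLeft IX_p125 15997)) 31994)) (Nat.shiftLeft (Nat.lor (Nat.lor IX_p126 (Nat.shiftLeft IX_p127 15997)) (Nat.shiftLeft (Nat.lor IX_p128 (Nat.shiftLeft (Nat.lor IX_p129 (Nat.shiftLeft IX_p130 15997)) 15997)) 31994)) 63988)) 127976)) 255952)) 527901)) 1039805))
noncomputable def IX_M1 : Nat := Nat.sub (Nat.shiftLeft 1 69632) 1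
noncomputable def IX_M2 : Nat := Nat.sub (Nat.shiftLeft 1 544) 1
noncomputable def IX_L1 (b : Nat) : Nat := Nat.land (Nat.shiftRight IX_T (Nat.mul b 69632)) IX_M1
noncomputable def IX_L2 (b : Nat) : Nat :=
  force (Nat.shiftRight b 7) fun c => Nat.land (Nat.shiftRight (IX_L1 c) (Nat.mul (Nat.land b 127) 544)) IX_M2
noncomputable def IX (p : Nat) : Nat :=
  force (Nat.shiftRight p 5) fun c => Nat.land (Nat.shiftRight (IX_L2 c) (Nat.mul (Nat.land p 31) 17)) 131071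

noncomputable def U1T : Nat := nat_lit 0x4741eaf5f3ee92eeb0d438df587fdbcdec5b254762909de15948c54028f69f62a83a44f8b342f0332431316af098c177449cf69b98ac1016bf936df2e4525ee5ce3a
noncomputable def U1 (e : Nat) : Nat := Nat.land (Nat.shiftRight U1T (Nat.mul e 17)) 131071

noncomputable def U2T : Nat := nat_lit 0x4d94a50875d873fdcdd5029347dca09e0d28b7c406cac39dfafb1eca535a5ed231cf3ea6e7ec4aee310db11869f2f0ce6426963402f2dabb8990f520649819182dc8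
noncomputable def U2 (e : Nat) : Nat := Nat.land (Nat.shiftRight U2T (Nat.mul e 17)) 131071

noncomputable def U3T : Nat := nat_lit 0x6d1d773d42f4f19b72ad2c8faf92797e7d62f0e0f71c1198a7459bd5e5733f8cdb8cf1a247d342f3be4c81dbb24235b4eab76c64a8e6df495f114229b7b57911671d
noncomputable def U3 (e : Nat) : Nat := Nat.land (Nat.shiftRight U3T (Nat.mul e 17)) 131071

noncomputable def WW_T : Nat := (Nat.lor (Nat.lor (Nat.lor (Nat.lor (Nat.lor (Nat.lor (Nat.lor (Nat.lor WW_p0 (Nat.shiftLeft WW_p1 15960)) (Nat.shiftLeft (Nat.lor WW_p2 (Nat.shiftLeft (Nat.lor WW_p3 (Nat.shiftLeft WW_p4 15960)) 15960)) 31920)) (Nat.shiftLeft (Nat.lor (Nat.lor WW_p5 (Nat.shiftLeft WW_p6 15960)) (Nat.shiftLeft (Nat.lor WW_p7 (Nat.shiftLeft (Nat.lor WW_p8 (Nat.shiftLeft WW_p9 15960)) 15960)) 31920)) 79800)) (Nat.shiftLeft (Nat.lor (Nat.lor (Nat.lor WW_p10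 (Nat.shiftLeft WW_p11 15960)) (Nat.shiftLeft (Nat.lor WW_p12 (Nat.shiftLeft (Nat.lor WW_p13 (Nat.shiftLeft WW_p14 15960)) 15960)) 31920)) (Nat.shiftLeft (Nat.lor (Nat.lor WW_p15 (Nat.shiftLeft (Nat.lor WW_p16 (Nat.shiftLeft WW_p17 15960)) 15960)) (Nat.shiftLeft (Nat.lor WW_p18 (Nat.shiftLeft (Nat.lor WW_p19 (Nat.shiftLeft WW_p20 15960)) 15960)) 47880)) 79800)) 159600)) (Nat.shiftLeft (Nat.lor (Nat.lor (Nat.lor (Nat.lor WW_p21 (Nat.shiftLeft WW_p22 15960)) (Nat.shiftLeft (Nat.lor WW_p23 (Nat.shiftLeft (Nat.lor WW_p24 (Nat.shiftLeft WW_p25 15960)) 15960)) 31920)) (Nat.shiftLeft (Nat.lor (Nat.lor WW_p26 (Nat.shiftLeft (Nat.lor WW_p27 (Nat.shiftLeft WW_p28 15960)) 15960)) (Nat.shiftLeft (Nat.lor WW_p29 (Nat.shiftLeft (Nat.lor WW_p30 (Nat.shiftLeft WW_p31 15960)) 15960)) 47880)) 79800)) (Nat.shiftLeft (Nat.lor (Nat.lor (Nat.lor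 WW_p32 (Nat.shiftLeft WW_p33 15960)) (Nat.shiftLeft (Nat.lor WW_p34 (Nat.shiftLeft (Nat.lor WW_p35 (Nat.shiftLeft WW_p36 15960)) 15960)) 31920)) (Nat.shiftLeft (Nat.lor (Nat.lor WW_p37 (Nat.shiftLeft (Nat.lor WW_p38 (Nat.shiftLeft WW_p39 15960)) 15960)) (Nat.shiftLeft (Nat.lor WW_p40 (Nat.shiftLeft (Nat.lor WW_p41 (Nat.shiftLeft WW_p42 15960)) 15960)) 47880)) 79800)) 175560)) 335160)) (Nat.shiftLeft (Nat.lor (Nat.lor (Nat.lor (Nat.lor (Nat.lor WW_p43 (Nat.shiftLeft WW_p44 15960)) (Nat.shiftLeft (Nat.lor WW_p45 (Nat.shiftLeft (Nat.lor WW_p46 (Nat.shiftLeft WW_p47 15960)) 15960)) 31920)) (Nat.shiftLeft (Nat.lor (Nat.lor WW_p48 (Nat.shiftLeft WW_p49 15960)) (Nat.shiftLeft (Nat.lor WW_p50 (Nat.shiftLeft (Nat.lor WW_p51 (Nat.shiftLeft WW_p52 15960)) 15960)) 31920)) 79800)) (Nat.shiftLeft (Nat.lor (Nat.lor (Nat.lor WW_p53 (Nat.shiftLeft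 WW_p54 15960)) (Nat.shiftLeft (Nat.lor WW_p55 (Nat.shiftLeft (Nat.lor WW_p56 (Nat.shiftLeft WW_p57 15960)) 15960)) 31920)) (Nat.shiftLeft (Nat.lor (Nat.lor WW_p58 (Nat.shiftLeft (Nat.lor WW_p59 (Nat.shiftLeft WW_p60 15960)) 15960)) (Nat.shiftLeft (Nat.lor WW_p61 (Nat.shiftLeft (Nat.lor WW_p62 (Nat.shiftLeft WW_p63 15960)) 15960)) 47880)) 79800)) 159600)) (Nat.shiftLeft (Nat.lor (Nat.lor (Nat.lor (Nat.lor WW_p64 (Nat.shiftLeft WW_p65 15960)) (Nat.shiftLeft (Nat.lor WW_p66 (Nat.shiftLeft (Nat.lor WW_p67 (Nat.shiftLeft WW_p68 15960)) 15960)) 31920)) (Nat.shiftLeft (Nat.lor (Nat.lor WW_p69 (Nat.shiftLeft (Nat.lor WW_p70 (Nat.shiftLeft WW_p71 15960)) 15960)) (Nat.shiftLeft (Nat.lor WW_p72 (Nat.shiftLeft (Nat.lor WW_p73 (Nat.shiftLeft WW_p74 15960)) 15960)) 47880)) 79800)) (Nat.shiftLeft (Nat.lor (Nat.lor (Nat.lor WW_p75 (Nat.shiftLeft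 WW_p76 15960)) (Nat.shiftLeft (Nat.lor WW_p77 (Nat.shiftLeft (Nat.lor WW_p78 (Nat.shiftLeft WW_p79 15960)) 15960)) 31920)) (Nat.shiftLeft (Nat.lor (Nat.lor WW_p80 (Nat.shiftLeft (Nat.lor WW_p81 (Nat.shiftLeft WW_p82 15960)) 15960)) (Nat.shiftLeft (Nat.lor WW_p83 (Nat.shiftLeft (Nat.lor WW_p84 (Nat.shiftLeft WW_p85 15960)) 15960)) 47880)) 79800)) 175560)) 335160)) 686280)) (Nat.shiftLeft (Nat.lor (Nat.lor (Nat.lor (Nat.lor (Nat.lor (Nat.lor WW_p86 (Nat.shiftLeft WW_p87 15960)) (Nat.shiftLeft (Nat.lor WW_p88 (Nat.shiftLeft (Nat.lor WW_p89 (Nat.shiftLeft WW_p90 15960)) 15960)) 31920)) (Nat.shiftLeft (Nat.lor (Nat.lor WW_p91 (Nat.shiftLeft WW_p92 15960)) (Nat.shiftLeft (Nat.lor WW_p93 (Nat.shiftLeft (Nat.lor WW_p94 (Nat.shiftLeft WW_p95 15960)) 15960)) 31920)) 79800)) (Nat.shiftLeft (Nat.lor (Nat.lor (Nat.lor WW_p96 (Nat.shiftLeft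 WW_p97 15960)) (Nat.shiftLeft (Nat.lor WW_p98 (Nat.shiftLeft (Nat.lor WW_p99 (Nat.shiftLeft WW_p100 15960)) 15960)) 31920)) (Nat.shiftLeft (Nat.lor (Nat.lor WW_p101 (Nat.shiftLeft (Nat.lor WW_p102 (Nat.shiftLeft WW_p103 15960)) 15960)) (Nat.shiftLeft (Nat.lor WW_p104 (Nat.shiftLeft (Nat.lor WW_p105 (Nat.shiftLeft WW_p106 15960)) 15960)) 47880)) 79800)) 159600)) (Nat.shiftLeft (Nat.lor (Nat.lor (Nat.lor (Nat.lor WW_p107 (Nat.shiftLeft WW_p108 15960)) (Nat.shiftLeft (Nat.lor WW_p109 (Nat.shiftLeft (Nat.lor WW_p110 (Nat.shiftLeft WW_p111 15960)) 15960)) 31920)) (Nat.shiftLeft (Nat.lor (Nat.lor WW_p112 (Nat.shiftLeft (Nat.lor WW_p113 (Nat.shiftLeft WW_p114 15960)) 15960)) (Nat.shiftLeft (Nat.lor WW_p115 (Nat.shiftLeft (Nat.lor WW_p116 (Nat.shiftLeft WW_p117 15960)) 15960)) 47880)) 79800)) (Nat.shiftLeft (Nat.lor (Nat.lor (Nat.lor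 WW_p118 (Nat.shiftLeft WW_p119 15960)) (Nat.shiftLeft (Nat.lor WW_p120 (Nat.shiftLeft (Nat.lor WW_p121 (Nat.shiftLeft WW_p122 15960)) 15960)) 31920)) (Nat.shiftLeft (Nat.lor (Nat.lor WW_p123 (Nat.shiftLeft (Nat.lor WW_p124 (Nat.shiftLeft WW_p125 15960)) 15960)) (Nat.shiftLeft (Nat.lor WW_p126 (Nat.shiftLeft (Nat.lor WW_p127 (Nat.shiftLeft WW_p128 15960)) 15960)) 47880)) 79800)) 175560)) 335160)) (Nat.shiftLeft (Nat.lor (Nat.lor (Nat.lor (Nat.lor (Nat.lor WW_p129 (Nat.shiftLeft WW_p130 15960)) (Nat.shiftLeft (Nat.lor WW_p131 (Nat.shiftLeft (Nat.lor WW_p132 (Nat.shiftLeft WW_p133 15960)) 15960)) 31920)) (Nat.shiftLeft (Nat.lor (Nat.lor WW_p134 (Nat.shiftLeft (Nat.lor WW_p135 (Nat.shiftLeft WW_p136 15960)) 15960)) (Nat.shiftLeft (Nat.lor WW_p137 (Nat.shiftLeft (Nat.lor WW_p138 (Nat.shiftLeft WW_p139 15960)) 15960)) 47880)) 79800))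 (Nat.shiftLeft (Nat.lor (Nat.lor (Nat.lor WW_p140 (Nat.shiftLeft WW_p141 15960)) (Nat.shiftLeft (Nat.lor WW_p142 (Nat.shiftLeft (Nat.lor WW_p143 (Nat.shiftLeft WW_p144 15960)) 15960)) 31920)) (Nat.shiftLeft (Nat.lor (Nat.lor WW_p145 (Nat.shiftLeft (Nat.lor WW_p146 (Nat.shiftLeft WW_p147 15960)) 15960)) (Nat.shiftLeft (Nat.lor WW_p148 (Nat.shiftLeft (Nat.lor WW_p149 (Nat.shiftLeft WW_p150 15960)) 15960)) 47880)) 79800)) 175560)) (Nat.shiftLeft (Nat.lor (Nat.lor (Nat.lor (Nat.lor WW_p151 (Nat.shiftLeft WW_p152 15960)) (Nat.shiftLeft (Nat.lor WW_p153 (Nat.shiftLeft (Nat.lor WW_p154 (Nat.shiftLeft WW_p155 15960)) 15960)) 31920)) (Nat.shiftLeft (Nat.lor (Nat.lor WW_p156 (Nat.shiftLeft (Nat.lor WW_p157 (Nat.shiftLeft WW_p158 15960)) 15960)) (Nat.shiftLeft (Nat.lor WW_p159 (Nat.shiftLeft (Nat.lor WW_p160 (Nat.shiftLeft WW_p161 15960))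 15960)) 47880)) 79800)) (Nat.shiftLeft (Nat.lor (Nat.lor (Nat.lor WW_p162 (Nat.shiftLeft WW_p163 15960)) (Nat.shiftLeft (Nat.lor WW_p164 (Nat.shiftLeft (Nat.lor WW_p165 (Nat.shiftLeft WW_p166 15960)) 15960)) 31920)) (Nat.shiftLeft (Nat.lor (Nat.lor WW_p167 (Nat.shiftLeft (Nat.lor WW_p168 (Nat.shiftLeft WW_p169 15960)) 15960)) (Nat.shiftLeft (Nat.lor WW_p170 (Nat.shiftLeft (Nat.lor WW_p171 (Nat.shiftLeft WW_p172 15960)) 15960)) 47880)) 79800)) 175560)) 351120)) 686280)) 1372560)) (Nat.shiftLeft (Nat.lor (Nat.lor (Nat.lor (Nat.lor (Nat.lor (Nat.lor (Nat.lor WW_p173 (Nat.shiftLeft WW_p174 15960)) (Nat.shiftLeft (Nat.lor WW_p175 (Nat.shiftLeft (Nat.lor WW_p176 (Nat.shiftLeft WW_p177 15960)) 15960)) 31920)) (Nat.shiftLeft (Nat.lor (Nat.lor WW_p178 (Nat.shiftLeft WW_p179 15960)) (Nat.shiftLeft (Nat.lor WW_p180 (Nat.shiftLeft (Nat.lor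 WW_p181 (Nat.shiftLeft WW_p182 15960)) 15960)) 31920)) 79800)) (Nat.shiftLeft (Nat.lor (Nat.lor (Nat.lor WW_p183 (Nat.shiftLeft WW_p184 15960)) (Nat.shiftLeft (Nat.lor WW_p185 (Nat.shiftLeft (Nat.lor WW_p186 (Nat.shiftLeft WW_p187 15960)) 15960)) 31920)) (Nat.shiftLeft (Nat.lor (Nat.lor WW_p188 (Nat.shiftLeft (Nat.lor WW_p189 (Nat.shiftLeft WW_p190 15960)) 15960)) (Nat.shiftLeft (Nat.lor WW_p191 (Nat.shiftLeft (Nat.lor WW_p192 (Nat.shiftLeft WW_p193 15960)) 15960)) 47880)) 79800)) 159600)) (Nat.shiftLeft (Nat.lor (Nat.lor (Nat.lor (Nat.lor WW_p194 (Nat.shiftLeft WW_p195 15960)) (Nat.shiftLeft (Nat.lor WW_p196 (Nat.shiftLeft (Nat.lor WW_p197 (Nat.shiftLeft WW_p198 15960)) 15960)) 31920)) (Nat.shiftLeft (Nat.lor (Nat.lor WW_p199 (Nat.shiftLeft (Nat.lor WW_p200 (Nat.shiftLeft WW_p201 15960)) 15960)) (Nat.shiftLeft (Nat.lor WW_p202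 (Nat.shiftLeft (Nat.lor WW_p203 (Nat.shiftLeft WW_p204 15960)) 15960)) 47880)) 79800)) (Nat.shiftLeft (Nat.lor (Nat.lor (Nat.lor WW_p205 (Nat.shiftLeft WW_p206 15960)) (Nat.shiftLeft (Nat.lor WW_p207 (Nat.shiftLeft (Nat.lor WW_p208 (Nat.shiftLeft WW_p209 15960)) 15960)) 31920)) (Nat.shiftLeft (Nat.lor (Nat.lor WW_p210 (Nat.shiftLeft (Nat.lor WW_p211 (Nat.shiftLeft WW_p212 15960)) 15960)) (Nat.shiftLeft (Nat.lor WW_p213 (Nat.shiftLeft (Nat.lor WW_p214 (Nat.shiftLeft WW_p215 15960)) 15960)) 47880)) 79800)) 175560)) 335160)) (Nat.shiftLeft (Nat.lor (Nat.lor (Nat.lor (Nat.lor (Nat.lor WW_p216 (Nat.shiftLeft WW_p217 15960)) (Nat.shiftLeft (Nat.lor WW_p218 (Nat.shiftLeft (Nat.lor WW_p219 (Nat.shiftLeft WW_p220 15960)) 15960)) 31920)) (Nat.shiftLeft (Nat.lor (Nat.lor WW_p221 (Nat.shiftLeft (Nat.lor WW_p222 (Nat.shiftLeft WW_p223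 15960)) 15960)) (Nat.shiftLeft (Nat.lor WW_p224 (Nat.shiftLeft (Nat.lor WW_p225 (Nat.shiftLeft WW_p226 15960)) 15960)) 47880)) 79800)) (Nat.shiftLeft (Nat.lor (Nat.lor (Nat.lor WW_p227 (Nat.shiftLeft WW_p228 15960)) (Nat.shiftLeft (Nat.lor WW_p229 (Nat.shiftLeft (Nat.lor WW_p230 (Nat.shiftLeft WW_p231 15960)) 15960)) 31920)) (Nat.shiftLeft (Nat.lor (Nat.lor WW_p232 (Nat.shiftLeft (Nat.lor WW_p233 (Nat.shiftLeft WW_p234 15960)) 15960)) (Nat.shiftLeft (Nat.lor WW_p235 (Nat.shiftLeft (Nat.lor WW_p236 (Nat.shiftLeft WW_p237 15960)) 15960)) 47880)) 79800)) 175560)) (Nat.shiftLeft (Nat.lor (Nat.lor (Nat.lor (Nat.lor WW_p238 (Nat.shiftLeft WW_p239 15960)) (Nat.shiftLeft (Nat.lor WW_p240 (Nat.shiftLeft (Nat.lor WW_p241 (Nat.shiftLeft WW_p242 15960)) 15960)) 31920)) (Nat.shiftLeft (Nat.lor (Nat.lor WW_p243 (Nat.shiftLeft (Nat.lor WW_p244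 (Nat.shiftLeft WW_p245 15960)) 15960)) (Nat.shiftLeft (Nat.lor WW_p246 (Nat.shiftLeft (Nat.lor WW_p247 (Nat.shiftLeft WW_p248 15960)) 15960)) 47880)) 79800)) (Nat.shiftLeft (Nat.lor (Nat.lor (Nat.lor WW_p249 (Nat.shiftLeft WW_p250 15960)) (Nat.shiftLeft (Nat.lor WW_p251 (Nat.shiftLeft (Nat.lor WW_p252 (Nat.shiftLeft WW_p253 15960)) 15960)) 31920)) (Nat.shiftLeft (Nat.lor (Nat.lor WW_p254 (Nat.shiftLeft (Nat.lor WW_p255 (Nat.shiftLeft WW_p256 15960)) 15960)) (Nat.shiftLeft (Nat.lor WW_p257 (Nat.shiftLeft (Nat.lor WW_p258 (Nat.shiftLeft WW_p259 15960)) 15960)) 47880)) 79800)) 175560)) 351120)) 686280)) (Nat.shiftLeft (Nat.lor (Nat.lor (Nat.lor (Nat.lor (Nat.lor (Nat.lor WW_p260 (Nat.shiftLeft WW_p261 15960)) (Nat.shiftLeft (Nat.lor WW_p262 (Nat.shiftLeft (Nat.lor WW_p263 (Nat.shiftLeft WW_p264 15960)) 15960)) 31920)) (Nat.shiftLeft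 (Nat.lor (Nat.lor WW_p265 (Nat.shiftLeft WW_p266 15960)) (Nat.shiftLeft (Nat.lor WW_p267 (Nat.shiftLeft (Nat.lor WW_p268 (Nat.shiftLeft WW_p269 15960)) 15960)) 31920)) 79800)) (Nat.shiftLeft (Nat.lor (Nat.lor (Nat.lor WW_p270 (Nat.shiftLeft WW_p271 15960)) (Nat.shiftLeft (Nat.lor WW_p272 (Nat.shiftLeft (Nat.lor WW_p273 (Nat.shiftLeft WW_p274 15960)) 15960)) 31920)) (Nat.shiftLeft (Nat.lor (Nat.lor WW_p275 (Nat.shiftLeft (Nat.lor WW_p276 (Nat.shiftLeft WW_p277 15960)) 15960)) (Nat.shiftLeft (Nat.lor WW_p278 (Nat.shiftLeft (Nat.lor WW_p279 (Nat.shiftLeft WW_p280 15960)) 15960)) 47880)) 79800)) 159600)) (Nat.shiftLeft (Nat.lor (Nat.lor (Nat.lor (Nat.lor WW_p281 (Nat.shiftLeft WW_p282 15960)) (Nat.shiftLeft (Nat.lor WW_p283 (Nat.shiftLeft (Nat.lor WW_p284 (Nat.shiftLeft WW_p285 15960)) 15960)) 31920)) (Nat.shiftLeft (Nat.lor (Nat.lor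 WW_p286 (Nat.shiftLeft (Nat.lor WW_p287 (Nat.shiftLeft WW_p288 15960)) 15960)) (Nat.shiftLeft (Nat.lor WW_p289 (Nat.shiftLeft (Nat.lor WW_p290 (Nat.shiftLeft WW_p291 15960)) 15960)) 47880)) 79800)) (Nat.shiftLeft (Nat.lor (Nat.lor (Nat.lor WW_p292 (Nat.shiftLeft WW_p293 15960)) (Nat.shiftLeft (Nat.lor WW_p294 (Nat.shiftLeft (Nat.lor WW_p295 (Nat.shiftLeft WW_p296 15960)) 15960)) 31920)) (Nat.shiftLeft (Nat.lor (Nat.lor WW_p297 (Nat.shiftLeft (Nat.lor WW_p298 (Nat.shiftLeft WW_p299 15960)) 15960)) (Nat.shiftLeft (Nat.lor WW_p300 (Nat.shiftLeft (Nat.lor WW_p301 (Nat.shiftLeft WW_p302 15960)) 15960)) 47880)) 79800)) 175560)) 335160)) (Nat.shiftLeft (Nat.lor (Nat.lor (Nat.lor (Nat.lor (Nat.lor WW_p303 (Nat.shiftLeft WW_p304 15960)) (Nat.shiftLeft (Nat.lor WW_p305 (Nat.shiftLeft (Nat.lor WW_p306 (Nat.shiftLeft WW_p307 15960)) 15960))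 31920)) (Nat.shiftLeft (Nat.lor (Nat.lor WW_p308 (Nat.shiftLeft (Nat.lor WW_p309 (Nat.shiftLeft WW_p310 15960)) 15960)) (Nat.shiftLeft (Nat.lor WW_p311 (Nat.shiftLeft (Nat.lor WW_p312 (Nat.shiftLeft WW_p313 15960)) 15960)) 47880)) 79800)) (Nat.shiftLeft (Nat.lor (Nat.lor (Nat.lor WW_p314 (Nat.shiftLeft WW_p315 15960)) (Nat.shiftLeft (Nat.lor WW_p316 (Nat.shiftLeft (Nat.lor WW_p317 (Nat.shiftLeft WW_p318 15960)) 15960)) 31920)) (Nat.shiftLeft (Nat.lor (Nat.lor WW_p319 (Nat.shiftLeft (Nat.lor WW_p320 (Nat.shiftLeft WW_p321 15960)) 15960)) (Nat.shiftLeft (Nat.lor WW_p322 (Nat.shiftLeft (Nat.lor WW_p323 (Nat.shiftLeft WW_p324 15960)) 15960)) 47880)) 79800)) 175560)) (Nat.shiftLeft (Nat.lor (Nat.lor (Nat.lor (Nat.lor WW_p325 (Nat.shiftLeft WW_p326 15960)) (Nat.shiftLeft (Nat.lor WW_p327 (Nat.shiftLeft (Nat.lor WW_p328 (Nat.shiftLeft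 WW_p329 15960)) 15960)) 31920)) (Nat.shiftLeft (Nat.lor (Nat.lor WW_p330 (Nat.shiftLeft (Nat.lor WW_p331 (Nat.shiftLeft WW_p332 15960)) 15960)) (Nat.shiftLeft (Nat.lor WW_p333 (Nat.shiftLeft (Nat.lor WW_p334 (Nat.shiftLeft WW_p335 15960)) 15960)) 47880)) 79800)) (Nat.shiftLeft (Nat.lor (Nat.lor (Nat.lor WW_p336 (Nat.shiftLeft WW_p337 15960)) (Nat.shiftLeft (Nat.lor WW_p338 (Nat.shiftLeft (Nat.lor WW_p339 (Nat.shiftLeft WW_p340 15960)) 15960)) 31920)) (Nat.shiftLeft (Nat.lor (Nat.lor WW_p341 (Nat.shiftLeft (Nat.lor WW_p342 (Nat.shiftLeft WW_p343 15960)) 15960)) (Nat.shiftLeft (Nat.lor WW_p344 (Nat.shiftLeft (Nat.lor WW_p345 (Nat.shiftLeft WW_p346 15960)) 15960)) 47880)) 79800)) 175560)) 351120)) 686280)) 1388520)) 2761080))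
noncomputable def WW_M1 : Nat := Nat.sub (Nat.shiftLeft 1 245760) 1
noncomputable def WW_M2 : Nat := Nat.sub (Nat.shiftLeft 1 1920) 1
noncomputable def WW_L1 (b : Nat) : Nat := Nat.land (Nat.shiftRight WW_T (Nat.mul b 245760)) WW_M1
noncomputable def WW_L2 (b : Nat) : Nat :=
  force (Nat.shiftRight b 7) fun c => Nat.land (Nat.shiftRight (WW_L1 c) (Nat.mul (Nat.land b 127) 1920)) WW_M2
noncomputable def WW (p : Nat) : Nat :=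
  force (Nat.shiftRight p 5) fun c => Nat.land (Nat.shiftRight (WW_L2 c) (Nat.mul (Nat.land p 31) 60)) 1152921504606846975

def Bs : List Nat := [0, 1, 2, 5]

def rs : List (List Bool × Nat × Nat) := [([true, false, true, false], 2, 122757),
  ([true, true, false], 11, 105778),
  ([true, true, true, false], 11, 97982),
  ([true, true, false, true, true, true, false, true, true, true, true, false], 8, 49133)]

def wcL : List (List Nat) := [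
  [18, 8, 19, 19, 8, 18, 8, 19, 8, 18, 8, 19, 19, 19, 19, 8, 18, 18, 18, 8, 19, 8, 19, 19, 19, 8, 19, 19, 19, 19, 19, 19, 8, 19, 19, 19, 19, 19],
  [18, 18, 18, 18, 18, 8, 18, 18, 18, 18, 18, 18, 8, 18, 18, 18, 8, 18, 8, 19, 19, 19, 8, 18, 18, 18, 18, 8, 19, 8, 18, 8, 19, 8, 18, 18, 8, 19],
  [18, 8, 18, 18, 18, 18, 8, 19, 19, 19, 19, 19, 19, 19, 19, 19, 8, 18, 18, 18, 8, 18, 8, 19, 8, 18, 18, 18, 18, 8, 18, 18, 8, 19, 8, 18, 8, 18, 18, 18, 8, 18, 18],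
  [19, 8, 18, 18, 18, 8, 19, 8, 18, 8, 19, 19, 19, 8, 19, 8, 18, 18, 18, 18, 8, 19, 8, 18, 8, 19, 19, 19, 19, 8, 18, 8, 18, 18, 18, 8, 19, 8, 18, 8, 19, 19, 19, 8, 18],
  [19, 19, 19, 8, 19, 19, 19, 19, 8, 19, 19, 8, 19, 19, 19, 19, 8, 19, 8, 18, 8, 19, 19, 19, 19, 19, 19, 19, 8, 18, 8, 19, 8, 19, 19, 19, 19, 8, 19, 19, 19],
  [19, 19, 19, 19, 19, 19, 19, 19, 8, 19, 8, 18, 18, 18, 18, 18, 8, 19, 19, 19, 19, 8, 18, 18, 18, 8, 18, 18, 8, 19, 19, 19, 8, 18, 18, 8, 18, 18, 18, 18, 18, 18, 18, 8, 19],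
  [19, 19, 8, 18, 18, 18, 8, 18, 18, 8, 18, 18, 18, 18, 8, 18, 18, 18, 8, 19, 19, 19, 8, 19, 19, 19, 19, 8, 19, 19, 8, 19, 19, 19, 8, 18, 18],
  [18, 8, 19, 19, 8, 18, 18, 18, 8, 18, 18, 8, 18, 18, 18, 18, 8, 18, 18, 18, 8, 19, 19, 19, 8, 19, 19, 19, 19, 8, 19, 19, 8, 19, 19, 19, 8, 18, 18, 8, 19]]
def wc (c : Nat) : List Nat := wcL.getD c []

def wYL : List (List Nat) := [
  [7, 6, 5, 2, 0, 5],
  [7, 5, 0, 5, 6, 7],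
  [2],
  [4, 2, 3, 0, 3, 1, 4],
  [7, 2, 0, 4, 0],
  [4, 5, 6, 7, 5, 6, 5, 2, 0, 6, 0, 5, 4, 6, 7],
  [6],
  [7, 2, 0, 6, 0]]
def wY (c : Nat) : List Nat := wYL.getD c []

noncomputable def mP : Nat → Bool := mchk 31 (n * n) WW (fun i => yV 31 IX U1 (DD.v F i)) (fun i e => Nat.add (Nat.mul (yV 31 IX U2 (DD.v F i) e) n) (yV 31 IX U3 (DD.v F i) e))


end Cfsg.Agent.Lib.PermComp.OutP.ONo
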