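import Cfsg.Agent.Lib.PermComp.OutP.ONo.ChkT0
import Cfsg.Agent.Lib.PermComp.OutP.ONo.ChkT1
import Cfsg.Agent.Lib.PermComp.OutP.ONo.ChkM0
import Cfsg.Agent.Lib.PermComp.OutP.ONo.ChkM1
import Cfsg.Agent.Lib.PermComp.OutP.ONo.ChkM2
import Cfsg.Agent.Lib.PermComp.OutP.ONo.ChkM3
import Cfsg.Agent.Lib.PermComp.OutP.ONo.ChkM4
import Cfsg.Agent.Lib.PermComp.OutP.ONo.ChkM5
import Cfsg.Agent.Lib.PermComp.OutP.ONo.ChkM6
import Cfsg.Agent.Lib.PermComp.OutP.ONo.ChkM7
import Cfsg.Agent.Lib.PermComp.OutP.ONo.ChkM8
import Cfsg.Agent.Lib.PermComp.OutP.ONo.ChkM9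
import Cfsg.Agent.Lib.PermComp.OutP.ONo.ChkM10
import Cfsg.Agent.Lib.PermComp.OutP.ONo.ChkM11
import Cfsg.Agent.Lib.PermComp.OutP.ONo.ChkM12
import Cfsg.Agent.Lib.PermComp.OutP.ONo.ChkM13
import Cfsg.Agent.Lib.PermComp.OutP.ONo.ChkM14
import Cfsg.Agent.Lib.PermComp.OutP.ONo.ChkM15
import Cfsg.Agent.Lib.PermComp.OutP.ONo.ChkL
import Cfsg.Agent.Lib.PermComp.OutP.ONo.ChkR
import Cfsg.Agent.Lib.PermComp.OutP.ONo.ChkP

set_option autoImplicit false
set_option maxRecDepth 100000
set_option maxHeartbeats 0

namespace Cfsg.Agent.Lib.PermComp.OutP.ONo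

open Cfsg Cfsg.Agent.Lib.PermComp.OutP
open Cfsg.Agent.Lib.PermComp.Core (force)
open Cfsg.Agent.Lib.PermComp.Kron (rangeAll rangeAll_spec)

theorem hn : 0 < n := by decide

theorem hlt : ∀ g < 41, 8 ≤ g → ∀ a ∈ prog g, a < g := by
  intro g hg _ a ha
  have h := range_of (p := fun g => Core.allL (fun a => Nat.blt a g) (prog g)) (lo := 0) (len := 41) (hi := 41) hlt_ck rfl g (Nat.zero_le _) hg
  exact blt_lt ((Core.allL_eq_true _ _).1 h a ha)

theorem hp : ∀ g < 41, 8 ≤ g → ∀ q < 122760, F g q = wApp F (prog g) q := by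
  intro g hg h2 q hq
  by_cases hr : g < 20
  · have h : progR F g (prog g) 0 122760 = true := by
      interval_cases g
      · exact hp_8
      · exact hp_9
      · exact hp_10
      · exact hp_11
      · exact hp_12
      · exact hp_13
      · exact hp_14
      · exact hp_15
      · exact hp_16
      · exact hp_17
      · exact hp_18
      · exact hp_19
    exact Nat.eq_of_beq_eq_true (rangeAll_spec h q (Nat.zero_le _) (by omega))
  · have h := range_of (p := fun g => Core.allL (fun a => Nat.blt a 20) (prog g)) (lo := 20) (len := 21) (hi := 41) hltv_ck rfl g (not_lt.1 hr) hg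
    exact Fv_prog (not_lt.1 hr) (fun a ha => blt_lt ((Core.allL_eq_true _ _).1 h a ha)) q

theorem hds : LevsC n 41 F [] ds := ⟨fun s hs => range_of (p := levOK n F dL0) (lo := 0) (len := 122760) (hi := 122760) dL0_lv rfl s (Nat.zero_le _) hs, by decide +kernel, by decide +kernel, dL0_fx, by decide +kernel, ⟨fun s hs => range_of (p := levOK n F dL1) (lo := 0) (len := 58653) (hi := 58653) dL1_lv rfl s (Nat.zero_le _) hs, by decide +kernel, by decide +kernel, dL1_fx, by decide +kernel, ⟨fun s hs => range_of (p := levOK n F dL2) (lo := 0) (len := 32) (hi := 32) dL2_lv rfl s (Nat.zero_le _) hs, by decide +kernel, by decide +kernel, dL2_fx, by decide +kernel, ⟨fun s hs => range_of (p := levOK n F dL3) (lo := 0) (len := 2) (hi := 2) dL3_lv rfl s (Nat.zero_le _) hs, by decide +kernel, by decide +kernel, dL3_fx, by decide +kernel, trivial⟩⟩⟩⟩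

theorem hcs : LevsC n 41 F [] cs := ⟨fun s hs => range_of (p := levOK n F cL0) (lo := 0) (len := 120) (hi := 120) cL0_lv rfl s (Nat.zero_le _) hs, by decide +kernel, by decide +kernel, cL0_fx, by decide +kernel, ⟨fun s hs => range_of (p := levOK n F cL1) (lo := 0) (len := 16) (hi := 16) cL1_lv rfl s (Nat.zero_le _) hs, by decide +kernel, by decide +kernel, cL1_fx, by decide +kernel, ⟨fun s hs => range_of (p := levOK n F cL2) (lo := 0) (len := 6) (hi := 6) cL2_lv rfl s (Nat.zero_le _) hs, by decide +kernel, by decide +kernel, cL2_fx, by decide +kernel, ⟨fun s hs => range_of (p := levOK n F cL3) (lo := 0) (len := 2) (hi := 2) cL3_lv rfl s (Nat.zero_le _) hs, by decide +kernel, by decide +kernel, cL3_fx, by decide +kernel, ⟨fun s hs => range_of (p := levOK n F cL4) (lo := 0) (len := 7) (hi := 7) cL4_lv rfl s (Nat.zero_le _) hs, by decide +kernel, by decide +kernel, cL4_fx, by decide +kernel, trivial⟩⟩⟩⟩⟩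

theorem hdsm : ∀ d ∈ ds, d.off + d.cnt ≤ 41 := by
  have h : Core.allL (fun d => Nat.ble (d.off + d.cnt) 41) ds = true := by decide +kernel
  exact fun d hd => Nat.le_of_ble_eq_true ((Core.allL_eq_true _ _).1 h d hd)

theorem hcomm : ∀ d ∈ cs, d.off + d.cnt ≤ 41 ∧ ∀ g, d.off ≤ g → g < d.off + d.cnt → ∀ b ∈ Bs, F g (F 8 b) = F 8 (F g b) := by
  intro d hd
  simp only [cs, List.mem_cons, List.not_mem_nil, or_false] at hd
  rcases hd with rfl | rfl | rfl | rfl | rfl
  · refine ⟨by decide +kernel, fun g h1 h2 b hb => ?_⟩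
    have h := rangeAll_spec cL0_cm g h1 (by simpa [cL0] using h2)
    exact Nat.eq_of_beq_eq_true ((Core.allL_eq_true _ _).1 h b hb)
  · refine ⟨by decide +kernel, fun g h1 h2 b hb => ?_⟩
    have h := rangeAll_spec cL1_cm g h1 (by simpa [cL1] using h2)
    exact Nat.eq_of_beq_eq_true ((Core.allL_eq_true _ _).1 h b hb)
  · refine ⟨by decide +kernel, fun g h1 h2 b hb => ?_⟩
    have h := rangeAll_spec cL2_cm g h1 (by simpa [cL2] using h2)
    exact Nat.eq_of_beq_eq_true ((Core.allL_eq_true _ _).1 h b hb)
  · refine ⟨by decide +kernel, fun g h1 h2 b hb => ?_⟩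
    have h := rangeAll_spec cL3_cm g h1 (by simpa [cL3] using h2)
    exact Nat.eq_of_beq_eq_true ((Core.allL_eq_true _ _).1 h b hb)
  · refine ⟨by decide +kernel, fun g h1 h2 b hb => ?_⟩
    have h := rangeAll_spec cL4_cm g h1 (by simpa [cL4] using h2)
    exact Nat.eq_of_beq_eq_true ((Core.allL_eq_true _ _).1 h b hb)

theorem hS : SS.OK n 41 (31 * DD.L) F (famV F 18 31 DD) (fun _ => 0) (fun _ => []) 0 Bs where
  hoff := by decide +kernel
  hBs := by
    have h : Core.allL (fun q => Nat.blt q n) Bs = true := by decide +kernel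
    exact fun q hq => blt_lt ((Core.allL_eq_true _ _).1 h q hq)
  hrel := by
    intro k hk
    have hk' : k < 9 := hk
    clear hk
    interval_cases k
    · exact prel_0
    · exact prel_1
    · exact prel_2
    · exact prel_3
    · exact prel_4
    · exact prel_5
    · exact prel_6
    · exact prel_7
    · exact prel_8
  hW := by
    intro k hk
    have hk' : k < 9 := hk
    clear hk
    interval_cases k
    · exact pW_0
    · exact pW_1
    · exact pW_2
    · exact pW_3
    · exact pW_4
    · exact pW_5
    · exact pW_6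
    · exact pW_7
    · exact pW_8
  hC := by
    intro l hl q hq
    have hl' : l < 2 := hl
    clear hl
    interval_cases l
    · exact rangeAll_spec pC_0 q (Nat.zero_le _) (by simpa [n] using hq)
    · exact rangeAll_spec pC_1 q (Nat.zero_le _) (by simpa [n] using hq)
  hkind := by
    intro i hi
    have h0 : (2 : Nat) ^ SS.a = 512 := by decide +kernel
    have hi' : i < 512 := by rw [← h0]; exact hi
    exact rangeAll_spec pk_ck i (Nat.zero_le _) (by omega)
  hwds := by
    intro j a_1 ha
    simp at ha

theorem hC : Common4 n 41 460815505920 161280 9 900030285 31 8 18 8 19 F prog ds cs DD SS Bs IX U1 U2 U3 WW 118330 11720 91933 rs wc where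
  hn := hn
  hlt := hlt
  hp := hp
  hds := hds
  hdsm := hdsm
  hprod := by decide +kernel
  hBs := by decide +kernel
  hgA := by decide
  hgt := by decide
  hgAi := by decide
  hDt := rfl
  hDc := by decide +kernel
  hDo := by decide +kernel
  hz := by
    intro g h1 h2 b hb
    have h := rangeAll_spec zinv_ck g h1 (by simpa [DD] using h2)
    exact Nat.eq_of_beq_eq_true ((Core.allL_eq_true _ _).1 h b hb)
  hcs := hcs
  hcomm := hcomm
  hc := by decide +kernel
  hLc := by decide +kernel
  hS := hS
  hP := by decide +kernel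
  hN2 := by decide +kernel
  hmm := by norm_num
  hb2 := fun b hb => Nat.eq_of_beq_eq_true ((Core.allL_eq_true _ _).1 b2_ck b hb)
  hb1 := ⟨1, by decide, b1_ck⟩
  hAp := fun b hb => Nat.eq_of_beq_eq_true ((Core.allL_eq_true _ _).1 Ap_ck b hb)
  hA1 := ⟨0, by decide, A1_ck⟩
  hp0 := by decide
  hAi := fun b hb => Nat.eq_of_beq_eq_true ((Core.allL_eq_true _ _).1 Ai_ck b hb)
  hid := fun q hq => Nat.eq_of_beq_eq_true (rangeAll_spec hid_ck q (Nat.zero_le _) (by simpa [n] using hq))
  hq1 := by decide
  hq2 := by decide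
  hq3 := by decide
  hU1 := fun e he => Nat.eq_of_beq_eq_true (rangeAll_spec hU1_ck e (Nat.zero_le _) (by omega))
  hU2 := fun e he => Nat.eq_of_beq_eq_true (rangeAll_spec hU2_ck e (Nat.zero_le _) (by omega))
  hU3 := fun e he => Nat.eq_of_beq_eq_true (rangeAll_spec hU3_ck e (Nat.zero_le _) (by omega))
  hmchk := by
    intro i hi
    have hi' : i < 92169 := hi
    exact (join_range (join_range (join_range (join_range (join_range (join_range (range_of (p := mP) (lo := 0) (len := 1000) (hi := 1000) mc_c0 rfl) (range_of (p := mP) (lo := 1000) (len := 1000) (hi := 2000) mc_c1 rfl)) (join_range (range_of (p := mP) (lo := 2000) (len := 1000) (hi := 3000) mc_c2 rfl) (join_range (range_of (p := mP) (lo := 3000) (len := 1000) (hi := 4000) mc_c3 rfl) (range_of (p := mP) (lo := 4000) (len := 1000) (hi := 5000) mc_c4 rfl)))) (join_range (join_range (range_of (p := mP) (lo := 5000) (len := 1000) (hi := 6000) mc_c5 rfl) (join_range (range_of (p := mP) (lo := 6000) (len := 1000) (hi := 7000) mc_c6 rfl) (range_of (p := mP) (lo := 7000)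 (len := 1000) (hi := 8000) mc_c7 rfl))) (join_range (range_of (p := mP) (lo := 8000) (len := 1000) (hi := 9000) mc_c8 rfl) (join_range (range_of (p := mP) (lo := 9000) (len := 1000) (hi := 10000) mc_c9 rfl) (range_of (p := mP) (lo := 10000) (len := 1000) (hi := 11000) mc_c10 rfl))))) (join_range (join_range (join_range (range_of (p := mP) (lo := 11000) (len := 1000) (hi := 12000) mc_c11 rfl) (join_range (range_of (p := mP) (lo := 12000) (len := 1000) (hi := 13000) mc_c12 rfl) (range_of (p := mP) (lo := 13000) (len := 1000) (hi := 14000) mc_c13 rfl))) (join_range (range_of (p := mP) (lo := 14000) (len := 1000) (hi := 15000) mc_c14 rfl) (join_range (range_of (p := mP) (lo := 15000) (len := 1000) (hi := 16000) mc_c15 rfl) (range_of (p := mP) (lo := 16000) (len := 1000) (hi := 17000) mc_c16 rfl)))) (join_range (join_range (range_of (p := mP) (lo := 17000) (len := 1000) (hi := 18000) mc_c17 rfl) (join_range (range_of (p := mP) (lo := 18000) (len := 1000) (hi := 19000) mc_c18 rfl) (range_of (p := mP) (lo := 19000) (len := 1000)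 (hi := 20000) mc_c19 rfl))) (join_range (range_of (p := mP) (lo := 20000) (len := 1000) (hi := 21000) mc_c20 rfl) (join_range (range_of (p := mP) (lo := 21000) (len := 1000) (hi := 22000) mc_c21 rfl) (range_of (p := mP) (lo := 22000) (len := 1000) (hi := 23000) mc_c22 rfl)))))) (join_range (join_range (join_range (join_range (range_of (p := mP) (lo := 23000) (len := 1000) (hi := 24000) mc_c23 rfl) (range_of (p := mP) (lo := 24000) (len := 1000) (hi := 25000) mc_c24 rfl)) (join_range (range_of (p := mP) (lo := 25000) (len := 1000) (hi := 26000) mc_c25 rfl) (join_range (range_of (p := mP) (lo := 26000) (len := 1000) (hi := 27000) mc_c26 rfl) (range_of (p := mP) (lo := 27000) (len := 1000) (hi := 28000) mc_c27 rfl)))) (join_range (join_range (range_of (p := mP) (lo := 28000) (len := 1000) (hi := 29000) mc_c28 rfl) (join_range (range_of (p := mP) (lo := 29000) (len := 1000) (hi := 30000) mc_c29 rfl) (range_of (p := mP) (lo := 30000) (len := 1000) (hi := 31000) mc_c30 rfl))) (join_range (range_of (p := mP) (lo := 31000) (len :=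 1000) (hi := 32000) mc_c31 rfl) (join_range (range_of (p := mP) (lo := 32000) (len := 1000) (hi := 33000) mc_c32 rfl) (range_of (p := mP) (lo := 33000) (len := 1000) (hi := 34000) mc_c33 rfl))))) (join_range (join_range (join_range (range_of (p := mP) (lo := 34000) (len := 1000) (hi := 35000) mc_c34 rfl) (join_range (range_of (p := mP) (lo := 35000) (len := 1000) (hi := 36000) mc_c35 rfl) (range_of (p := mP) (lo := 36000) (len := 1000) (hi := 37000) mc_c36 rfl))) (join_range (range_of (p := mP) (lo := 37000) (len := 1000) (hi := 38000) mc_c37 rfl) (join_range (range_of (p := mP) (lo := 38000) (len := 1000) (hi := 39000) mc_c38 rfl) (range_of (p := mP) (lo := 39000) (len := 1000) (hi := 40000) mc_c39 rfl)))) (join_range (join_range (range_of (p := mP) (lo := 40000) (len := 1000) (hi := 41000) mc_c40 rfl) (join_range (range_of (p := mP) (lo := 41000) (len := 1000) (hi := 42000) mc_c41 rfl) (range_of (p := mP) (lo := 42000) (len := 1000) (hi := 43000) mc_c42 rfl))) (join_range (range_of (p := mP) (lo := 43000) (len := 1000)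 (hi := 44000) mc_c43 rfl) (join_range (range_of (p := mP) (lo := 44000) (len := 1000) (hi := 45000) mc_c44 rfl) (range_of (p := mP) (lo := 45000) (len := 1000) (hi := 46000) mc_c45 rfl))))))) (join_range (join_range (join_range (join_range (join_range (range_of (p := mP) (lo := 46000) (len := 1000) (hi := 47000) mc_c46 rfl) (range_of (p := mP) (lo := 47000) (len := 1000) (hi := 48000) mc_c47 rfl)) (join_range (range_of (p := mP) (lo := 48000) (len := 1000) (hi := 49000) mc_c48 rfl) (join_range (range_of (p := mP) (lo := 49000) (len := 1000) (hi := 50000) mc_c49 rfl) (range_of (p := mP) (lo := 50000) (len := 1000) (hi := 51000) mc_c50 rfl)))) (join_range (join_range (range_of (p := mP) (lo := 51000) (len := 1000) (hi := 52000) mc_c51 rfl) (join_range (range_of (p := mP) (lo := 52000) (len := 1000) (hi := 53000) mc_c52 rfl) (range_of (p := mP) (lo := 53000) (len := 1000) (hi := 54000) mc_c53 rfl))) (join_range (range_of (p := mP) (lo := 54000) (len := 1000) (hi := 55000) mc_c54 rfl) (join_range (range_of (p := mP) (lo := 55000)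 (len := 1000) (hi := 56000) mc_c55 rfl) (range_of (p := mP) (lo := 56000) (len := 1000) (hi := 57000) mc_c56 rfl))))) (join_range (join_range (join_range (range_of (p := mP) (lo := 57000) (len := 1000) (hi := 58000) mc_c57 rfl) (join_range (range_of (p := mP) (lo := 58000) (len := 1000) (hi := 59000) mc_c58 rfl) (range_of (p := mP) (lo := 59000) (len := 1000) (hi := 60000) mc_c59 rfl))) (join_range (range_of (p := mP) (lo := 60000) (len := 1000) (hi := 61000) mc_c60 rfl) (join_range (range_of (p := mP) (lo := 61000) (len := 1000) (hi := 62000) mc_c61 rfl) (range_of (p := mP) (lo := 62000) (len := 1000) (hi := 63000) mc_c62 rfl)))) (join_range (join_range (range_of (p := mP) (lo := 63000) (len := 1000) (hi := 64000) mc_c63 rfl) (join_range (range_of (p := mP) (lo := 64000) (len := 1000) (hi := 65000) mc_c64 rfl) (range_of (p := mP) (lo := 65000) (len := 1000) (hi := 66000) mc_c65 rfl))) (join_range (range_of (p := mP) (lo := 66000) (len := 1000) (hi := 67000) mc_c66 rfl) (join_range (range_of (p := mP) (lo := 67000) (len :=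 1000) (hi := 68000) mc_c67 rfl) (range_of (p := mP) (lo := 68000) (len := 1000) (hi := 69000) mc_c68 rfl)))))) (join_range (join_range (join_range (join_range (range_of (p := mP) (lo := 69000) (len := 1000) (hi := 70000) mc_c69 rfl) (join_range (range_of (p := mP) (lo := 70000) (len := 1000) (hi := 71000) mc_c70 rfl) (range_of (p := mP) (lo := 71000) (len := 1000) (hi := 72000) mc_c71 rfl))) (join_range (range_of (p := mP) (lo := 72000) (len := 1000) (hi := 73000) mc_c72 rfl) (join_range (range_of (p := mP) (lo := 73000) (len := 1000) (hi := 74000) mc_c73 rfl) (range_of (p := mP) (lo := 74000) (len := 1000) (hi := 75000) mc_c74 rfl)))) (join_range (join_range (range_of (p := mP) (lo := 75000) (len := 1000) (hi := 76000) mc_c75 rfl) (join_range (range_of (p := mP) (lo := 76000) (len := 1000) (hi := 77000) mc_c76 rfl) (range_of (p := mP) (lo := 77000) (len := 1000) (hi := 78000) mc_c77 rfl))) (join_range (range_of (p := mP) (lo := 78000) (len := 1000) (hi := 79000) mc_c78 rfl) (join_range (range_of (p := mP) (lo := 79000) (len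 := 1000) (hi := 80000) mc_c79 rfl) (range_of (p := mP) (lo := 80000) (len := 1000) (hi := 81000) mc_c80 rfl))))) (join_range (join_range (join_range (range_of (p := mP) (lo := 81000) (len := 1000) (hi := 82000) mc_c81 rfl) (join_range (range_of (p := mP) (lo := 82000) (len := 1000) (hi := 83000) mc_c82 rfl) (range_of (p := mP) (lo := 83000) (len := 1000) (hi := 84000) mc_c83 rfl))) (join_range (range_of (p := mP) (lo := 84000) (len := 1000) (hi := 85000) mc_c84 rfl) (join_range (range_of (p := mP) (lo := 85000) (len := 1000) (hi := 86000) mc_c85 rfl) (range_of (p := mP) (lo := 86000) (len := 1000) (hi := 87000) mc_c86 rfl)))) (join_range (join_range (range_of (p := mP) (lo := 87000) (len := 1000) (hi := 88000) mc_c87 rfl) (join_range (range_of (p := mP) (lo := 88000) (len := 1000) (hi := 89000) mc_c88 rfl) (range_of (p := mP) (lo := 89000) (len := 1000) (hi := 90000) mc_c89 rfl))) (join_range (range_of (p := mP) (lo := 90000) (len := 1000) (hi := 91000) mc_c90 rfl) (join_range (range_of (p := mP) (lo := 91000) (len := 1000)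 (hi := 92000) mc_c91 rfl) (range_of (p := mP) (lo := 92000) (len := 169) (hi := 92169) mc_c92 rfl)))))))) i (Nat.zero_le _) hi'
  hsrt := by
    have h : ∀ j, 0 ≤ j → j < 92168 → Nat.div (WW j) 1024 < Nat.div (WW (j + 1)) 1024 := by
      exact (fun j h1 h2 => sortR_spec srt_c0 j h1 (by omega))
    intro j hj
    have hL : DD.L = 92169 := rfl
    exact h j (Nat.zero_le _) (by omega)
  hq := by
    have h : Core.allL (fun r => Nat.blt r.2.2 n) rs = true := by decide +kernel
    exact fun r hr => blt_lt ((Core.allL_eq_true _ _).1 h r hr)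
  hchk := by
    intro i hi
    have hi' : i < 92169 := hi
    exact (join_range (join_range (join_range (range_of (p := (rchk F 18 DD rs [DD.r0])) (lo := 0) (len := 10000) (hi := 10000) rc_c0 rfl) (range_of (p := (rchk F 18 DD rs [DD.r0])) (lo := 10000) (len := 10000) (hi := 20000) rc_c1 rfl)) (join_range (range_of (p := (rchk F 18 DD rs [DD.r0])) (lo := 20000) (len := 10000) (hi := 30000) rc_c2 rfl) (join_range (range_of (p := (rchk F 18 DD rs [DD.r0])) (lo := 30000) (len := 10000) (hi := 40000) rc_c3 rfl) (range_of (p := (rchk F 18 DD rs [DD.r0])) (lo := 40000) (len := 10000) (hi := 50000) rc_c4 rfl)))) (join_range (join_range (range_of (p := (rchk F 18 DD rs [DD.r0])) (lo := 50000) (len := 10000) (hi := 60000) rc_c5 rfl) (range_of (p := (rchk F 18 DD rs [DD.r0])) (lo := 60000) (len := 10000) (hi := 70000) rc_c6 rfl)) (join_range (range_of (p := (rchk F 18 DD rs [DD.r0])) (lo := 70000) (len := 10000) (hi := 80000) rc_c7 rfl) (join_range (range_of (p := (rchk F 18 DD rs [DD.r0])) (lo := 80000) (len := 10000) (hi := 90000)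 rc_c8 rfl) (range_of (p := (rchk F 18 DD rs [DD.r0])) (lo := 90000) (len := 2169) (hi := 92169) rc_c9 rfl))))) i (Nat.zero_le _) hi'
  hrel := by
    intro r hr b hb
    exact (Core.allL_eq_true _ _).1 ((Core.allL_eq_true _ _).1 rel_ck r hr) b hb
  hwc := by
    have h : Core.allL (fun w => Core.allL (fun a => Bool.or (Nat.beq a 18) (Bool.or (Nat.beq a 8) (Nat.beq a 19))) w) wcL = true := by decide +kernel
    intro c hc a ha
    have hc' : c < wcL.length := hc
    have h1 : wc c ∈ wcL := by
      unfold wc
      rw [List.getD_eq_getElem _ _ hc']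
      exact List.getElem_mem hc'
    have h2 := (Core.allL_eq_true _ _).1 ((Core.allL_eq_true _ _).1 h _ h1) a ha
    simp only [Bool.or_eq_true] at h2
    rcases h2 with h2 | h2 | h2
    · exact Or.inl (Nat.eq_of_beq_eq_true h2)
    · exact Or.inr (Or.inl (Nat.eq_of_beq_eq_true h2))
    · exact Or.inr (Or.inr (Nat.eq_of_beq_eq_true h2))
  hwcb := fun c hc b hb => Nat.eq_of_beq_eq_true ((Core.allL_eq_true _ _).1 (rangeAll_spec wc_ck c (Nat.zero_le _) (by omega)) b hb)
  hm0 := by decide

theorem hcr : ∀ b ∈ Bs, F 40 (F 18 b) = powA (F 18) 7 (F 40 b) := fun b hb =>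
  Nat.eq_of_beq_eq_true ((Core.allL_eq_true _ _).1 cr_ck b hb)


end Cfsg.Agent.Lib.PermComp.OutP.ONo
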